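import Cfsg.Agent.Omega.NO3S.PointTI

/-!
# The product of the `T`-conjugates of an element of a block

`exists_theta` : `θ ∈ J`, the `T`-conjugates of `J` commute pairwise, `[θ, N_T(J)] ≤ T ∩ J`: some `θ'` in the product
of the other `T`-conjugates of `J` has `[θ θ', T] ≤ ∏ (T ∩ J ^ s)`.
-/

set_option autoImplicit false

namespace Cfsg.Agent.Omega.NO3S.FarQ.Theta

open Subgroup Cfsg.Agent.Omega.NO3S.PT
open scoped Pointwise

variable {H : Type*} [Group H]

theorem noncommProd_equiv {ι : Type*} [Fintype ι] (f g : ι → H) (e : ι ≃ ι) (h : ∀ i, f i = g (e i))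
    (hf : ((Finset.univ : Finset ι) : Set ι).Pairwise (Function.onFun Commute f))
    (hg : ((Finset.univ : Finset ι) : Set ι).Pairwise (Function.onFun Commute g)) :
    Finset.univ.noncommProd f hf = Finset.univ.noncommProd g hg := by
  have h1 : Multiset.map f (Finset.univ : Finset ι).val = Multiset.map g (Finset.univ : Finset ι).val := by
    have h2 : Multiset.map g (Finset.univ : Finset ι).val =
        Multiset.map g (Multiset.map e (Finset.univ : Finset ι).val) := by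
      rw [Multiset.map_univ_val_equiv e]
    rw [h2, Multiset.map_map]
    exact Multiset.map_congr rfl fun i _ => h i
  unfold Finset.noncommProd
  congr 1

theorem exists_theta [Finite H] {T J : Subgroup H} {θ : H} (hθ : θ ∈ J)
    (hc : ∀ s ∈ T, ∀ t ∈ T, cj s J ≠ cj t J → ∀ x ∈ cj s J, ∀ y ∈ cj t J, x * y = y * x)
    (hT : ∀ t ∈ T, cj t J = J → t * θ * t⁻¹ * θ⁻¹ ∈ T ⊓ J) :
    ∃ θ' ∈ closure {x : H | ∃ t ∈ T, cj t J ≠ J ∧ x ∈ cj t J},
      ∀ t ∈ T, t * (θ * θ') * t⁻¹ * (θ * θ')⁻¹ ∈ closure {x : H | ∃ s ∈ T, x ∈ T ⊓ cj s J} := by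
  classical
  let ι := {K : Subgroup H // ∃ t ∈ T, K = cj t J}
  have : Finite ι := by infer_instance
  have : Fintype ι := Fintype.ofFinite ι
  let j₀ : ι := ⟨J, 1, T.one_mem, (cj_one J).symm⟩
  have hr : ∀ K : ι, ∃ t ∈ T, K.1 = cj t J ∧ (K = j₀ → t = 1) := by
    intro K
    by_cases hK : K = j₀
    · exact ⟨1, T.one_mem, by rw [cj_one, hK], fun _ => rfl⟩
    · obtain ⟨t, ht, hK'⟩ := K.2
      exact ⟨t, ht, hK', fun h => absurd h hK⟩
  choose r hr1 hr2 hr3 using hr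
  let f : ι → H := fun K => r K * θ * (r K)⁻¹
  have hf : ∀ K, f K ∈ K.1 := by
    intro K
    rw [hr2 K]
    exact conj_mem_cj hθ
  have hcomm : ∀ K K' : ι, K ≠ K' → ∀ x ∈ K.1, ∀ y ∈ K'.1, Commute x y := by
    intro K K' hne x hx y hy
    rw [hr2 K] at hx
    rw [hr2 K'] at hy
    refine hc _ (hr1 K) _ (hr1 K') (fun e => hne ?_) x hx y hy
    exact Subtype.ext (by rw [hr2 K, hr2 K', e])
  have hff : ((Finset.univ : Finset ι) : Set ι).Pairwise (Function.onFun Commute f) :=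
    fun K _ K' _ hne => hcomm K K' hne _ (hf K) _ (hf K')
  -- the action of `T`
  have hσ : ∀ t ∈ T, ∃ σ : ι ≃ ι, ∀ K, (σ K).1 = cj t K.1 := by
    intro t ht
    have h1 : ∀ s ∈ T, ∀ K : ι, ∃ u ∈ T, cj s K.1 = cj u J := by
      intro s hs K
      refine ⟨s * r K, T.mul_mem hs (hr1 K), ?_⟩
      rw [← cj_cj, ← hr2 K]
    refine ⟨⟨fun K => ⟨cj t K.1, h1 t ht K⟩, fun K => ⟨cj t⁻¹ K.1, h1 _ (T.inv_mem ht) K⟩, ?_, ?_⟩,
      fun K => rfl⟩
    · intro K
      refine Subtype.ext ?_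
      show cj t⁻¹ (cj t K.1) = K.1
      rw [cj_cj, inv_mul_cancel, cj_one]
    · intro K
      refine Subtype.ext ?_
      show cj t (cj t⁻¹ K.1) = K.1
      rw [cj_cj, mul_inv_cancel, cj_one]
  have hmain : f j₀ * (Finset.univ.erase j₀).noncommProd f
      (fun _ hx _ hy hxy ↦ hff (Finset.mem_of_mem_erase hx) (Finset.mem_of_mem_erase hy) hxy) =
      Finset.univ.noncommProd f hff :=
    Finset.mul_noncommProd_erase Finset.univ (Finset.mem_univ j₀) f hff
  have hf0 : f j₀ = θ := by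
    show r j₀ * θ * (r j₀)⁻¹ = θ
    rw [hr3 j₀ rfl]; group
  rw [hf0] at hmain
  refine ⟨(Finset.univ.erase j₀).noncommProd f
      (fun _ hx _ hy hxy ↦ hff (Finset.mem_of_mem_erase hx) (Finset.mem_of_mem_erase hy) hxy),
      ?_, fun t ht => ?_⟩
  · exact noncommProd_mem (K := closure {x : H | ∃ t ∈ T, cj t J ≠ J ∧ x ∈ cj t J})
      (fun _ hx _ hy hxy ↦ hff (Finset.mem_of_mem_erase hx) (Finset.mem_of_mem_erase hy) hxy) fun K hK => by
        refine subset_closure ⟨r K, hr1 K, ?_, ?_⟩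
        · intro e
          refine Finset.ne_of_mem_erase hK (Subtype.ext ?_)
          rw [hr2 K, e]
        · rw [← hr2 K]; exact hf K
  · rw [hmain]
    obtain ⟨σ, hσ⟩ := hσ t ht
    -- `t (f K) t⁻¹ ∈ (T ∩ σ K) f (σ K)`
    have key : ∀ K, t * f K * t⁻¹ * (f (σ K))⁻¹ ∈ T ⊓ (σ K).1 := by
      intro K
      set u : H := (r (σ K))⁻¹ * t * r K with hu
      have huT : u ∈ T := T.mul_mem (T.mul_mem (T.inv_mem (hr1 _)) ht) (hr1 K)
      have huJ : cj u J = J := by
        rw [hu, ← cj_cj, ← cj_cj, ← hr2 K, ← hσ K, hr2 (σ K), cj_cj, inv_mul_cancel, cj_one]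
      have h1 := hT u huT huJ
      have e : t * f K * t⁻¹ * (f (σ K))⁻¹ = r (σ K) * (u * θ * u⁻¹ * θ⁻¹) * (r (σ K))⁻¹ := by
        show t * (r K * θ * (r K)⁻¹) * t⁻¹ * (r (σ K) * θ * (r (σ K))⁻¹)⁻¹ = _
        rw [hu]; group
      rw [e]
      refine ⟨T.mul_mem (T.mul_mem (hr1 _) h1.1) (T.inv_mem (hr1 _)), ?_⟩
      have h2 : r (σ K) * (u * θ * u⁻¹ * θ⁻¹) * (r (σ K))⁻¹ ∈ cj (r (σ K)) J := conj_mem_cj h1.2
      rw [← hr2 (σ K)] at h2
      exact h2
    let c : ι → H := fun K => t * f (σ.symm K) * t⁻¹ * (f K)⁻¹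
    have hcm : ∀ K, c K ∈ T ⊓ K.1 := by
      intro K
      have := key (σ.symm K)
      rw [σ.apply_symm_apply] at this
      exact this
    have hcc : ((Finset.univ : Finset ι) : Set ι).Pairwise (Function.onFun Commute c) :=
      fun K _ K' _ hne => hcomm K K' hne _ (hcm K).2 _ (hcm K').2
    have hgf : ((Finset.univ : Finset ι) : Set ι).Pairwise fun x y => Commute (f x) (c y) :=
      fun K _ K' _ hne => hcomm K K' hne _ (hf K) _ (hcm K').2
    have e1 := Finset.map_noncommProd Finset.univ f hff (MulAut.conj t)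
    have e2 : Finset.univ.noncommProd (fun K => MulAut.conj t (f K))
        (fun _ hx _ hy _ => (hff.of_refl hx hy).map (MulAut.conj t)) =
        Finset.univ.noncommProd (c * f) (Finset.noncommProd_mul_distrib_aux hcc hff hgf) := by
      refine noncommProd_equiv _ _ σ (fun K => ?_) _ _
      show t * f K * t⁻¹ = (t * f (σ.symm (σ K)) * t⁻¹ * (f (σ K))⁻¹) * f (σ K)
      rw [σ.symm_apply_apply]
      group
    rw [e2, Finset.noncommProd_mul_distrib c f hcc hff hgf] at e1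
    have e3 : t * Finset.univ.noncommProd f hff * t⁻¹ = Finset.univ.noncommProd c hcc *
      Finset.univ.noncommProd f hff := e1
    rw [e3, mul_inv_cancel_right]
    exact noncommProd_mem (K := closure {x : H | ∃ s ∈ T, x ∈ T ⊓ cj s J}) hcc fun K _ =>
      subset_closure ⟨r K, hr1 K, by rw [← hr2 K]; exact hcm K⟩

end Cfsg.Agent.Omega.NO3S.FarQ.Theta
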