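import Cfsg.Agent.Omega.NO3S.PtGeom
import Cfsg.Agent.Omega.NO3S.Lin

/-!
# Points and lines of NO-3S without (F1): (T1)

`Geo` : the part of `NOThree.Pts.Geom` which does not use (F1), (F2); `Geo.low`, `Geo.low_line` : (T1);
`geo` : the instance from `PL S P V Z`; `geo_crit` : critical pairs.
-/

set_option autoImplicit false
set_option linter.unusedSectionVars false
set_option linter.unusedVariables false

namespace Cfsg.Agent.Omega.NO3S.FarQ.FOneGeo

open Subgroup Cfsg Cfsg.Agent.ZN Cfsg.Agent.MinSimple.VModule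
open Cfsg.Agent.Omega.NOThree.Pts (Walk Com Crit mem_normalizer_of_conj conj_mem_of_le_normalizer cg)

variable {G X L : Type*} [Group G] [MulAction G X] [MulAction G L]

/-- points and lines, without (F1) and (F2) -/
structure Geo (inc : X → L → Prop) (R W : X → Subgroup G) (V : L → Subgroup G) : Prop where
  inc_smul : ∀ (g : G) (x : X) (l : L), inc x l → inc (g • x) (g • l)
  R_smul : ∀ (g : G) (x : X), ∀ a ∈ R x, g * a * g⁻¹ ∈ R (g • x)
  W_smul : ∀ (g : G) (x : X), ∀ a ∈ W x, g * a * g⁻¹ ∈ W (g • x)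
  V_smul : ∀ (g : G) (l : L), ∀ a ∈ V l, g * a * g⁻¹ ∈ V (g • l)
  exists_ne : ∀ x, ∃ a ∈ R x, a ≠ 1
  ti : ∀ x y, ∀ a ∈ R x, a ∈ R y → a ≠ 1 → x = y
  R_le : ∀ x l, inc x l → R x ≤ V l
  V_le : ∀ x l, inc x l → V l ≤ W x
  exists_line : ∀ x, ∃ l, inc x l
  comm : ∀ x, ∀ a ∈ W x, ∀ b ∈ W x, a * b = b * a
  sq : ∀ x, ∀ a ∈ W x, a * a = 1

variable {inc : X → L → Prop} {R W : X → Subgroup G} {V : L → Subgroup G} {n : ℕ}

namespace Geo

variable (D : Geo inc R W V)
include D

theorem R_le_W (x : X) : R x ≤ W x := by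
  obtain ⟨l, hl⟩ := D.exists_line x
  exact (D.R_le x l hl).trans (D.V_le x l hl)

theorem R_smul_iff (g : G) {x : X} {a : G} : a ∈ R (g • x) ↔ g⁻¹ * a * g ∈ R x := by
  constructor
  · intro h
    have := D.R_smul g⁻¹ _ a h
    rwa [inv_smul_smul, inv_inv] at this
  · intro h
    have := D.R_smul g _ _ h
    have e : g * (g⁻¹ * a * g) * g⁻¹ = a := by group
    rwa [e] at this

/-- An element commuting with `1 ≠ a ∈ R x` fixes `x`. -/
theorem fix {x : X} {a g : G} (ha : a ∈ R x) (ha1 : a ≠ 1) (hg : g * a = a * g) : g • x = x := by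
  refine D.ti _ _ a ?_ ha ha1
  rw [D.R_smul_iff]
  have e : g⁻¹ * a * g = a := by
    rw [mul_assoc, ← hg]; group
  rwa [e]

theorem fix_of_centralizes {x : X} {g : G} (hg : ∀ a ∈ R x, g * a = a * g) : g • x = x := by
  obtain ⟨a, ha, ha1⟩ := D.exists_ne x
  exact D.fix ha ha1 (hg a ha)

theorem norm_W {x : X} {g : G} (hg : g • x = x) {a : G} (ha : a ∈ W x) : g * a * g⁻¹ ∈ W x := by
  have := D.W_smul g x a ha
  rwa [hg] at this

theorem norm_R {x : X} {g : G} (hg : g • x = x) {a : G} (ha : a ∈ R x) : g * a * g⁻¹ ∈ R x := by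
  have := D.R_smul g x a ha
  rwa [hg] at this

theorem W_fix {x : X} {g : G} (hg : g ∈ W x) : g • x = x :=
  D.fix_of_centralizes fun a ha => D.comm x g hg a (D.R_le_W x ha)

theorem W_isPGroup (x : X) : IsPGroup 2 (W x) := by
  intro a
  exact ⟨1, Subtype.ext (by
    have := D.sq x a a.2
    rw [pow_one, pow_two]
    exact this)⟩

theorem W_le_stab (x : X) : W x ≤ MulAction.stabilizer G x := fun _ ha => D.W_fix ha

theorem W_le_o2 (x : X) : W x ≤ o2 (MulAction.stabilizer G x) :=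
  le_o2 (D.W_le_stab x) (D.W_isPGroup x) (mem_normalizer_of_conj fun _ hg _ ha => D.norm_W hg ha)

theorem cent_V_le {x : X} {l : L} (hx : inc x l) : centralizer (V l : Set G) ≤ MulAction.stabilizer G x :=
  fun _ hg => D.fix_of_centralizes fun a ha => (mem_centralizer_iff.1 hg a (D.R_le x l hx ha)).symm

theorem cent_W_le (x : X) : centralizer (W x : Set G) ≤ MulAction.stabilizer G x :=
  fun _ hg => D.fix_of_centralizes fun a ha => (mem_centralizer_iff.1 hg a (D.R_le_W x ha)).symm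

/-- A subgroup of `O₂(G_x)` centralising `V_l`, `l` on `x`, lies in `O₂(C_G(V_l))`. -/
theorem le_o2_cent {x : X} {l : L} (hx : inc x l) {A : Subgroup G} (hA : A ≤ o2 (MulAction.stabilizer G x))
    (hA' : A ≤ centralizer (V l : Set G)) : A ≤ o2 (centralizer (V l : Set G)) := by
  have h1 : centralizer (V l : Set G) ≤
      normalizer ((o2 (MulAction.stabilizer G x) ⊓ centralizer (V l : Set G) : Subgroup G) : Set G) := by
    refine mem_normalizer_of_conj fun g hg a ha => ⟨?_, ?_⟩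
    · exact conj_mem_of_le_normalizer (le_normalizer_o2 _) (D.cent_V_le hx hg) ha.1
    · exact Subgroup.mul_mem _ (Subgroup.mul_mem _ hg ha.2) (Subgroup.inv_mem _ hg)
  exact (le_inf hA hA').trans (le_o2 inf_le_right ((o2_isPGroup _).to_le inf_le_left) h1)

/-- A subgroup of `O₂(C_G(V_l))` centralising `W_x`, `l` on `x`, lies in `O₂(G_x)`. -/
theorem le_o2_stab {x : X} {l : L} (hx : inc x l) {A : Subgroup G} (hA : A ≤ o2 (centralizer (V l : Set G)))
    (hA' : A ≤ centralizer (W x : Set G)) : A ≤ o2 (MulAction.stabilizer G x) := by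
  have hWV : centralizer (W x : Set G) ≤ centralizer (V l : Set G) := centralizer_le (D.V_le x l hx)
  have h1 : centralizer (W x : Set G) ≤
      normalizer ((o2 (centralizer (V l : Set G)) ⊓ centralizer (W x : Set G) : Subgroup G) : Set G) := by
    refine mem_normalizer_of_conj fun g hg a ha => ⟨?_, ?_⟩
    · exact conj_mem_of_le_normalizer (le_normalizer_o2 _) (hWV hg) ha.1
    · exact Subgroup.mul_mem _ (Subgroup.mul_mem _ hg ha.2) (Subgroup.inv_mem _ hg)
  have h2 : A ≤ o2 (centralizer (W x : Set G)) :=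
    (le_inf hA hA').trans (le_o2 inf_le_right ((o2_isPGroup _).to_le inf_le_left) h1)
  refine h2.trans (le_o2 ((o2_le _).trans (D.cent_W_le x)) (o2_isPGroup _) ?_)
  refine le_trans ?_ (Omega.normalizer_le_normalizer_o2' _)
  refine mem_normalizer_of_conj fun g hg a ha => ?_
  rw [mem_centralizer_iff] at ha ⊢
  intro w hw
  have hw' : g⁻¹ * w * g ∈ W x := by
    have := D.norm_W (g := g⁻¹) (by
      have hg' : g • x = x := hg
      rw [inv_smul_eq_iff, hg']) hw
    rwa [inv_inv] at this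
  have h3 := cg g (ha _ hw')
  have e1 : g * (g⁻¹ * w * g * a) * g⁻¹ = w * (g * a * g⁻¹) := by group
  have e2 : g * (a * (g⁻¹ * w * g)) * g⁻¹ = g * a * g⁻¹ * w := by group
  rwa [e1, e2] at h3

theorem le_cent_of_com {x y : X} (h : Com W x y) : W x ≤ centralizer (W y : Set G) := fun a ha =>
  mem_centralizer_iff.2 fun b hb => (h a ha b hb).symm

/-- **(T1)** `W_x ≤ O₂(G_y)` if `x`, `y` are at distance `≤ n` and `W_x`, `W_y` commute. -/
theorem low (hmin : ∀ k < n, ∀ a b, Walk inc k a b → Com W a b) {k : ℕ} {x y : X} (h : Walk inc k x y)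
    (hk : k ≤ n) (hc : Com W x y) : W x ≤ o2 (MulAction.stabilizer G y) := by
  induction h with
  | zero x => exact D.W_le_o2 x
  | @step k x y z l h hy hz ih =>
    have hc' : Com W x y := hmin k (by omega) _ _ h
    have h1 := ih (by omega) hc'
    have h2 := D.le_o2_cent hy h1 ((D.le_cent_of_com hc').trans (centralizer_le (D.V_le y l hy)))
    exact D.le_o2_stab hz h2 (D.le_cent_of_com hc)

/-- `W_x ≤ O₂(C_G(V_l))`, `l` on `y`. -/
theorem low_line (hmin : ∀ k < n, ∀ a b, Walk inc k a b → Com W a b) {k : ℕ} {x y : X} (h : Walk inc k x y)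
    (hk : k ≤ n) (hc : Com W x y) {l : L} (hl : inc y l) : W x ≤ o2 (centralizer (V l : Set G)) :=
  D.le_o2_cent hl (D.low hmin h hk hc) ((D.le_cent_of_com hc).trans (centralizer_le (D.V_le y l hl)))

end Geo

/-! ### The instance -/

section instance_

open Cfsg.Agent.Omega.NO3S.PT Cfsg.Agent.Omega.NO3S.PtGeom
open scoped Pointwise

variable {G : Type*} [Group G] [Finite G] {S : Sylow 2 G} {P V Z : Subgroup G} (h : PL S P V Z)
include h

theorem geo : Geo (X := Pt Z) (L := Pt V) PtGeom.inc (fun x => x.sg) (fun x => ws V x.sg) (fun l => l.sg) where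
  inc_smul g x l hxl := cj_le_cj.2 hxl
  R_smul g x a ha := conj_mem_cj ha
  W_smul g x a ha := by
    rw [Pt.sg_smul, ws_cj]
    exact conj_mem_cj ha
  V_smul g l a ha := conj_mem_cj ha
  exists_ne x := h.pt_ne_bot x.isCj
  ti x y a ha ha' h1 := Pt.ext (h.pts_eq x.isCj y.isCj ha ha' h1)
  R_le x l hxl := hxl
  V_le x l hxl := le_ws l.isCj hxl
  exists_line x := by
    obtain ⟨g, hg⟩ := x.exists_smul
    refine ⟨Pt.mk ⟨g, rfl⟩, ?_⟩
    show x.sg ≤ cj g V
    rw [hg]
    exact cj_le_cj.2 h.ZV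
  comm x a ha b hb := (mem_centralizer_iff.1 (h.ws_comm x.isCj ha) b hb).symm
  sq x := ws_sq_pt h x.isCj

end instance_

end Cfsg.Agent.Omega.NO3S.FarQ.FOneGeo
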