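import Cfsg.Agent.Omega.NO3S.FarQ.Abs

/-!
# FarQ: realisation of `(H, M)` at a point (TEXT 263-Q)

`Real V X ρ π` : `ρ : G → H` restricts to a surjective homomorphism `C_G(X) → H` with kernel `kx V X` and
`π : G → M` restricts to a surjective homomorphism `ws V X → M` with kernel `X`, compatible with the actions.
-/

set_option autoImplicit false

namespace Cfsg.Agent.Omega.NO3S.FarQ

open Subgroup Cfsg.Agent.ZN Cfsg.Agent.Omega.NO3S.PT
open Cfsg.Agent.ClassTwoFusion.Quad (cv mem_cv cv_anti)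
open scoped Pointwise

variable {G H M : Type*} [Group G] [Group H] [CommGroup M] [MulDistribMulAction H M]

/-- **Realisation** of `(H, M)` at the point `X`. -/
structure Real (V X : Subgroup G) (ρ : G → H) (π : G → M) : Prop where
  mulρ : ∀ a ∈ centralizer (X : Set G), ∀ b ∈ centralizer (X : Set G), ρ (a * b) = ρ a * ρ b
  surjρ : ∀ h : H, ∃ a ∈ centralizer (X : Set G), ρ a = h
  kerρ : ∀ a ∈ centralizer (X : Set G), ρ a = 1 ↔ a ∈ kx V X
  mulπ : ∀ a ∈ ws V X, ∀ b ∈ ws V X, π (a * b) = π a * π b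
  surjπ : ∀ m : M, ∃ a ∈ ws V X, π a = m
  kerπ : ∀ a ∈ ws V X, π a = 1 ↔ a ∈ X
  act : ∀ g ∈ centralizer (X : Set G), ∀ w ∈ ws V X, π (g * w * g⁻¹) = ρ g • π w

/-- Transport of a realisation to the point `cj g X`. -/
theorem Real.cj {V X : Subgroup G} {ρ : G → H} {π : G → M} (r : Real V X ρ π) (g : G) :
    Real V (PT.cj g X) (fun a => ρ (g⁻¹ * a * g)) (fun w => π (g⁻¹ * w * g)) := by
  have hc : ∀ {a}, a ∈ centralizer ((PT.cj g X : Subgroup G) : Set G) → g⁻¹ * a * g ∈ centralizer (X : Set G) :=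
    fun {a} ha => by rwa [← cj_centralizer, mem_cj] at ha
  have hw : ∀ {a}, a ∈ ws V (PT.cj g X) → g⁻¹ * a * g ∈ ws V X := fun {a} ha => by rwa [ws_cj, mem_cj] at ha
  refine ⟨?_, ?_, ?_, ?_, ?_, ?_, ?_⟩
  · intro a ha b hb
    have e : g⁻¹ * (a * b) * g = (g⁻¹ * a * g) * (g⁻¹ * b * g) := by group
    show ρ (g⁻¹ * (a * b) * g) = _
    rw [e, r.mulρ _ (hc ha) _ (hc hb)]
  · intro h
    obtain ⟨a, ha, rfl⟩ := r.surjρ h
    refine ⟨g * a * g⁻¹, ?_, ?_⟩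
    · rw [← cj_centralizer]; exact conj_mem_cj ha
    · show ρ (g⁻¹ * (g * a * g⁻¹) * g) = ρ a
      congr 1; group
  · intro a ha
    show ρ (g⁻¹ * a * g) = 1 ↔ _
    rw [r.kerρ _ (hc ha), kx_cj, mem_cj]
  · intro a ha b hb
    have e : g⁻¹ * (a * b) * g = (g⁻¹ * a * g) * (g⁻¹ * b * g) := by group
    show π (g⁻¹ * (a * b) * g) = _
    rw [e, r.mulπ _ (hw ha) _ (hw hb)]
  · intro m
    obtain ⟨a, ha, rfl⟩ := r.surjπ m
    refine ⟨g * a * g⁻¹, ?_, ?_⟩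
    · rw [ws_cj]; exact conj_mem_cj ha
    · show π (g⁻¹ * (g * a * g⁻¹) * g) = π a
      congr 1; group
  · intro a ha
    show π (g⁻¹ * a * g) = 1 ↔ _
    rw [r.kerπ _ (hw ha), mem_cj]
  · intro a ha w hw'
    have e : g⁻¹ * (a * w * a⁻¹) * g = (g⁻¹ * a * g) * (g⁻¹ * w * g) * (g⁻¹ * a * g)⁻¹ := by group
    show π (g⁻¹ * (a * w * a⁻¹) * g) = _
    rw [e, r.act _ (hc ha) _ (hw hw')]

end Cfsg.Agent.Omega.NO3S.FarQ
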