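import Cfsg.Agent.Omega.NO3S.FarQ.FOneAbs
import Cfsg.Agent.Omega.NO3S.FarQ.FOneGeo
import Cfsg.Agent.Omega.NO3S.FarQ.RealDef
import Cfsg.Agent.MinSimple.CosetFam

/-!
# (F1) for `q ≥ 4` (bb OMEGA #15867)

* `PSf` : the K-input (fields of `PSq`, and `pf`, `cent`); `PSf.of_psq`;
* `hf_of` : `PL S P V Z`, `N_G(S) ≤ N_G(V)`, a critical pair at distance `n ≥ 1`, no over-offender in `O₂(C_H(lam))` and
  `PSf` imply (F1): `¬ kx V Z ≤ C_G(V)`.
-/

set_option autoImplicit false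
set_option linter.unusedSectionVars false

namespace Cfsg.Agent.Omega.NO3S.FarQ.FOne

open Subgroup Cfsg Cfsg.Agent.ZN Cfsg.Agent.MinSimple.VModule Cfsg.Agent.Omega.NO3S.PT Cfsg.Agent.Omega.NO3S.FarQ
open Cfsg.Agent.Omega.NO3S.PtGeom (Pt exists_conj_flag)
open Cfsg.Agent.Omega.NOThree.Pts (Walk Com Crit mem_normalizer_of_conj conj_mem_of_le_normalizer)
open Cfsg.Agent.ClassTwoFusion.Quad (cv mem_cv cv_anti)
open scoped Pointwise

/-! ### The K-input -/

section kin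

variable {H M : Type*} [Group H] [CommGroup M] [MulDistribMulAction H M]

/-- **The K-input for (F1), `q ≥ 4`.** -/
structure PSf (T : Subgroup H) (lam : Subgroup M) (Pi : Set (Subgroup H)) : Prop where
  conj : ∀ J ∈ Pi, ∀ h : H, cj h J ∈ Pi
  comm : ∀ J ∈ Pi, ∀ J' ∈ Pi, J ≠ J' → ∀ x ∈ J, ∀ y ∈ J', x * y = y * x
  em_le : ∀ J ∈ Pi, ∀ J' ∈ Pi, J ≠ J' → em M J ≤ zm M J'
  pf : ∀ J ∈ Pi, J ≤ ⁅J, J⁆
  tor : ∀ J ∈ Pi, ¬ lam ≤ zm M J → ∃ θ ∈ J, (∀ t ∈ T, cj t J = J → t * θ * t⁻¹ * θ⁻¹ ∈ T ⊓ J) ∧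
    ∀ a ∈ lam, (θ • a) * a⁻¹ ∈ zm M J → a = 1
  prod : ∀ A : Subgroup H, Exact lam A → A ≤ closure {x | ∃ J ∈ Pi, x ∈ A ⊓ J}
  hit : ∀ A : Subgroup H, Exact lam A → ∀ J ∈ Pi, A ⊓ J ≠ ⊥ → ¬ lam ≤ zm M J
  cent : ∀ A : Subgroup H, Exact lam A → ∀ J ∈ Pi, A ⊓ J ≠ ⊥ → T ⊓ J ≤ A ∨ ∃ C ≤ J, T ⊓ J ≤ ⁅C, C⁆ ∧
    ∀ m ∈ em M J, (∀ t ∈ T ⊓ J, t • m = m) → ∀ c ∈ C, (c • m) * m⁻¹ ∈ zm M J

theorem PSf.of_psq {R : Type*} [CommGroup R] {T : Subgroup H} {lam : Subgroup M} {Pi : Set (Subgroup H)}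
    (h : PSq R T lam Pi) (pf : ∀ J ∈ Pi, J ≤ ⁅J, J⁆)
    (cent : ∀ A : Subgroup H, Exact lam A → ∀ J ∈ Pi, A ⊓ J ≠ ⊥ → T ⊓ J ≤ A ∨ ∃ C ≤ J, T ⊓ J ≤ ⁅C, C⁆ ∧
      ∀ m ∈ em M J, (∀ t ∈ T ⊓ J, t • m = m) → ∀ c ∈ C, (c • m) * m⁻¹ ∈ zm M J) : PSf T lam Pi :=
  ⟨h.conj, h.comm, h.em_le, pf, h.tor, h.prod, h.hit, cent⟩

theorem PSf.kdat {T : Subgroup H} {lam : Subgroup M} {Pi : Set (Subgroup H)} (h : PSf T lam Pi)
    {A : Subgroup H} (hA : Exact lam A) : ∃ J, FOneAbs.KDat T A J lam Pi := by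
  obtain ⟨J, hJ, hne⟩ : ∃ J ∈ Pi, A ⊓ J ≠ ⊥ := by
    by_contra hcon
    push Not at hcon
    apply hA.ne
    rw [eq_bot_iff]
    refine (h.prod A hA).trans ?_
    rw [closure_le]
    rintro x ⟨J, hJ, hx⟩
    rw [hcon J hJ] at hx
    exact hx
  exact ⟨J, hJ, h.conj, h.comm, h.em_le, h.pf J hJ, h.tor J hJ (h.hit A hA J hJ hne), h.prod A hA,
    h.cent A hA J hJ hne⟩

end kin

variable {G : Type*} [Group G]

/-! ### Offenders at a flag -/

/-- `B ≤ O₂(C_G(L))` is elementary abelian and normalised by the action on `ws V X`. -/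
structure Off (V L X B : Subgroup G) : Prop where
  le : B ≤ o2 (centralizer (L : Set G))
  comm : ∀ a ∈ B, ∀ b ∈ B, a * b = b * a
  sq : ∀ a ∈ B, a * a = 1
  nor : ∀ b ∈ B, ∀ w ∈ ws V X, b * w * b⁻¹ * w⁻¹ ∈ B

theorem Off.conj {V L X B : Subgroup G} (h : Off V L X B) (g : G) : Off V (cj g L) (cj g X) (cj g B) where
  le := by
    rw [← cj_centralizer]
    have := MinSimple.CosetFam.o2_conj g (centralizer (L : Set G))
    rw [this]
    exact cj_le_cj.2 h.le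
  comm := by
    intro a ha b hb
    rw [mem_cj] at ha hb
    have h1 := congrArg (fun t => g * t * g⁻¹) (h.comm _ ha _ hb)
    simpa [mul_assoc] using h1
  sq := by
    intro a ha
    rw [mem_cj] at ha
    have h1 := congrArg (fun t => g * t * g⁻¹) (h.sq _ ha)
    simpa [mul_assoc] using h1
  nor := by
    intro b hb w hw
    rw [ws_cj] at hw
    rw [mem_cj] at hb hw ⊢
    have h1 := h.nor _ hb _ hw
    have e : g⁻¹ * b * g * (g⁻¹ * w * g) * (g⁻¹ * b * g)⁻¹ * (g⁻¹ * w * g)⁻¹ = g⁻¹ * (b * w * b⁻¹ * w⁻¹) * g := by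
      group
    rwa [e] at h1

section base

variable {H M : Type*} [Group H] [CommGroup M] [MulDistribMulAction H M]
variable {V Z : Subgroup G} {ρ : G → H} {π : G → M} (r : Real V Z ρ π)
include r

/-- the restriction of `ρ` -/
def rh : centralizer (Z : Set G) →* H := MonoidHom.mk' (fun a => ρ a) fun a b => r.mulρ a a.2 b b.2

/-- the restriction of `π` -/
def ph : ws V Z →* M := MonoidHom.mk' (fun a => π a) fun a b => r.mulπ a a.2 b b.2

/-- the image of `B ≤ C_G(Z)` -/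
def img {B : Subgroup G} (hB : B ≤ centralizer (Z : Set G)) : Subgroup H := ((rh r).comp (inclusion hB)).range

theorem mem_img {B : Subgroup G} {hB : B ≤ centralizer (Z : Set G)} {x : H} :
    x ∈ img r hB ↔ ∃ b ∈ B, ρ b = x := by
  constructor
  · rintro ⟨b, rfl⟩
    exact ⟨b, b.2, rfl⟩
  · rintro ⟨b, hb, rfl⟩
    exact ⟨⟨b, hb⟩, rfl⟩

theorem mem_img_of {B : Subgroup G} {hB : B ≤ centralizer (Z : Set G)} {b : G} (hb : b ∈ B) : ρ b ∈ img r hB :=
  (mem_img r).2 ⟨b, hb, rfl⟩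

theorem rho_one : ρ 1 = 1 := (rh r).map_one

theorem rho_inv {a : G} (ha : a ∈ centralizer (Z : Set G)) : ρ a⁻¹ = (ρ a)⁻¹ := (rh r).map_inv ⟨a, ha⟩

theorem pi_inv {a : G} (ha : a ∈ ws V Z) : π a⁻¹ = (π a)⁻¹ := (ph r).map_inv ⟨a, ha⟩

theorem card_img [Finite G] {B : Subgroup G} (hB : B ≤ centralizer (Z : Set G)) :
    Nat.card (img r hB) = (kx V Z).relIndex B := by
  rw [img, ← index_ker, relIndex]
  congr 1
  ext b
  rw [MonoidHom.mem_ker, mem_subgroupOf]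
  exact r.kerρ b (hB b.2)

/-- `ρ` is constant modulo `C_G(W)` -/
theorem eq_of_rho {a b : G} (ha : a ∈ centralizer (Z : Set G)) (hb : b ∈ centralizer (Z : Set G))
    (hkc : kx V Z ≤ centralizer (ws V Z : Set G)) (e : ρ a = ρ b) {w : G} (hw : w ∈ ws V Z) :
    a * w * a⁻¹ = b * w * b⁻¹ := by
  have h1 : ρ (b⁻¹ * a) = 1 := by
    rw [r.mulρ _ (inv_mem hb) _ ha, rho_inv r hb, e, inv_mul_cancel]
  have h2 := hkc ((r.kerρ _ (mul_mem (inv_mem hb) ha)).1 h1)
  have h3 := mem_centralizer_iff.1 h2 w hw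
  calc a * w * a⁻¹ = b * ((b⁻¹ * a) * w) * a⁻¹ := by group
    _ = b * (w * (b⁻¹ * a)) * a⁻¹ := by rw [h3]
    _ = b * w * b⁻¹ := by group

theorem cent_conj {a w : G} (ha : a ∈ centralizer (Z : Set G)) (hw : w ∈ ws V Z) : a * w * a⁻¹ ∈ ws V Z :=
  (mem_normalizer_iff.1 (normalizer_le_ws V Z (centralizer_le_normalizer _ ha)) w).1 hw

end base

section main

variable [Finite G] {S : Sylow 2 G} {P V Z : Subgroup G} (h : PL S P V Z)
variable {H M : Type*} [Group H] [CommGroup M] [MulDistribMulAction H M] {ρ : G → H} {π : G → M}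
include h

/-- `K_Z` centralises all lines on `Z` if it centralises one. -/
theorem kx_le (hf : kx V Z ≤ centralizer (V : Set G)) : kx V Z ≤ centralizer (ws V Z : Set G) := by
  have h1 : ws V Z ≤ centralizer (kx V Z : Set G) := by
    refine ws_le fun L hL hZL => ?_
    obtain ⟨g, h1, rfl⟩ := exists_conj_flag h h.isCj_self hL hZL
    have h2 : cj g (kx V Z) = kx V Z := by rw [← kx_cj, ← h1]
    rw [← h2, ← cj_centralizer, cj_le_cj]
    intro v hv
    exact mem_centralizer_iff.2 fun k hk => (mem_centralizer_iff.1 (hf hk) v hv).symm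
  intro k hk
  exact mem_centralizer_iff.2 fun w hw => (mem_centralizer_iff.1 (h1 hw) k hk).symm

theorem kx_eq (hf : kx V Z ≤ centralizer (V : Set G)) : kx V Z = centralizer (ws V Z : Set G) := by
  refine le_antisymm (kx_le h hf) fun g hg => ⟨fun z hz => ?_, fun w hw => ?_⟩
  · exact (mem_centralizer_iff.1 hg z (h.Z_le_ws hz)).symm
  · rw [(mem_centralizer_iff.1 hg w hw).symm, mul_inv_cancel_right, mul_inv_cancel]
    exact one_mem _

theorem Off.le_cent {B : Subgroup G} (hB : Off V V Z B) : B ≤ centralizer (Z : Set G) :=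
  hB.le.trans ((o2_le _).trans (centralizer_le h.ZV))

/-- `lam` -/
theorem ph_V_mem (r : Real V Z ρ π) {m : M} :
    m ∈ (V.subgroupOf (ws V Z)).map (ph r) ↔ ∃ v ∈ V, π v = m := by
  constructor
  · rintro ⟨v, hv, rfl⟩
    exact ⟨v, hv, rfl⟩
  · rintro ⟨v, hv, rfl⟩
    exact ⟨⟨v, h.V_le_ws h.ZV hv⟩, hv, rfl⟩

variable (r : Real V Z ρ π)

/-- elements over `C_H(lam)` -/
theorem lift_fixer {x : H} (hx : x ∈ fixer ((V.subgroupOf (ws V Z)).map (ph r))) :
    ∃ a ∈ centralizer (Z : Set G), ρ a = x ∧ a ∈ normalizer (V : Set G) ∧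
      ∃ s ∈ (S : Subgroup G), s * a ∈ centralizer (V : Set G) := by
  obtain ⟨a, ha, rfl⟩ := r.surjρ x
  obtain ⟨Y, hY, hYV, hne⟩ := h.exists_second h.isCj_self h.ZV
  obtain ⟨v, hv, hv1⟩ := h.pt_ne_bot hY
  have hvZ : v ∉ Z := fun e => hne (h.pts_eq hY h.isCj_self hv e hv1)
  have hvW : v ∈ ws V Z := h.V_le_ws h.ZV (hYV hv)
  have h1 : π (a * v * a⁻¹) = π v := by
    rw [r.act a ha v hvW]
    exact hx (π v) ((ph_V_mem h r).2 ⟨v, hYV hv, rfl⟩)
  have h2 : a * v * a⁻¹ * v⁻¹ ∈ Z := by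
    have h3 := cent_conj r ha hvW
    rw [← r.kerπ _ (mul_mem h3 (inv_mem hvW)), r.mulπ _ h3 _ (inv_mem hvW), pi_inv r hvW, h1, mul_inv_cancel]
  have hz : ∀ z ∈ Z, a * z = z * a := fun z hz => (mem_centralizer_iff.1 ha z hz).symm
  exact ⟨a, ha, rfl, h.mem_normalizer_of_lin hz (hYV hv) hvZ h2, h.lin' hz (hYV hv) hvZ h2⟩

omit [Finite G] h in
theorem o2_conj_of_norm {a : G} (haN : a ∈ normalizer (V : Set G)) :
    cj a (o2 (centralizer (V : Set G))) = o2 (centralizer (V : Set G)) := by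
  have h3 : MulAut.conj a • centralizer (V : Set G) = centralizer (V : Set G) := by
    have := cj_centralizer a V
    rwa [cj_eq_iff.2 haN] at this
  have h4 := MinSimple.CosetFam.o2_conj a (centralizer (V : Set G))
  rw [h3] at h4
  exact h4.symm

omit r in
theorem o2_le_S : o2 (centralizer (V : Set G)) ≤ (S : Subgroup G) := by
  have : Fact (Nat.Prime 2) := ⟨Nat.prime_two⟩
  have hSN : (S : Subgroup G) ≤ normalizer ((o2 (centralizer (V : Set G)) : Subgroup G) : Set G) := fun s hs =>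
    cj_eq_iff.1 (o2_conj_of_norm (h.PN (h.SP hs)))
  have h1 : IsPGroup 2 ((S : Subgroup G) ⊔ o2 (centralizer (V : Set G)) : Subgroup G) :=
    S.isPGroup'.to_sup_of_normal_right' (o2_isPGroup _) hSN
  have h2 := S.is_maximal' h1 le_sup_left
  rw [← h2]
  exact le_sup_right

/-- the image of `B ≤ O₂(C_G(V))` is in `O₂(C_H(lam))` -/
theorem img_le {B : Subgroup G} (hB : Off V V Z B) :
    img r (Off.le_cent h hB) ≤ o2 (fixer ((V.subgroupOf (ws V Z)).map (ph r))) := by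
  have hC : o2 (centralizer (V : Set G)) ≤ centralizer (Z : Set G) := (o2_le _).trans (centralizer_le h.ZV)
  have h1 : img r (Off.le_cent h hB) ≤ img r hC := by
    intro x hx
    obtain ⟨b, hb, rfl⟩ := (mem_img r).1 hx
    exact mem_img_of r (hB.le hb)
  refine h1.trans (le_o2 ?_ ?_ ?_)
  · intro x hx m hm
    obtain ⟨b, hb, rfl⟩ := (mem_img r).1 hx
    obtain ⟨v, hv, rfl⟩ := (ph_V_mem h r).1 hm
    rw [← r.act b (hC hb) v (h.V_le_ws h.ZV hv)]
    congr 1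
    rw [← mem_centralizer_iff.1 (o2_le _ hb) v hv, mul_inv_cancel_right]
  · exact IsPGroup.of_surjective (o2_isPGroup (centralizer (V : Set G))) ((rh r).comp (inclusion hC)).rangeRestrict
      (MonoidHom.rangeRestrict_surjective _)
  · refine mem_normalizer_of_conj fun x hx y hy => ?_
    obtain ⟨a, ha, rfl, haN, -⟩ := lift_fixer h r hx
    obtain ⟨b, hb, rfl⟩ := (mem_img r).1 hy
    rw [← rho_inv r ha, ← r.mulρ a ha b (hC hb), ← r.mulρ _ (mul_mem ha (hC hb)) _ (inv_mem ha)]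
    refine mem_img_of r ?_
    rw [← o2_conj_of_norm haN]
    exact conj_mem_cj hb

/-- the image of `S` -/
def tt : Subgroup H := img r h.S_le

omit h in
theorem finite_H (r : Real V Z ρ π) : Finite H := by
  refine Finite.of_surjective (fun a : centralizer (Z : Set G) => ρ a) fun x => ?_
  obtain ⟨a, ha, hx⟩ := r.surjρ x
  exact ⟨⟨a, ha⟩, hx⟩

/-- `N_H(T)` comes from `N_G(V)` -/
theorem norm_V (hf : kx V Z ≤ centralizer (V : Set G))
    (hN : normalizer ((S : Subgroup G) : Set G) ≤ normalizer (V : Set G)) {a : G}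
    (ha : a ∈ centralizer (Z : Set G)) (hx : ρ a ∈ normalizer (tt h r : Set H)) : a ∈ normalizer (V : Set G) := by
  -- the preimage of `T`
  let N : Subgroup G := ((tt h r).comap (rh r)).map (centralizer (Z : Set G)).subtype
  have hNm : ∀ b, b ∈ N ↔ b ∈ centralizer (Z : Set G) ∧ ρ b ∈ tt h r := by
    intro b
    constructor
    · rintro ⟨c, hc, rfl⟩
      exact ⟨c.2, hc⟩
    · rintro ⟨hb, hb'⟩
      exact ⟨⟨b, hb⟩, hb', rfl⟩
  have hSN : (S : Subgroup G) ≤ N := fun s hs => (hNm s).2 ⟨h.S_le hs, mem_img_of r hs⟩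
  have hSN' : ((a • S : Sylow 2 G) : Subgroup G) ≤ N := by
    intro b hb
    have hb' : a⁻¹ * b * a ∈ (S : Subgroup G) := mem_cj.1 hb
    have h1 := (hNm _).2 ⟨h.S_le hb', mem_img_of r hb'⟩
    have h2 : b = a * (a⁻¹ * b * a) * a⁻¹ := by group
    have h3 : b ∈ centralizer (Z : Set G) := by
      rw [h2]
      exact mul_mem (mul_mem ha (h.S_le hb')) (inv_mem ha)
    refine (hNm b).2 ⟨h3, ?_⟩
    have h4 := (mem_normalizer_iff.1 hx (ρ (a⁻¹ * b * a))).1 (mem_img_of r hb')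
    rw [← rho_inv r ha, ← r.mulρ a ha _ (h.S_le hb'), ← r.mulρ _ (mul_mem ha (h.S_le hb')) _ (inv_mem ha),
      ← h2] at h4
    exact h4
  have hNV : N ≤ normalizer (V : Set G) := by
    intro b hb
    obtain ⟨hb1, hb2⟩ := (hNm b).1 hb
    obtain ⟨s, hs, hsb⟩ := (mem_img r).1 hb2
    have hsC := h.S_le hs
    have h1 : s⁻¹ * b ∈ kx V Z := by
      rw [← r.kerρ _ (mul_mem (inv_mem hsC) hb1), r.mulρ _ (inv_mem hsC) _ hb1, rho_inv r hsC, hsb,
        inv_mul_cancel]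
    have h2 : b = s * (s⁻¹ * b) := by group
    rw [h2]
    exact mul_mem (h.PN (h.SP hs)) (centralizer_le_normalizer _ (hf h1))
  obtain ⟨m, hm, hmS⟩ := exists_conj hSN hSN'
  have h1 : cj m (S : Subgroup G) = cj a (S : Subgroup G) := hmS
  have h2 : m⁻¹ * a ∈ normalizer ((S : Subgroup G) : Set G) := by
    rw [← cj_eq_iff, ← cj_cj, ← h1, cj_cj, inv_mul_cancel, cj_one]
  have h3 : a = m * (m⁻¹ * a) := by group
  rw [h3]
  exact mul_mem (hNV hm) (hN h2)

omit [Finite G] h r in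
theorem le_of_index_le {W : Type*} [Group W] [Finite W] {D C : Subgroup W} (hDC : D ≤ C)
    (he : D.index ≤ C.index) : C ≤ D := by
  have h1 := relIndex_mul_index hDC
  have h2 : C.index ≠ 0 := index_ne_zero_of_finite
  have h3 : D.relIndex C ≠ 0 := by
    rw [relIndex]
    exact index_ne_zero_of_finite
  have h4 : D.relIndex C * C.index ≤ 1 * C.index := by rw [one_mul, h1]; exact he
  have h5 := Nat.le_of_mul_le_mul_right h4 (Nat.pos_of_ne_zero h2)
  exact relIndex_eq_one.1 (by omega)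

/-- **The contradiction at the base flag.** -/
theorem false_base (hf : kx V Z ≤ centralizer (V : Set G))
    (hN : normalizer ((S : Subgroup G) : Set G) ≤ normalizer (V : Set G)) {B : Subgroup G} (hB : Off V V Z B)
    (hne : ¬ B ≤ centralizer (ws V Z : Set G))
    (hle : (centralizer (B : Set G)).relIndex (ws V Z) ≤ (centralizer (ws V Z : Set G)).relIndex B)
    (hNO : ∀ A : Subgroup H, A ≤ o2 (fixer ((V.subgroupOf (ws V Z)).map (ph r))) →
      (∀ a ∈ A, ∀ b ∈ A, a * b = b * a) → (∀ a ∈ A, a * a = 1) →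
      (∀ a ∈ A, ∀ b ∈ A, ∀ m : M, b • ((a • m) * m⁻¹) = (a • m) * m⁻¹) → Nat.card A ≤ (zm M A).index)
    {Pi : Set (Subgroup H)} (hK : PSf (tt h r) ((V.subgroupOf (ws V Z)).map (ph r)) Pi) : False := by
  have hBC := Off.le_cent h hB
  set A := img r hBC with hA
  have hkc := kx_le h hf
  have hke := kx_eq h hf
  have hcard : Nat.card A = (centralizer (ws V Z : Set G)).relIndex B := by rw [hA, card_img r hBC, hke]
  have hcomm : ∀ a ∈ A, ∀ b ∈ A, a * b = b * a := by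
    intro x hx y hy
    obtain ⟨a, ha, rfl⟩ := (mem_img r).1 hx
    obtain ⟨b, hb, rfl⟩ := (mem_img r).1 hy
    rw [← r.mulρ _ (hBC ha) _ (hBC hb), ← r.mulρ _ (hBC hb) _ (hBC ha), hB.comm a ha b hb]
  have hsq : ∀ a ∈ A, a * a = 1 := by
    intro x hx
    obtain ⟨a, ha, rfl⟩ := (mem_img r).1 hx
    rw [← r.mulρ _ (hBC ha) _ (hBC ha), hB.sq a ha, rho_one r]
  have hact : ∀ a ∈ B, ∀ w ∈ ws V Z, (ρ a • π w) * (π w)⁻¹ = π (a * w * a⁻¹ * w⁻¹) := by
    intro a ha w hw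
    rw [← r.act a (hBC ha) w hw, ← pi_inv r hw, ← r.mulπ _ (cent_conj r (hBC ha) hw) _ (inv_mem hw)]
  have hcW : ∀ a ∈ B, ∀ w ∈ ws V Z, a * w * a⁻¹ * w⁻¹ ∈ ws V Z := fun a ha w hw =>
    mul_mem (cent_conj r (hBC ha) hw) (inv_mem hw)
  have hquad : ∀ a ∈ A, ∀ b ∈ A, ∀ m : M, b • ((a • m) * m⁻¹) = (a • m) * m⁻¹ := by
    intro x hx y hy m
    obtain ⟨a, ha, rfl⟩ := (mem_img r).1 hx
    obtain ⟨b, hb, rfl⟩ := (mem_img r).1 hy
    obtain ⟨w, hw, rfl⟩ := r.surjπ m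
    rw [hact a ha w hw, ← r.act b (hBC hb) _ (hcW a ha w hw), hB.comm b hb _ (hB.nor a ha w hw),
      mul_inv_cancel_right]
  have hAle : A ≤ o2 (fixer ((V.subgroupOf (ws V Z)).map (ph r))) := img_le h r hB
  have h1 := hNO A hAle hcomm hsq hquad
  have hsurj : Function.Surjective (ph r) := fun m => by
    obtain ⟨w, hw, rfl⟩ := r.surjπ m
    exact ⟨⟨w, hw⟩, rfl⟩
  have h2 := index_comap_of_surjective (zm M A) hsurj
  have h3 : (centralizer (B : Set G)).subgroupOf (ws V Z) ≤ (zm M A).comap (ph r) := by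
    intro w hw
    rw [mem_comap, mem_cv]
    intro x hx
    obtain ⟨a, ha, rfl⟩ := (mem_img r).1 hx
    have h4 := hact a ha w w.2
    have h5 : a * w * a⁻¹ * (w : G)⁻¹ = 1 := by
      have h6 := mem_centralizer_iff.1 (mem_subgroupOf.1 hw) a ha
      rw [h6, mul_inv_cancel_right, mul_inv_cancel]
    rw [h5] at h4
    have h7 : π 1 = 1 := (ph r).map_one
    rw [h7, mul_inv_eq_one] at h4
    exact h4
  have h4 : ((zm M A).comap (ph r)).index ≤ ((centralizer (B : Set G)).subgroupOf (ws V Z)).index :=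
    Nat.le_of_dvd (Nat.pos_of_ne_zero index_ne_zero_of_finite) (index_dvd_of_le h3)
  have h5 : ((centralizer (B : Set G)).subgroupOf (ws V Z)).index ≤ Nat.card A := by
    rw [hcard]; exact hle
  have h6 : (zm M A).comap (ph r) ≤ (centralizer (B : Set G)).subgroupOf (ws V Z) :=
    le_of_index_le h3 (by omega)
  have hex : Exact ((V.subgroupOf (ws V Z)).map (ph r)) A := by
    refine ⟨fun e => hne fun b hb => ?_, hAle, hcomm, hsq, hquad, by omega⟩
    have h7 : ρ b ∈ A := mem_img_of r hb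
    rw [e, mem_bot] at h7
    exact hkc ((r.kerρ b (hBC hb)).1 h7)
  obtain ⟨J, hJ⟩ := hK.kdat hex
  -- the action on `W`
  choose σ hσ1 hσ2 using r.surjρ
  let _ : CommGroup (ws V Z) :=
    { (inferInstance : Group (ws V Z)) with
      mul_comm := fun a b => Subtype.ext (mem_centralizer_iff.1 (h.Wcomm b.2) a a.2) }
  let _ : MulDistribMulAction H (ws V Z) :=
    { smul := fun x w => ⟨σ x * w * (σ x)⁻¹, cent_conj r (hσ1 x) w.2⟩
      one_smul := fun w => Subtype.ext (by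
        show σ 1 * (w : G) * (σ 1)⁻¹ = w
        rw [eq_of_rho r (hσ1 1) (one_mem _) hkc ((hσ2 1).trans (rho_one r).symm) w.2]
        group)
      mul_smul := fun x y w => Subtype.ext (by
        show σ (x * y) * (w : G) * (σ (x * y))⁻¹ = σ x * (σ y * w * (σ y)⁻¹) * (σ x)⁻¹
        rw [eq_of_rho r (hσ1 (x * y)) (mul_mem (hσ1 x) (hσ1 y)) hkc
          (by rw [hσ2, r.mulρ _ (hσ1 x) _ (hσ1 y), hσ2, hσ2]) w.2]
        group)
      smul_mul := fun x w w' => Subtype.ext (by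
        show σ x * ((w : G) * w') * (σ x)⁻¹ = σ x * w * (σ x)⁻¹ * (σ x * w' * (σ x)⁻¹)
        group)
      smul_one := fun x => Subtype.ext (by
        show σ x * (1 : G) * (σ x)⁻¹ = 1
        group) }
  have hsm : ∀ a ∈ centralizer (Z : Set G), ∀ w : ws V Z, ((ρ a • w : ws V Z) : G) = a * w * a⁻¹ := by
    intro a ha w
    show σ (ρ a) * (w : G) * (σ (ρ a))⁻¹ = a * w * a⁻¹
    exact eq_of_rho r (hσ1 _) ha hkc (hσ2 _) w.2
  have D : FOneAbs.Dat (tt h r) (V.subgroupOf (ws V Z)) (Z.subgroupOf (ws V Z)) (ph r) := by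
    refine ⟨finite_H r, fun w => r.kerπ w w.2, ?_, ?_, ?_, ?_, ?_, ?_, ?_⟩
    · intro x w
      show π (σ x * w * (σ x)⁻¹) = x • π w
      rw [r.act _ (hσ1 x) w w.2, hσ2]
    · intro x w hw
      refine Subtype.ext ?_
      show σ x * (w : G) * (σ x)⁻¹ = w
      rw [← mem_centralizer_iff.1 (hσ1 x) w hw, mul_inv_cancel_right]
    · intro t ht v hv
      obtain ⟨s, hs, rfl⟩ := (mem_img r).1 ht
      rw [mem_subgroupOf]
      show ((ρ s • v : ws V Z) : G) * (v : G)⁻¹ ∈ Z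
      rw [hsm s (h.S_le hs)]
      exact h.act s hs v hv
    · intro w hw
      exact h.ZV hw
    · intro t ht v hv hvZ e u hu
      obtain ⟨s, hs, rfl⟩ := (mem_img r).1 ht
      have e1 := congrArg Subtype.val e
      rw [hsm s (h.S_le hs)] at e1
      refine Subtype.ext ?_
      rw [hsm s (h.S_le hs)]
      have e2 := h.free s hs v hv (fun e => hvZ e) (mul_inv_eq_iff_eq_mul.1 e1) u hu
      rw [e2, mul_inv_cancel_right]
    · obtain ⟨Y, hY, hYV, hYne⟩ := h.exists_second h.isCj_self h.ZV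
      obtain ⟨v, hv, hv1⟩ := h.pt_ne_bot hY
      have hvZ : v ∉ Z := fun e => hYne (h.pts_eq hY h.isCj_self hv e hv1)
      obtain ⟨z, hz, hz1⟩ := h.pt_ne_bot h.isCj_self
      obtain ⟨s, hs, hsz⟩ := h.full v (hYV hv) hvZ z hz
      refine ⟨ρ s, mem_img_of r hs, ⟨v, h.V_le_ws h.ZV (hYV hv)⟩, hYV hv, fun e => hz1 ?_⟩
      have e1 := congrArg Subtype.val e
      rw [hsm s (h.S_le hs)] at e1
      rw [← hsz, mul_inv_eq_one]
      exact e1
    · intro x hx v hv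
      have h7 := norm_V h r hf hN (hσ1 x) (by rw [hσ2]; exact hx)
      rw [mem_subgroupOf]
      show σ x * (v : G) * (σ x)⁻¹ ∈ V
      exact (mem_normalizer_iff.1 h7 v).1 hv
  refine D.false_of hJ ?_ ?_
  · intro x hx
    obtain ⟨b, hb, rfl⟩ := (mem_img r).1 hx
    exact mem_img_of r (o2_le_S h (hB.le hb))
  · intro w hw x hx
    obtain ⟨b, hb, rfl⟩ := (mem_img r).1 hx
    have h7 : w ∈ (zm M A).comap (ph r) := by
      rw [mem_comap, mem_cv]
      exact hw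
    have h8 := mem_centralizer_iff.1 (mem_subgroupOf.1 (h6 h7)) b hb
    refine Subtype.ext ?_
    rw [hsm b (hBC hb), h8, mul_inv_cancel_right]

/-! ### Critical pairs -/

omit r

/-- `W_x` at the last flag of the walk from `x` to `y` -/
theorem off_of_crit {n : ℕ} (hn : 1 ≤ n) {x y : Pt Z}
    (hc : Crit (PtGeom.inc (Z := Z) (V := V)) (fun x : Pt Z => ws V x.sg) n x y) :
    ∃ g : G, y.sg = cj g Z ∧ Off V (cj g V) (cj g Z) (ws V x.sg) := by
  have D := FOneGeo.geo h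
  obtain ⟨c, l, hw, hcl, hyl⟩ := hc.last hn
  obtain ⟨c', l', hw', hcl', hxl'⟩ := hc.symm.last hn
  obtain ⟨g, hg1, hg2⟩ := exists_conj_flag h y.isCj l.isCj hyl
  refine ⟨g, hg1, ?_⟩
  rw [← hg1, ← hg2]
  have hcom : Com (fun x : Pt Z => ws V x.sg) x c := hc.com_last hn hw
  have hcom' : Com (fun x : Pt Z => ws V x.sg) y c' := hc.symm.com_last hn hw'
  refine ⟨D.low_line hc.min hw (by omega) hcom hcl, D.comm x, D.sq x, fun b hb w hw1 => ?_⟩
  have h1 : w • x = x := D.fix_of_centralizes fun a ha =>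
    hcom' w hw1 a (D.V_le c' l' hcl' (D.R_le x l' hxl' ha))
  have e : b * w * b⁻¹ * w⁻¹ = b * (w * b⁻¹ * w⁻¹) := by group
  rw [e]
  exact mul_mem hb (D.norm_W h1 (inv_mem hb))

omit h [Finite G] in
theorem cent_relIndex_conj (g : G) (A B : Subgroup G) :
    (centralizer ((cj g A : Subgroup G) : Set G)).relIndex (cj g B) = (centralizer (A : Set G)).relIndex B := by
  rw [← cj_centralizer]
  exact relIndex_pointwise_smul _ _ _

include r

/-- the inequality at the base flag -/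
theorem relIndex_le (hf : kx V Z ≤ centralizer (V : Set G)) {B : Subgroup G} (hB : Off V V Z B)
    (hNO : ∀ A : Subgroup H, A ≤ o2 (fixer ((V.subgroupOf (ws V Z)).map (ph r))) →
      (∀ a ∈ A, ∀ b ∈ A, a * b = b * a) → (∀ a ∈ A, a * a = 1) →
      (∀ a ∈ A, ∀ b ∈ A, ∀ m : M, b • ((a • m) * m⁻¹) = (a • m) * m⁻¹) → Nat.card A ≤ (zm M A).index) :
    (centralizer (ws V Z : Set G)).relIndex B ≤ (centralizer (B : Set G)).relIndex (ws V Z) := by
  have hBC := Off.le_cent h hB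
  set A := img r hBC with hA
  have hke := kx_eq h hf
  have hcard : Nat.card A = (centralizer (ws V Z : Set G)).relIndex B := by rw [hA, card_img r hBC, hke]
  have hcomm : ∀ a ∈ A, ∀ b ∈ A, a * b = b * a := by
    intro x hx y hy
    obtain ⟨a, ha, rfl⟩ := (mem_img r).1 hx
    obtain ⟨b, hb, rfl⟩ := (mem_img r).1 hy
    rw [← r.mulρ _ (hBC ha) _ (hBC hb), ← r.mulρ _ (hBC hb) _ (hBC ha), hB.comm a ha b hb]
  have hsq : ∀ a ∈ A, a * a = 1 := by
    intro x hx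
    obtain ⟨a, ha, rfl⟩ := (mem_img r).1 hx
    rw [← r.mulρ _ (hBC ha) _ (hBC ha), hB.sq a ha, rho_one r]
  have hact : ∀ a ∈ B, ∀ w ∈ ws V Z, (ρ a • π w) * (π w)⁻¹ = π (a * w * a⁻¹ * w⁻¹) := by
    intro a ha w hw
    rw [← r.act a (hBC ha) w hw, ← pi_inv r hw, ← r.mulπ _ (cent_conj r (hBC ha) hw) _ (inv_mem hw)]
  have hcW : ∀ a ∈ B, ∀ w ∈ ws V Z, a * w * a⁻¹ * w⁻¹ ∈ ws V Z := fun a ha w hw =>
    mul_mem (cent_conj r (hBC ha) hw) (inv_mem hw)
  have hquad : ∀ a ∈ A, ∀ b ∈ A, ∀ m : M, b • ((a • m) * m⁻¹) = (a • m) * m⁻¹ := by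
    intro x hx y hy m
    obtain ⟨a, ha, rfl⟩ := (mem_img r).1 hx
    obtain ⟨b, hb, rfl⟩ := (mem_img r).1 hy
    obtain ⟨w, hw, rfl⟩ := r.surjπ m
    rw [hact a ha w hw, ← r.act b (hBC hb) _ (hcW a ha w hw), hB.comm b hb _ (hB.nor a ha w hw),
      mul_inv_cancel_right]
  have h1 := hNO A (img_le h r hB) hcomm hsq hquad
  have hsurj : Function.Surjective (ph r) := fun m => by
    obtain ⟨w, hw, rfl⟩ := r.surjπ m
    exact ⟨⟨w, hw⟩, rfl⟩
  have h2 := index_comap_of_surjective (zm M A) hsurj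
  have h3 : (centralizer (B : Set G)).subgroupOf (ws V Z) ≤ (zm M A).comap (ph r) := by
    intro w hw
    rw [mem_comap, mem_cv]
    intro x hx
    obtain ⟨a, ha, rfl⟩ := (mem_img r).1 hx
    have h4 := hact a ha w w.2
    have h5 : a * w * a⁻¹ * (w : G)⁻¹ = 1 := by
      have h6 := mem_centralizer_iff.1 (mem_subgroupOf.1 hw) a ha
      rw [h6, mul_inv_cancel_right, mul_inv_cancel]
    rw [h5] at h4
    have h7 : π 1 = 1 := (ph r).map_one
    rw [h7, mul_inv_eq_one] at h4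
    exact h4
  have h4 : ((zm M A).comap (ph r)).index ≤ ((centralizer (B : Set G)).subgroupOf (ws V Z)).index :=
    Nat.le_of_dvd (Nat.pos_of_ne_zero index_ne_zero_of_finite) (index_dvd_of_le h3)
  rw [← hcard]
  exact h1.trans (h2.ge.trans h4)

/-- **(F1) for `q ≥ 4`.** -/
theorem hf_of (hN : normalizer ((S : Subgroup G) : Set G) ≤ normalizer (V : Set G)) {n : ℕ} (hn : 1 ≤ n)
    {x y : Pt Z} (hc : Crit (PtGeom.inc (Z := Z) (V := V)) (fun x : Pt Z => ws V x.sg) n x y)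
    {T : Subgroup H} (hT : ∀ x, x ∈ T ↔ ∃ s ∈ (S : Subgroup G), ρ s = x)
    {lam : Subgroup M} (hlam : ∀ m, m ∈ lam ↔ ∃ v ∈ V, π v = m)
    (hNO : ∀ A : Subgroup H, A ≤ o2 (fixer lam) →
      (∀ a ∈ A, ∀ b ∈ A, a * b = b * a) → (∀ a ∈ A, a * a = 1) →
      (∀ a ∈ A, ∀ b ∈ A, ∀ m : M, b • ((a • m) * m⁻¹) = (a • m) * m⁻¹) → Nat.card A ≤ (zm M A).index)
    {Pi : Set (Subgroup H)} (hK : PSf T lam Pi) : ¬ kx V Z ≤ centralizer (V : Set G) := by
  intro hf
  obtain rfl : T = tt h r := by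
    ext x
    rw [hT]
    exact (mem_img r).symm
  obtain rfl : lam = (V.subgroupOf (ws V Z)).map (ph r) := by
    ext m
    rw [hlam, ph_V_mem h r]
  obtain ⟨g, hg, hB⟩ := off_of_crit h hn hc
  obtain ⟨g', hg', hB'⟩ := off_of_crit h hn hc.symm
  have hb := hB.conj g⁻¹
  have hb' := hB'.conj g'⁻¹
  rw [cj_cj, cj_cj, inv_mul_cancel, cj_one, cj_one] at hb hb'
  have h1 := relIndex_le h r hf hb' hNO
  -- `|W_y : C(W_x)| ≤ |W_x : C(W_y)|`
  have e1 : cj g (cj g⁻¹ (ws V x.sg)) = ws V x.sg := by rw [cj_cj, mul_inv_cancel, cj_one]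
  have e2 : cj g' (cj g'⁻¹ (ws V y.sg)) = ws V y.sg := by rw [cj_cj, mul_inv_cancel, cj_one]
  have e3 : ws V y.sg = cj g (ws V Z) := by rw [hg, ws_cj]
  have e4 : ws V x.sg = cj g' (ws V Z) := by rw [hg', ws_cj]
  rw [← cent_relIndex_conj g' (ws V Z), ← cent_relIndex_conj g' (cj g'⁻¹ (ws V y.sg)), e2, ← e4] at h1
  refine false_base h r hf hN hb ?_ ?_ hNO hK
  · intro hcon
    apply hc.ne
    intro a ha b hbm
    have h2 : ws V x.sg ≤ centralizer (ws V y.sg : Set G) := by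
      rw [← e1, e3, ← cj_centralizer, cj_le_cj]
      exact hcon
    exact (mem_centralizer_iff.1 (h2 ha) b hbm).symm
  · rw [← cent_relIndex_conj g (ws V Z), ← cent_relIndex_conj g (cj g⁻¹ (ws V x.sg)), e1, ← e3]
    exact h1

end main

end Cfsg.Agent.Omega.NO3S.FarQ.FOne
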