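import Cfsg.Agent.Omega.NO3S.FarQ.Core
import Cfsg.Agent.Omega.NoFF.ThmJ

/-!
# FarQ, abstract part: Sylow subgroups of the blocks

* `syl_of` : `S` a 2-group with `|K S : S|` odd normalises `K` ⟹ `S ∩ K` is a Sylow subgroup of `K`;
* `syl_block` : `T ∩ J` is a Sylow 2-subgroup of `J` if the `T`-conjugates of `J` commute;
* `st` : (ST) an element of `J` fixing `a ∈ lam` modulo `C_M(J)` fixes `a`.
-/

set_option autoImplicit false

namespace Cfsg.Agent.Omega.NO3S.FarQ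

open Subgroup Cfsg.Agent.ZN Cfsg.Agent.Omega.NO3S.PT
open Cfsg.Agent.ClassTwoFusion.Quad (cv mem_cv cv_anti)
open scoped Pointwise

variable {H M R : Type*} [Group H] [CommGroup M] [MulDistribMulAction H M] [CommGroup R]

theorem card_mul_relIndex' {A B : Subgroup H} (h : A ≤ B) : Nat.card A * A.relIndex B = Nat.card B := by
  rw [← Subgroup.relIndex_bot_left A, ← Subgroup.relIndex_bot_left B]
  exact relIndex_mul_relIndex ⊥ A B bot_le h

/-- `S` normalises `K` and `|K S : S|` is odd: `|K : S ∩ K|` is odd. -/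
theorem syl_of [Finite H] {S K : Subgroup H} (hn : S ≤ normalizer (K : Set H)) (h : ¬ 2 ∣ S.relIndex (K ⊔ S)) :
    ¬ 2 ∣ (S ⊓ K).relIndex K := by
  have h1 := Cfsg.Agent.Omega.NoFF.ThmJ.card_sup_mul hn
  have h2 := card_mul_relIndex' (le_sup_right : S ≤ K ⊔ S)
  have h3 := card_mul_relIndex' (inf_le_right : S ⊓ K ≤ K)
  rw [inf_comm K S] at h1
  have h4 : S.relIndex (K ⊔ S) = (S ⊓ K).relIndex K := by
    have hS : 0 < Nat.card S := Nat.card_pos
    have hI : 0 < Nat.card (S ⊓ K : Subgroup H) := Nat.card_pos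
    rw [← h2, ← h3] at h1
    have h5 : (Nat.card S * Nat.card (S ⊓ K : Subgroup H)) * S.relIndex (K ⊔ S) =
        (Nat.card S * Nat.card (S ⊓ K : Subgroup H)) * (S ⊓ K).relIndex K := by
      calc _ = Nat.card S * S.relIndex (K ⊔ S) * Nat.card (S ⊓ K : Subgroup H) := by ring
        _ = _ := h1
        _ = _ := by ring
    exact Nat.eq_of_mul_eq_mul_left (Nat.mul_pos hS hI) h5
  rwa [← h4]

theorem not_dvd_relIndex_of_le [Finite H] {A B C : Subgroup H} (hAB : A ≤ B) (hBC : B ≤ C)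
    (h : ¬ 2 ∣ A.relIndex C) : ¬ 2 ∣ A.relIndex B := by
  intro h2
  apply h
  rw [← relIndex_mul_relIndex A B C hAB hBC]
  exact h2.mul_right _

/-- `T ∩ J` is a Sylow 2-subgroup of `J` if different `T`-conjugates of `J` commute. -/
theorem syl_block [Finite H] {T J : Subgroup H} (hT : ¬ 2 ∣ T.index)
    (hc : ∀ s ∈ T, ∀ t ∈ T, cj s J ≠ cj t J → ∀ x ∈ cj s J, ∀ y ∈ cj t J, x * y = y * x) :
    ¬ 2 ∣ (T ⊓ J).relIndex J := by
  set K : Subgroup H := closure {x | ∃ t ∈ T, x ∈ cj t J} with hK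
  have hJK : J ≤ K := fun x hx => subset_closure ⟨1, one_mem _, by rw [cj_one]; exact hx⟩
  -- `T` normalises `K`
  have hTK : T ≤ normalizer (K : Set H) := by
    have key : ∀ t ∈ T, cj t K ≤ K := by
      intro t ht
      rw [cj_le_iff]
      refine (closure_le _).2 ?_
      rintro x ⟨s, hs, hx⟩
      show x ∈ cj t⁻¹ K
      rw [mem_cj, inv_inv]
      refine subset_closure ⟨t * s, mul_mem ht hs, ?_⟩
      rw [← cj_cj]
      exact conj_mem_cj hx
    intro t ht
    rw [← cj_eq_iff]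
    refine le_antisymm (key t ht) ?_
    rw [le_cj_iff]
    exact key t⁻¹ (inv_mem ht)
  -- `K` normalises `J`
  have hKJ : K ≤ normalizer (J : Set H) := by
    refine (closure_le _).2 ?_
    rintro x ⟨t, ht, hx⟩
    by_cases h1 : cj t J = J
    · rw [h1] at hx
      exact le_normalizer hx
    · refine centralizer_le_normalizer _ (mem_centralizer_iff.2 fun y hy => ?_)
      have hy' : y ∈ cj 1 J := by rw [cj_one]; exact hy
      exact hc 1 (one_mem _) t ht (by rw [cj_one]; exact fun e => h1 e.symm) y hy' x hx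
  have h1 : ¬ 2 ∣ T.relIndex (K ⊔ T) := by
    intro h2
    apply hT
    rw [← relIndex_top_right]
    rw [← relIndex_mul_relIndex T (K ⊔ T) ⊤ le_sup_right le_top]
    exact h2.mul_right _
  have h2 := syl_of hTK h1
  have h3 : ¬ 2 ∣ (T ⊓ K).relIndex (J ⊔ (T ⊓ K)) :=
    not_dvd_relIndex_of_le le_sup_right (sup_le hJK inf_le_right) h2
  have h4 := syl_of (inf_le_right.trans hKJ) h3
  have h5 : T ⊓ K ⊓ J = T ⊓ J := by
    rw [inf_assoc, inf_eq_right.2 hJK]
  rwa [h5] at h4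

/-- **(ST)** -/
theorem st_aux [Finite H] [Finite M] (hsq : ∀ m : M, m * m = 1) {T J : Subgroup H}
    (hS : ¬ 2 ∣ (T ⊓ J).relIndex J) {a : M} (ha : ∀ t ∈ T ⊓ J, t • a = a) {j : H} (hj : j ∈ J)
    (h : (j • a) * a⁻¹ ∈ zm M J) : j • a = a := by
  let X : Subgroup H :=
    { carrier := {x | x ∈ J ∧ (x • a) * a⁻¹ ∈ zm M J}
      one_mem' := ⟨one_mem _, by rw [one_smul, mul_inv_cancel]; exact one_mem _⟩
      mul_mem' := by
        rintro x y ⟨hx, hx'⟩ ⟨hy, hy'⟩
        refine ⟨mul_mem hx hy, ?_⟩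
        have h1 : x • ((y • a) * a⁻¹) = (y • a) * a⁻¹ := hy' x hx
        have e : ((x * y) • a) * a⁻¹ = (x • ((y • a) * a⁻¹)) * ((x • a) * a⁻¹) := by
          rw [smul_mul', smul_inv', mul_smul, mul_assoc, inv_mul_cancel_left]
        rw [e, h1]
        exact mul_mem hy' hx'
      inv_mem' := by
        rintro x ⟨hx, hx'⟩
        refine ⟨inv_mem hx, ?_⟩
        have h1 : x⁻¹ • ((x • a) * a⁻¹) = (x • a) * a⁻¹ := hx' _ (inv_mem hx)
        rw [smul_mul', inv_smul_smul, smul_inv'] at h1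
        have h2 : (x⁻¹ • a) * a⁻¹ = ((x • a) * a⁻¹)⁻¹ := by
          rw [← h1, mul_inv_rev, inv_inv]
        rw [h2]
        exact inv_mem hx' }
  let f : X →* M :=
    { toFun := fun x => ((x : H) • a) * a⁻¹
      map_one' := by
        show (((1 : X) : H) • a) * a⁻¹ = 1
        rw [OneMemClass.coe_one, one_smul, mul_inv_cancel]
      map_mul' := by
        intro x y
        have h1 : (x : H) • (((y : H) • a) * a⁻¹) = ((y : H) • a) * a⁻¹ := y.2.2 x x.2.1
        show (((x * y : X) : H) • a) * a⁻¹ = (((x : H) • a) * a⁻¹) * (((y : H) • a) * a⁻¹)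
        have e : (((x * y : X) : H) • a) * a⁻¹ = ((x : H) • (((y : H) • a) * a⁻¹)) * (((x : H) • a) * a⁻¹) := by
          rw [smul_mul', smul_inv', Subgroup.coe_mul, mul_smul, mul_assoc, inv_mul_cancel_left]
        rw [e, h1, mul_comm] }
  have hr : IsPGroup 2 f.range := by
    intro x
    refine ⟨1, Subtype.ext ?_⟩
    rw [pow_one, pow_two]
    exact hsq _
  obtain ⟨k, hk⟩ := IsPGroup.iff_card.1 hr
  have h1 : (T ⊓ J).subgroupOf X ≤ f.ker := by
    intro x hx
    rw [MonoidHom.mem_ker]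
    show ((x : H) • a) * a⁻¹ = 1
    rw [ha _ (mem_subgroupOf.1 hx), mul_inv_cancel]
  have h2 : f.ker.index ∣ (T ⊓ J).relIndex X := index_dvd_of_le h1
  rw [index_ker, hk] at h2
  have hTX : T ⊓ J ≤ X := fun t ht => ⟨ht.2, by rw [ha t ht, mul_inv_cancel]; exact one_mem _⟩
  have h3 : ¬ 2 ∣ (T ⊓ J).relIndex X := not_dvd_relIndex_of_le hTX (fun x hx => hx.1) hS
  have hk0 : k = 0 := by
    by_contra hk0
    exact h3 ((dvd_pow_self 2 hk0).trans h2)
  rw [hk0, pow_zero] at hk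
  have h4 : f ⟨j, hj, h⟩ = 1 := by
    have h5 : (⟨f ⟨j, hj, h⟩, ⟨_, rfl⟩⟩ : f.range) = 1 := by
      have := Subgroup.card_eq_one.1 hk
      exact Subtype.ext (mem_bot.1 (this ▸ (⟨_, rfl⟩ : f ⟨j, hj, h⟩ ∈ f.range)))
    exact congrArg Subtype.val h5
  exact mul_inv_eq_one.1 h4

section

variable {T : Subgroup H} {lam U : Subgroup M} {Kh : Subgroup (M →* R)} {Pi : Set (Subgroup H)}

theorem PSq.syl (F : Flag T lam U Kh) (hP : PSq R T lam Pi) {J : Subgroup H} (hJ : J ∈ Pi) :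
    ¬ 2 ∣ (T ⊓ J).relIndex J := by
  have := F.finH
  exact syl_block F.ndvd fun s _ t _ hne => hP.comm _ (hP.conj J hJ s) _ (hP.conj J hJ t) hne

/-- **(ST)** -/
theorem PSq.st (F : Flag T lam U Kh) (hP : PSq R T lam Pi) {J : Subgroup H} (hJ : J ∈ Pi) {a : M} (ha : a ∈ lam)
    {j : H} (hj : j ∈ J) (h : (j • a) * a⁻¹ ∈ zm M J) : j • a = a := by
  have := F.finH
  have := F.finM
  exact st_aux F.sq (hP.syl F hJ) (fun t ht => F.fix t ht.1 a ha) hj h

end

end Cfsg.Agent.Omega.NO3S.FarQ
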