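import Cfsg.Agent.Omega.NO3S.FarQ.Real
import Cfsg.Agent.Omega.NO3S.FarQ.FOne
import Cfsg.Agent.Omega.NO3S.FarQ.Plug

/-!
# NO-3S, `q ≥ 4`: the K-input as one statement, and (F1)

* `FlagK T lam` : the part of `Flag` which does not use (F1); `flagK_of` : from `PL` and `N_G(S) ≤ N_G(V)`;
* `NoOv lam` : no over-offender in `O₂(C_H(lam))`;
* `KIn Kg` : **the K-input**: for `H` with `Kg H` and `FlagK T lam`: `NoOv lam`, the blocks `PSq`, and the two extra
  fields `pf`, `cent` of helper471;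
* `hf_of_kin` : (F1).
-/

set_option autoImplicit false
set_option linter.unusedSectionVars false

namespace Cfsg.Agent.Omega.NO3S.FarQ

open Subgroup Cfsg Cfsg.Agent.ZN Cfsg.Agent.MinSimple.VModule Cfsg.Agent.Omega.NOThree.Pts
open Cfsg.Agent.Omega.NO3S.FarQ.Glue Cfsg.Agent.Omega.NO3S.PT Cfsg.Agent.Omega.NO3S.PtGeom
open scoped Pointwise

universe u

section defs

variable {H M : Type*} [Group H] [CommGroup M] [MulDistribMulAction H M]

/-- **The part of `Flag` which is free of (F1).** -/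
structure FlagK (T : Subgroup H) (lam : Subgroup M) : Prop where
  finH : Finite H
  finM : Finite M
  sq : ∀ m : M, m * m = 1
  faith : ∀ h : H, (∀ m : M, h • m = m) → h = 1
  two : IsPGroup 2 T
  ndvd : ¬ 2 ∣ T.index
  four : 4 ≤ Nat.card lam
  fix : ∀ t ∈ T, ∀ a ∈ lam, t • a = a
  norm : ∀ h ∈ normalizer (T : Set H), ∀ a ∈ lam, h • a ∈ lam
  lin : ∀ a ∈ lam, a ≠ 1 → ∀ h : H, h • a = a → ∀ b ∈ lam, h • b = b
  gen : ∀ N : Subgroup M, (∀ h : H, ∀ a ∈ lam, h • a ∈ N) → N = ⊤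

theorem Flag.toK {R : Type*} [CommGroup R] {T : Subgroup H} {lam U : Subgroup M} {Kh : Subgroup (M →* R)}
    (F : Flag T lam U Kh) : FlagK T lam :=
  ⟨F.finH, F.finM, F.sq, F.faith, F.two, F.ndvd, F.four, F.fix, F.norm, F.lin, F.gen⟩

/-- **(NO)**: no over-offender in `O₂(C_H(lam))`. -/
def NoOv (lam : Subgroup M) : Prop :=
  ∀ A : Subgroup H, A ≤ o2 (fixer lam) → (∀ a ∈ A, ∀ b ∈ A, a * b = b * a) → (∀ a ∈ A, a * a = 1) →
    (∀ a ∈ A, ∀ b ∈ A, ∀ m : M, b • ((a • m) * m⁻¹) = (a • m) * m⁻¹) → Nat.card A ≤ (zm M A).index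

/-- **All the blocks**: helper238's `PSq` and helper471's `pf`, `cent`. -/
structure PSall (R : Type*) [CommGroup R] (T : Subgroup H) (lam : Subgroup M) (Pi : Set (Subgroup H)) : Prop
    extends PSq R T lam Pi where
  pf : ∀ J ∈ Pi, J ≤ ⁅J, J⁆
  cent : ∀ A : Subgroup H, Exact lam A → ∀ J ∈ Pi, A ⊓ J ≠ ⊥ → T ⊓ J ≤ A ∨ ∃ C ≤ J, T ⊓ J ≤ ⁅C, C⁆ ∧
    ∀ m ∈ em M J, (∀ t ∈ T ⊓ J, t • m = m) → ∀ c ∈ C, (c • m) * m⁻¹ ∈ zm M J

end defs

/-- **The K-input (NO)** for the groups `H` with `Kg H`. -/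
def KNO (Kg : ∀ (H : Type u) [Group H], Prop) : Prop :=
  ∀ (H M : Type u) [Group H] [CommGroup M] [MulDistribMulAction H M] (T : Subgroup H) (lam : Subgroup M),
    Kg H → FlagK T lam → NoOv (H := H) lam

/-- **The K-input (blocks)** for the groups `H` with `Kg H`. -/
def KPS (Kg : ∀ (H : Type u) [Group H], Prop) : Prop :=
  ∀ (H M R : Type u) [Group H] [CommGroup M] [MulDistribMulAction H M] [CommGroup R] (T : Subgroup H)
    (lam : Subgroup M), Kg H → FlagK T lam → (∀ r : R, r * r = 1) → Nat.card R = Nat.card lam →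
      ∃ Pi : Set (Subgroup H), PSall R T lam Pi

variable {G : Type u} [Group G]

/-- `H` is a homomorphic image of the subgroup `C` of `G`. -/
def Img (C : Subgroup G) (H : Type u) [Group H] : Prop := ∃ f : C →* H, Function.Surjective f

section

variable [Finite G] {S : Sylow 2 G} {P V Z : Subgroup G} (h : PL S P V Z)
include h

/-- the geometry without (F1): conjugation by `C_G(Z)` -/
theorem norm_ws {g w : G} (hg : g ∈ centralizer (Z : Set G)) (hw : w ∈ ws V Z) : g * w * g⁻¹ ∈ ws V Z :=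
  (mem_normalizer_iff.1 (normalizer_le_ws V Z (centralizer_le_normalizer _ hg)) w).1 hw

theorem real_one {H M : Type*} [Group H] [CommGroup M] [MulDistribMulAction H M] {ρ : G → H} {π : G → M}
    (r : Real V Z ρ π) : π 1 = 1 := (r.kerπ 1 (one_mem _)).2 (one_mem _)

theorem real_inv {H M : Type*} [Group H] [CommGroup M] [MulDistribMulAction H M] {ρ : G → H} {π : G → M}
    (r : Real V Z ρ π) {v : G} (hv : v ∈ ws V Z) : π v⁻¹ = (π v)⁻¹ := by
  have h4 := r.mulπ v hv v⁻¹ (inv_mem hv)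
  rw [mul_inv_cancel, real_one h r] at h4
  exact (inv_eq_of_mul_eq_one_right h4.symm).symm

theorem real_comm {H M : Type*} [Group H] [CommGroup M] [MulDistribMulAction H M] {ρ : G → H} {π : G → M}
    (r : Real V Z ρ π) {g w : G} (hg : g ∈ centralizer (Z : Set G)) (hw : w ∈ ws V Z) :
    g * w * g⁻¹ * w⁻¹ ∈ Z ↔ ρ g • π w = π w := by
  have h1 := norm_ws h hg hw
  rw [← r.kerπ _ (mul_mem h1 (inv_mem hw)), r.mulπ _ h1 _ (inv_mem hw), r.act g hg w hw, real_inv h r hw,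
    mul_inv_eq_one]

theorem real_ρone {H M : Type*} [Group H] [CommGroup M] [MulDistribMulAction H M] {ρ : G → H} {π : G → M}
    (r : Real V Z ρ π) : ρ 1 = 1 := (r.kerρ 1 (one_mem _)).2 (one_mem _)

theorem real_ρinv {H M : Type*} [Group H] [CommGroup M] [MulDistribMulAction H M] {ρ : G → H} {π : G → M}
    (r : Real V Z ρ π) {g : G} (hg : g ∈ centralizer (Z : Set G)) : ρ g⁻¹ = (ρ g)⁻¹ := by
  have h4 := r.mulρ g hg g⁻¹ (inv_mem hg)
  rw [mul_inv_cancel, real_ρone h r] at h4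
  exact (inv_eq_of_mul_eq_one_right h4.symm).symm

/-- **`FlagK` from `PL` and `N_G(S) ≤ N_G(V)`.** -/
theorem flagK_of {H M : Type*} [Group H] [CommGroup M] [MulDistribMulAction H M] {ρ : G → H} {π : G → M}
    (r : Real V Z ρ π) (hns : normalizer ((S : Subgroup G) : Set G) ≤ normalizer (V : Set G))
    (hq : 4 ≤ Nat.card Z) {T : Subgroup H} (hT : ∀ x, x ∈ T ↔ ∃ s ∈ (S : Subgroup G), ρ s = x)
    {lam : Subgroup M} (hlam : ∀ m, m ∈ lam ↔ ∃ v ∈ V, π v = m) : FlagK T lam := by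
  have hVW : V ≤ ws V Z := h.V_le_ws h.ZV
  have hS : (S : Subgroup G) ≤ centralizer (Z : Set G) := h.S_le
  have hcen : ∀ {k}, k ∈ centralizer (Z : Set G) → ∀ z ∈ Z, k * z = z * k := fun hk z hz =>
    (mem_centralizer_iff.1 hk z hz).symm
  have hcm : ∀ {g w : G}, g ∈ centralizer (Z : Set G) → w ∈ ws V Z →
      (g * w * g⁻¹ * w⁻¹ ∈ Z ↔ ρ g • π w = π w) := fun hg hw => real_comm h r hg hw
  have hlam1 : ∀ v ∈ V, π v ≠ 1 → v ∉ Z := fun v hv hv1 hvZ => hv1 ((r.kerπ v (hVW hv)).2 hvZ)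
  have hKx : ∀ k ∈ kx V Z, k ∈ centralizer (Z : Set G) := fun k hk => kx_le_cent hk
  have hcard : Nat.card lam = Nat.card Z := by
    let φ : V →* M := MonoidHom.mk' (fun a => π a) (fun a b => r.mulπ a (hVW a.2) b (hVW b.2))
    have h1 := Subgroup.card_mul_index φ.ker
    rw [Subgroup.index_ker] at h1
    have h2 : φ.range = lam := by
      ext m
      rw [hlam]
      constructor
      · rintro ⟨a, rfl⟩
        exact ⟨a, a.2, rfl⟩
      · rintro ⟨a, ha, rfl⟩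
        exact ⟨⟨a, ha⟩, rfl⟩
    have h3 : Nat.card φ.ker = Nat.card Z := by
      refine Nat.card_congr ⟨fun x => ⟨x, ?_⟩, fun x => ⟨⟨x, h.ZV x.2⟩, ?_⟩, fun x => rfl, fun x => rfl⟩
      · exact (r.kerπ _ (hVW x.1.2)).1 x.2
      · exact (r.kerπ _ (hVW (h.ZV x.2))).2 x.2
    rw [h2, h3, h.card] at h1
    exact Nat.eq_of_mul_eq_mul_left Nat.card_pos h1
  refine ⟨?_, ?_, ?_, ?_, ?_, ?_, hcard.symm ▸ hq, ?_, ?_, ?_, ?_⟩
  · exact Finite.of_surjective ρ fun x => by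
      obtain ⟨g, -, hg⟩ := r.surjρ x
      exact ⟨g, hg⟩
  · exact Finite.of_surjective π fun x => by
      obtain ⟨g, -, hg⟩ := r.surjπ x
      exact ⟨g, hg⟩
  · intro m
    obtain ⟨w, hw, rfl⟩ := r.surjπ m
    rw [← r.mulπ w hw w hw, h.ws_sq w hw]
    exact real_one h r
  · intro x hx
    obtain ⟨g, hg, rfl⟩ := r.surjρ x
    exact (r.kerρ g hg).2 (mem_kx.2 ⟨hcen hg, fun w hw => (hcm hg hw).2 (hx _)⟩)
  · rintro ⟨x, hx⟩
    obtain ⟨s, hs, rfl⟩ := (hT x).1 hx
    obtain ⟨k, hk⟩ := S.isPGroup' ⟨s, hs⟩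
    have hk' : s ^ 2 ^ k = 1 := congrArg Subtype.val hk
    refine ⟨k, Subtype.ext ?_⟩
    show ρ s ^ 2 ^ k = 1
    have hpow : ∀ j : ℕ, ρ (s ^ j) = ρ s ^ j := by
      intro j
      induction j with
      | zero => rw [pow_zero, pow_zero, real_ρone h r]
      | succ j ih => rw [pow_succ, pow_succ, r.mulρ _ (pow_mem (hS hs) j) _ (hS hs), ih]
    rw [← hpow, hk', real_ρone h r]
  · have : Fact (Nat.Prime 2) := ⟨Nat.prime_two⟩
    let f : centralizer (Z : Set G) →* H := MonoidHom.mk' (fun a => ρ a) (fun a b => r.mulρ a a.2 b b.2)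
    have hfs : Function.Surjective f := fun x => by
      obtain ⟨g, hg, rfl⟩ := r.surjρ x
      exact ⟨⟨g, hg⟩, rfl⟩
    let T' : Sylow 2 H := (S.subtype hS).mapSurjective hfs
    have hT' : (T' : Subgroup H) = T := by
      ext x
      rw [hT]
      constructor
      · rintro ⟨g, hg, rfl⟩
        exact ⟨g, mem_subgroupOf.1 hg, rfl⟩
      · rintro ⟨g, hg, rfl⟩
        exact ⟨⟨g, hS hg⟩, mem_subgroupOf.2 hg, rfl⟩
    have hfin : Finite H := Finite.of_surjective f hfs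
    rw [← hT']
    exact T'.not_dvd_index
  · intro x hx a ha
    obtain ⟨s, hs, rfl⟩ := (hT x).1 hx
    obtain ⟨v, hv, rfl⟩ := (hlam a).1 ha
    exact (hcm (hS hs) (hVW hv)).1 (h.act s hs v hv)
  · intro x hx a ha
    obtain ⟨v, hv, rfl⟩ := (hlam a).1 ha
    obtain ⟨g, hg, rfl⟩ := r.surjρ x
    have hSK : (S : Subgroup G) ≤ normalizer ((kx V Z : Subgroup G) : Set G) :=
      h.S_le_N.trans (normalizer_le_kx V Z)
    have h1 : ((g • S : Sylow 2 G) : Subgroup G) ≤ kx V Z ⊔ S := by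
      intro y hy
      rw [coe_smul, mem_cj] at hy
      have hyC : y ∈ centralizer (Z : Set G) := by
        have := mul_mem (mul_mem hg (hS hy)) (inv_mem hg)
        have e : g * (g⁻¹ * y * g) * g⁻¹ = y := by group
        rwa [e] at this
      have h2 : ρ g * ρ (g⁻¹ * y * g) * (ρ g)⁻¹ ∈ T := (mem_normalizer_iff.1 hx _).1 ((hT _).2 ⟨_, hy, rfl⟩)
      have h3 : ρ g * ρ (g⁻¹ * y * g) * (ρ g)⁻¹ = ρ y := by
        rw [← r.mulρ g hg _ (hS hy), ← real_ρinv h r hg,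
          ← r.mulρ _ (mul_mem hg (hS hy)) _ (inv_mem hg)]
        congr 1; group
      rw [h3] at h2
      obtain ⟨s, hs, hs'⟩ := (hT _).1 h2
      have h5 : y * s⁻¹ ∈ kx V Z := by
        rw [← r.kerρ _ (mul_mem hyC (inv_mem (hS hs))), r.mulρ y hyC s⁻¹ (inv_mem (hS hs)),
          real_ρinv h r (hS hs), hs', mul_inv_cancel]
      have h8 : y = y * s⁻¹ * s := by group
      rw [h8]
      exact mul_mem (mem_sup_left h5) (mem_sup_right hs)
    obtain ⟨b, hb, hbS⟩ := exists_conj (S := S) (T := g • S) (H := kx V Z ⊔ S) le_sup_right h1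
    rw [← SetLike.mem_coe, coe_mul_of_right_le_normalizer_left _ _ hSK] at hb
    obtain ⟨k, hk, s, hs, rfl⟩ := hb
    have h2 : k⁻¹ * g ∈ normalizer ((S : Subgroup G) : Set G) := by
      have h3 : cj (k * s) (S : Subgroup G) = cj g (S : Subgroup G) := hbS
      rw [← cj_cj, cj_eq_iff.2 (le_normalizer hs)] at h3
      rw [← cj_eq_iff, ← cj_cj, ← h3, cj_cj, inv_mul_cancel, cj_one]
    have hkC := hKx k hk
    have h4 : ρ (k⁻¹ * g) = ρ g := by
      rw [r.mulρ _ (inv_mem hkC) g hg, real_ρinv h r hkC, (r.kerρ k hkC).2 hk, inv_one, one_mul]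
    have h5 := (mem_normalizer_iff.1 (hns h2) v).1 hv
    refine (hlam _).2 ⟨_, h5, ?_⟩
    rw [r.act _ (mul_mem (inv_mem hkC) hg) v (hVW hv), h4]
  · intro a ha hv1 x hx b hb
    obtain ⟨v, hv, rfl⟩ := (hlam a).1 ha
    obtain ⟨u, hu, rfl⟩ := (hlam b).1 hb
    obtain ⟨g, hg, rfl⟩ := r.surjρ x
    have hvZ := hlam1 v hv hv1
    rw [← hcm hg (hVW hv)] at hx
    rw [← hcm hg (hVW hu)]
    exact h.lin (hcen hg) hv hvZ hx u hu
  · intro N hN
    let E : Subgroup G :=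
      { carrier := {w | w ∈ ws V Z ∧ π w ∈ N}
        one_mem' := ⟨one_mem _, by
          rw [real_one h r]; exact one_mem _⟩
        mul_mem' := by
          rintro a b ⟨ha, ha'⟩ ⟨hb, hb'⟩
          exact ⟨mul_mem ha hb, by rw [r.mulπ a ha b hb]; exact mul_mem ha' hb'⟩
        inv_mem' := by
          rintro a ⟨ha, ha'⟩
          refine ⟨inv_mem ha, ?_⟩
          rw [real_inv h r ha]; exact inv_mem ha' }
    have hE : ws V Z ≤ E := by
      refine ws_le fun L hL hZL => ?_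
      obtain ⟨c, hc, rfl⟩ := exists_cent_line h hns hL hZL
      intro w hw
      refine ⟨le_ws hL hZL hw, ?_⟩
      have hw' := mem_cj.1 hw
      have e : c * (c⁻¹ * w * c) * c⁻¹ = w := by group
      have h1 := r.act c hc _ (hVW hw')
      rw [e] at h1
      rw [h1]
      exact hN _ _ ((hlam _).2 ⟨_, hw', rfl⟩)
    rw [eq_top_iff]
    intro m _
    obtain ⟨w, hw, rfl⟩ := r.surjπ m
    exact (hE hw).2

/-- a realisation exists -/
theorem exists_real : ∃ (H M : Type u) (_ : Group H) (_ : CommGroup M) (_ : MulDistribMulAction H M)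
    (ρ : G → H) (π : G → M), Real V Z ρ π := by
  have hWn := normalizer_le_ws V Z
  have hCn : centralizer (Z : Set G) ≤ normalizer (Z : Set G) := centralizer_le_normalizer _
  obtain ⟨H, M, iH, iM, iA, ρ, π, hρm, hρs, hρk, hπm, hπs, hπk, hact⟩ := exists_mod (C := centralizer (Z : Set G))
    (W := ws V Z) (R := Z) (fun c hc w hw => (mem_normalizer_iff.1 (hWn (hCn hc)) w).1 hw)
    (fun c hc w hw => (mem_normalizer_iff.1 (hCn hc) w).1 hw)
    (fun a ha b hb => (mem_centralizer_iff.1 (h.Wcomm ha) b hb).symm)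
  refine ⟨H, M, iH, iM, iA, ρ, π, hρm, hρs, fun a ha => ?_, hπm, hπs, hπk, hact⟩
  rw [hρk a ha, mem_kx]
  exact ⟨fun h1 => ⟨fun x hx => (mem_centralizer_iff.1 ha x hx).symm, h1⟩, fun h1 => h1.2⟩

omit [Finite G] h in
theorem img_of_real {H M : Type u} [Group H] [CommGroup M] [MulDistribMulAction H M] {ρ : G → H} {π : G → M}
    (r : Real V Z ρ π) : Img (centralizer (Z : Set G)) H := by
  refine ⟨MonoidHom.mk' (fun a => ρ a) (fun a b => r.mulρ a a.2 b b.2), fun x => ?_⟩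
  obtain ⟨g, hg, rfl⟩ := r.surjρ x
  exact ⟨⟨g, hg⟩, rfl⟩

/-- **(F1) from the K-input.** -/
theorem hf_of_kin (hns : normalizer ((S : Subgroup G) : Set G) ≤ normalizer (V : Set G)) (hq : 4 ≤ Nat.card Z)
    {n : ℕ} (hn : 1 ≤ n) {x y : Pt Z}
    (hc : Crit (inc (Z := Z) (V := V)) (fun x : Pt Z => ws V x.sg) n x y)
    (hNO : KNO.{u} (fun H _ => Img (centralizer (Z : Set G)) H))
    (hPS : KPS.{u} (fun H _ => Img (centralizer (Z : Set G)) H)) : ¬ kx V Z ≤ centralizer (V : Set G) := by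
  obtain ⟨H, M, iH, iM, iA, ρ, π, r⟩ := exists_real h
  let T : Subgroup H := FOne.tt h r
  have hT : ∀ x, x ∈ T ↔ ∃ s ∈ (S : Subgroup G), ρ s = x := fun x => FOne.mem_img r
  have hWm : ∀ v ∈ V, v ∈ ws V Z := fun v hv => h.V_le_ws h.ZV hv
  let lam : Subgroup M := (V.subgroupOf (ws V Z)).map (FOne.ph r)
  have hlam : ∀ m, m ∈ lam ↔ ∃ v ∈ V, π v = m := fun m => FOne.ph_V_mem h r
  have hK := flagK_of h r hns hq hT hlam
  obtain ⟨K, iK, ζ, hinj, hran⟩ := exists_group (Z := Z) fun a ha b hb => h.Vcomm (h.ZV ha) (h.ZV hb)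
  have hsq : ∀ r : K, r * r = 1 := by
    intro r
    apply hinj
    rw [map_mul, map_one]
    exact h.Vsq _ (h.ZV ((hran _).2 ⟨r, rfl⟩))
  have hcard : Nat.card K = Nat.card lam := by
    have h1 : Nat.card K = Nat.card Z := by
      refine Nat.card_congr ⟨fun x => ⟨ζ x, (hran _).2 ⟨x, rfl⟩⟩, fun x => ((hran _).1 x.2).choose,
        fun x => ?_, fun x => ?_⟩
      · exact hinj ((hran (ζ x)).1 ((hran _).2 ⟨x, rfl⟩)).choose_spec
      · exact Subtype.ext ((hran _).1 x.2).choose_spec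
    have h2 : Nat.card lam = Nat.card Z := by
      let φ : V →* M := MonoidHom.mk' (fun a => π a) (fun a b => r.mulπ a (hWm a a.2) b (hWm b b.2))
      have h1 := Subgroup.card_mul_index φ.ker
      rw [Subgroup.index_ker] at h1
      have h2 : φ.range = lam := by
        ext m
        rw [hlam]
        constructor
        · rintro ⟨a, rfl⟩
          exact ⟨a, a.2, rfl⟩
        · rintro ⟨a, ha, rfl⟩
          exact ⟨⟨a, ha⟩, rfl⟩
      have h3 : Nat.card φ.ker = Nat.card Z := by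
        refine Nat.card_congr ⟨fun x => ⟨x, ?_⟩, fun x => ⟨⟨x, h.ZV x.2⟩, ?_⟩, fun x => rfl, fun x => rfl⟩
        · exact (r.kerπ _ (hWm _ x.1.2)).1 x.2
        · exact (r.kerπ _ (hWm _ (h.ZV x.2))).2 x.2
      rw [h2, h3, h.card] at h1
      exact Nat.eq_of_mul_eq_mul_left Nat.card_pos h1
    rw [h1, h2]
  have hI : Img (centralizer (Z : Set G)) H := img_of_real r
  obtain ⟨Pi, hPi⟩ := hPS H M K T lam hI hK hsq hcard
  exact FOne.hf_of h r hns hn hc hT hlam (hNO H M T lam hI hK) (FOne.PSf.of_psq hPi.toPSq hPi.pf hPi.cent)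

end

end Cfsg.Agent.Omega.NO3S.FarQ
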