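import Cfsg.Agent.Omega.NO3S.FarQ.FlagK
import Cfsg.Agent.Omega.ML.Final

/-!
# NO-3S, `q ≥ 4`: (NO) from (ML) (helper854's `MLK`)

* `noOv_of_mls` : (ML) for `(H, M)` and one vector gives `NoOv lam` (`M = ⟨lam^H⟩`, `C_H(a) = C_H(lam)`);
* `kno_of_mlk` : `KNO` for K-groups.
-/

set_option autoImplicit false

namespace Cfsg.Agent.Omega.NO3S.FarQ

open Subgroup Cfsg Cfsg.Agent.ZN Cfsg.Agent.MinSimple.VModule
open Cfsg.Agent.Omega.NOThree.Pts (conj_mem_of_le_normalizer)
open Cfsg.Agent.Omega.NOThree.NoOver Cfsg.Agent.Omega.ML.MinFrame Cfsg.Agent.Omega.ML.Final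
open Cfsg.Agent.ClassTwoFusion.Quad (cv mem_cv cv_anti)

universe u

variable {H M : Type*} [Group H] [CommGroup M] [MulDistribMulAction H M]

theorem noOv_of_mls {T : Subgroup H} {lam : Subgroup M} (F : FlagK T lam) (hML : MLS False H M) :
    NoOv (H := H) lam := by
  have := F.finH
  have := F.finM
  intro A hA hcomm hsq _
  by_contra hcon
  push Not at hcon
  have hov : Nat.card M < fo M A := by
    have h1 := Subgroup.card_mul_index (cv M (A : Set H))
    have h2 : 0 < Nat.card (cv M (A : Set H)) := Nat.card_pos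
    unfold fo
    rw [← h1, mul_comm]
    exact Nat.mul_lt_mul_of_pos_right hcon h2
  obtain ⟨B, hB⟩ := exists_min hcomm le_rfl hov
  have hBQ : B ≤ o2 (fixer lam) := hB.le.trans hA
  -- `B` centralises the orbit of every `a ∈ lam`
  have key : ∀ a ∈ lam, B ≤ fxr H (orb (⊤ : Subgroup H) a) := by
    intro a ha
    by_cases ha1 : a = 1
    · intro b _
      rw [mem_fxr_orb]
      intro g _
      rw [ha1, smul_one, smul_one]
    have h1 := hML T (o2 (fixer lam)) B a (mem_top _) F.two le_top (by rw [relIndex_top_right]; exact F.ndvd)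
      (fun t ht => F.fix t ht a ha) (o2_isPGroup _) le_top (fun q hq => o2_le _ hq a ha)
      (fun g _ hg q hq => conj_mem_of_le_normalizer (le_normalizer_o2 _) (F.lin a ha ha1 g hg) hq) hBQ
      (fun b hb => hsq b (hB.le hb)) False.elim
    by_contra hne
    set D : Subgroup H := B ⊓ fxr H (orb (⊤ : Subgroup H) a) with hD
    have hDB : D < B := by
      refine lt_of_le_of_ne inf_le_left fun e => hne ?_
      rw [← e]
      exact inf_le_right
    have h2 := hB.lt hDB
    have h3 : orb (⊤ : Subgroup H) a ≤ cv M (D : Set H) := by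
      intro m hm d hd
      exact hd.2 m hm
    have h4 : (cv M (B : Set H)).relIndex (orb (⊤ : Subgroup H) a) ≤
        (cv M (B : Set H)).relIndex (cv M (D : Set H)) :=
      relIndex_le_of_le_right h3 (index_ne_zero_of_finite)
    have h5 : D.relIndex B = (fxr H (orb (⊤ : Subgroup H) a)).relIndex B := by
      rw [hD, inf_relIndex_left]
    rw [h5] at h2
    exact absurd (h1.trans h4) (not_le.2 h2)
  apply hB.ne_bot
  rw [eq_bot_iff]
  intro b hb
  rw [mem_bot]
  apply F.faith
  have h1 : cv M ({b} : Set H) = ⊤ := F.gen _ fun h a ha => by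
    intro x hx
    rw [Set.mem_singleton_iff.1 hx]
    exact (mem_fxr_orb.1 (key a ha hb)) h (mem_top h)
  intro m
  have h2 : m ∈ cv M ({b} : Set H) := by rw [h1]; exact mem_top m
  exact h2 b rfl

/-- **`KNO` for K-groups from (ML).** -/
theorem kno_of_mlk (h : MLK.{u, u}) : KNO.{u} (fun H _ => IsKGroup H) := by
  intro H M _ _ _ T lam hK F
  have := F.finH
  have := F.finM
  exact noOv_of_mls F (h H M hK F.sq)

theorem KNO.mono {K₁ K₂ : ∀ (H : Type u) [Group H], Prop} (h : KNO.{u} K₂)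
    (hle : ∀ (H : Type u) [Group H], K₁ H → K₂ H) : KNO.{u} K₁ :=
  fun H M _ _ _ T lam hK F => h H M T lam (hle H hK) F

theorem KPS.mono {K₁ K₂ : ∀ (H : Type u) [Group H], Prop} (h : KPS.{u} K₂)
    (hle : ∀ (H : Type u) [Group H], K₁ H → K₂ H) : KPS.{u} K₁ :=
  fun H M R _ _ _ _ T lam hK F h1 h2 => h H M R T lam (hle H hK) F h1 h2

/-- images of proper subgroups of a `K`-proper group are K-groups -/
theorem kgroup_of_img {G : Type u} [Group G] (hG : IsKProper G) {C : Subgroup G} (hC : C ≠ ⊤) (H : Type u) [Group H]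
    (h : Img C H) : IsKGroup H := by
  obtain ⟨f, hf⟩ := h
  refine kgroup_of_surj (hG C hC) ⊤ (f.comp (⊤ : Subgroup C).subtype) fun x => ?_
  obtain ⟨y, rfl⟩ := hf x
  exact ⟨⟨y, mem_top y⟩, rfl⟩

end Cfsg.Agent.Omega.NO3S.FarQ
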