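import Cfsg.Agent.Omega.NO3S.FarQ.End
import Cfsg.Agent.Omega.NO3S.FarQ.NoOvOf
import Cfsg.Agent.Omega.NO3S.PLOf
import Cfsg.Agent.Omega.Node.NO3S

/-!
# NO-3S, natural lines, `q ≥ 4`: the socket `FarQ`, and the front of `MidQ`

* `farQ` : `FarQ K` from (ML) (`MLK`) and the K-input on the blocks (`KPS` for K-groups);
* `midQ_front` : for `n = 2`: `PL`, (F1), (T6), the realised flag `RD`, the blocks `PSall` and `Single`.
-/

set_option autoImplicit false
set_option linter.unusedSectionVars false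

namespace Cfsg.Agent.Omega.NO3S.FarQ

open Subgroup Cfsg Cfsg.Agent.ZN Cfsg.Agent.MinSimple.VModule Cfsg.Agent.Omega.NOThree.Pts
open Cfsg.Agent.Omega.NO3S.FarQ.Glue Cfsg.Agent.Omega.NO3S.PT Cfsg.Agent.Omega.NO3S.PtGeom
open Cfsg.Agent.Omega.ML.Final (MLK)
open Cfsg.Agent.Omega.MinPar Cfsg.Agent.Omega.Frame Cfsg.Agent.Omega.FrameNOFF Cfsg.Agent.Omega.NatPair
open scoped Pointwise

universe u

variable {G : Type u} [Group G] [Finite G] {S : Sylow 2 G} {P : Subgroup G}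

/-- `C_G(Z)` is a proper subgroup. -/
theorem centralizer_zc_ne_top (h : Hyp S P) : centralizer (zc (S : Subgroup G) : Set G) ≠ ⊤ := by
  intro htop
  have := h.ctx.simple
  have hZ : zc (S : Subgroup G) ≤ center G := by
    intro z hz
    rw [mem_center_iff]
    intro g
    have hg : g ∈ centralizer (zc (S : Subgroup G) : Set G) := by rw [htop]; exact mem_top g
    exact (mem_centralizer_iff.1 hg z hz).symm
  rcases (inferInstance : (center G).Normal).eq_bot_or_eq_top with h1 | h1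
  · exact h.zc_ne (le_bot_iff.1 (hZ.trans h1.le))
  · apply h.ctx.nonComm
    refine ⟨⟨fun a b => ?_⟩⟩
    have hb : b ∈ center G := by rw [h1]; exact mem_top b
    exact mem_center_iff.1 hb a

variable {F : Type*} [Field F] [Finite F] [CharP F 2]

/-- the K-inputs for `C_G(Z)` -/
theorem inputs (h : Hyp S P) (hML : MLK.{u, u}) (hPS : KPS.{u} (fun H _ => IsKGroup H)) :
    KNO.{u} (fun H _ => Img (centralizer (zc (S : Subgroup G) : Set G)) H) ∧
      KPS.{u} (fun H _ => Img (centralizer (zc (S : Subgroup G) : Set G)) H) :=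
  ⟨(kno_of_mlk hML).mono fun H _ hI => kgroup_of_img h.ctx.kproper (centralizer_zc_ne_top h) H hI,
    hPS.mono fun H _ hI => kgroup_of_img h.ctx.kproper (centralizer_zc_ne_top h) H hI⟩

/-- **The socket `FarQ`** from (ML) and the K-input on the blocks. -/
theorem farQ {K : Cls.{u}} (hML : MLK.{u, u}) (hPS : KPS.{u} (fun H _ => IsKGroup H)) : FarQ K := by
  intro G _ _ _ S P h F _ _ _ hF M hZ hU n y hn hc
  exfalso
  obtain ⟨h1, -⟩ := pl_of_uniq h.toHypN.toHyp hU M hZ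
  obtain ⟨h2, h3⟩ := inputs h.toHypN.toHyp hML hPS
  exact far_false h1 (omQ_of_hypJ h h1) (hU.ns h.star) (hZ.symm ▸ hF) h2 h3 hn (PtGeom.crit h1 rfl hc)

/-- **The front of `MidQ`.** -/
theorem midQ_front (hML : MLK.{u, u}) (hPS : KPS.{u} (fun H _ => IsKGroup H)) (h : HypJ S P)
    (hU : Uniq (S : Subgroup G) P) (hF : 4 ≤ Nat.card F) (M : NatP F (zl (S : Subgroup G) P) P)
    (hZ : Nat.card (zc (S : Subgroup G)) = Nat.card F) {n : ℕ} (hn : 1 ≤ n) {y : G}
    (hc : CritN (S : Subgroup G) P n 1 y) :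
    PL S P (zl (S : Subgroup G) P) (zc (S : Subgroup G)) ∧ OmQ S (zl (S : Subgroup G) P) ∧
      ¬ kx (zl (S : Subgroup G) P) (zc (S : Subgroup G)) ≤ centralizer (zl (S : Subgroup G) P : Set G) := by
  obtain ⟨h1, -⟩ := pl_of_uniq h.toHypN.toHyp hU M hZ
  obtain ⟨h2, h3⟩ := inputs h.toHypN.toHyp hML hPS
  exact ⟨h1, omQ_of_hypJ h h1, hf_of_kin h1 (hU.ns h.star) (hZ.symm ▸ hF) hn (PtGeom.crit h1 rfl hc) h2 h3⟩

/-- **`MidQ` is `Single`.** -/
theorem midQ_single (hML : MLK.{u, u}) (hPS : KPS.{u} (fun H _ => IsKGroup H)) (h : HypJ S P)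
    (hU : Uniq (S : Subgroup G) P) (hF : 4 ≤ Nat.card F) (M : NatP F (zl (S : Subgroup G) P) P)
    (hZ : Nat.card (zc (S : Subgroup G)) = Nat.card F) {y : G} (hc : CritN (S : Subgroup G) P 2 1 y) :
    ∃ (H M K : Type u) (_ : Group H) (_ : CommGroup M) (_ : MulDistribMulAction H M) (_ : CommGroup K)
      (ρ : G → H) (π : G → M) (ζ : K →* G) (T : Subgroup H) (lam U : Subgroup M) (Kh : Subgroup (M →* K))
      (Pi : Set (Subgroup H)),
      RD (PtGeom.inc (Z := zc (S : Subgroup G)) (V := zl (S : Subgroup G) P)) (fun x => x.sg)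
        (fun x => ws (zl (S : Subgroup G) P) x.sg) (fun l => l.sg) (Pt.base _) (Pt.base _)
        (S : Subgroup G) ρ π ζ T lam U Kh ∧ PSall K T lam Pi ∧ NoOv (H := H) lam ∧ IsKGroup H ∧
        Single Pi lam := by
  obtain ⟨h1, hO, hf⟩ := midQ_front hML hPS h hU hF M hZ (by norm_num) hc
  obtain ⟨h2, h3⟩ := inputs h.toHypN.toHyp hML hPS
  obtain ⟨H, M', K, iH, iM, iA, iK, ρ, π, ζ, T, lam, U, Kh, D⟩ :=
    exists_rd h1 hf hO (hU.ns h.star) (hZ.symm ▸ hF)
  have hI : Img (centralizer (zc (S : Subgroup G) : Set G)) H :=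
    ⟨MonoidHom.mk' (fun a => ρ a) (fun a b => D.re.mul a a.2 b b.2), fun x => by
      obtain ⟨g, hg, rfl⟩ := D.re.surj x
      exact ⟨⟨g, hg⟩, rfl⟩⟩
  obtain ⟨Pi, hPi⟩ := h3 H M' K T lam hI D.flag.toK D.flag.sqR D.flag.cardR
  exact ⟨H, M', K, iH, iM, iA, iK, ρ, π, ζ, T, lam, U, Kh, Pi, D, hPi, h2 H M' T lam hI D.flag.toK,
    kgroup_of_img h.ctx.kproper (centralizer_zc_ne_top h.toHypN.toHyp) H hI,
    mid_single h1 hO (hU.ns h.star) (hZ.symm ▸ hF) h2 hf (PtGeom.crit h1 rfl hc) D hPi.toPSq⟩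

end Cfsg.Agent.Omega.NO3S.FarQ
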