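import Cfsg.Agent.ClassTwoFusion.Quad
import Cfsg.Agent.MinSimple.VModule
import Cfsg.Agent.Omega.NO3S.PointTI

/-!
# FarQ, abstract part: the interface (TEXT 263-Q, bb OMEGA #15995, (Q0), (Q1))

`H` acts faithfully on the elementary abelian 2-group `M` (`H = C_p / K_p`, `M = W_p / p`), `R` is the point `p` as
an abstract group (every element of `C_p` centralises it).

* `zm M J = C_M(J)`, `cm E J = [E, J]`, `em M J = [M, J]`, `tm M J = C_{[M, J]}(J)`; `J` is split if `tm M J = 1`;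
* `Flag T lam U Kh` : the K-free data of a flag `(p, l)`: `T` a Sylow 2-subgroup of `H`, `lam = V_l / p`,
  `U = I_l / p`, `Kh` the group of the homomorphisms `m ↦ [m, k]`, `k ∈ K_p`, from `M` to `R`;
* `Exact lam A` : `1 ≠ A ≤ O₂(C_H(lam))` is an exact quadratic elementary abelian offender;
* `PSq R T lam Pi` : **the K-input**: `Pi` is the set of blocks; all fields are free of fields and vector spaces;
* `Single Pi lam` : `|τ| = 1` and split.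

`R` has the order of `lam` (used only in `PSq.good` through `GoodB`).
-/

set_option autoImplicit false

namespace Cfsg.Agent.Omega.NO3S.FarQ

open Subgroup Cfsg.Agent.ZN Cfsg.Agent.Omega.NO3S.PT
open Cfsg.Agent.ClassTwoFusion.Quad (cv mem_cv cv_anti)
open scoped Pointwise

variable {H M R : Type*} [Group H] [CommGroup M] [MulDistribMulAction H M] [CommGroup R]

variable (M) in
/-- `C_M(J)` -/
abbrev zm (J : Subgroup H) : Subgroup M := cv M (J : Set H)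

/-- `[E, J]` -/
def cm (E : Subgroup M) (J : Subgroup H) : Subgroup M := closure {x | ∃ j ∈ J, ∃ m ∈ E, x = (j • m) * m⁻¹}

variable (M) in
/-- `[M, J]` -/
def em (J : Subgroup H) : Subgroup M := cm ⊤ J

variable (M) in
/-- `C_{[M, J]}(J)` -/
def tm (J : Subgroup H) : Subgroup M := em M J ⊓ zm M J

/-- `C_H(lam)` -/
def fixer (lam : Subgroup M) : Subgroup H where
  carrier := {h | ∀ a ∈ lam, h • a = a}
  one_mem' := fun a _ => one_smul H a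
  mul_mem' := fun {x y} hx hy a ha => by rw [mul_smul, hy a ha, hx a ha]
  inv_mem' := fun {x} hx a ha => by rw [inv_smul_eq_iff]; exact (hx a ha).symm

/-- `O_J = ⟨(A ∩ J)^{C_J(lam)}⟩` -/
def oj (lam : Subgroup M) (A J : Subgroup H) : Subgroup H :=
  closure {x | ∃ c ∈ J ⊓ fixer lam, ∃ y ∈ A ⊓ J, x = c * y * c⁻¹}

/-- **The K-free data of a flag `(p, l)`.** -/
structure Flag (T : Subgroup H) (lam U : Subgroup M) (Kh : Subgroup (M →* R)) : Prop where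
  finH : Finite H
  finM : Finite M
  sq : ∀ m : M, m * m = 1
  sqR : ∀ r : R, r * r = 1
  cardR : Nat.card R = Nat.card lam
  faith : ∀ h : H, (∀ m : M, h • m = m) → h = 1
  two : IsPGroup 2 T
  ndvd : ¬ 2 ∣ T.index
  four : 4 ≤ Nat.card lam
  fix : ∀ t ∈ T, ∀ a ∈ lam, t • a = a
  /-- from UNIQ: `N_G(T) ≤ N_G(V_l)` -/
  norm : ∀ h ∈ normalizer (T : Set H), ∀ a ∈ lam, h • a ∈ lam
  /-- (LIN) -/
  lin : ∀ a ∈ lam, a ≠ 1 → ∀ h : H, h • a = a → ∀ b ∈ lam, h • b = b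
  /-- `M = ⟨lam^H⟩` -/
  gen : ∀ N : Subgroup M, (∀ h : H, ∀ a ∈ lam, h • a ∈ N) → N = ⊤
  le : lam ≤ U
  /-- (U) -/
  uu : ∀ u ∈ U, u ∉ lam → ∀ a ∈ lam, ∃ h : H, h • u = u * a
  kh : ∀ φ ∈ Kh, ∀ h : H, ∃ ψ ∈ Kh, ∀ m, ψ m = φ (h • m)
  /-- (F1) -/
  f1 : ∀ a ∈ lam, a ≠ 1 → ∃ φ ∈ Kh, φ a ≠ 1
  /-- from TI: an element of `K_p` centralising one element of a point `x ∼ p` centralises `x` -/
  ti : ∀ φ ∈ Kh, ∀ a ∈ lam, a ≠ 1 → φ a = 1 → ∀ b ∈ lam, φ b = 1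

/-- **An exact offender** in `O₂(C_H(lam))`. -/
structure Exact (lam : Subgroup M) (A : Subgroup H) : Prop where
  ne : A ≠ ⊥
  le : A ≤ o2 (fixer lam)
  comm : ∀ a ∈ A, ∀ b ∈ A, a * b = b * a
  sq : ∀ a ∈ A, a * a = 1
  quad : ∀ a ∈ A, ∀ b ∈ A, ∀ m : M, b • ((a • m) * m⁻¹) = (a • m) * m⁻¹
  card : Nat.card A = (zm M A).index

/-- `(g, α)` separates, type A: `w = g • a`, `c = [w, α]`: every nontrivial `J`-invariant group `Φ` of homomorphisms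
`M → R` trivial on `C_M(J)` contains `φ` with `φ c = 1`, `φ [c, h] ≠ 1` for some `h ∈ g O_J g⁻¹`. -/
def GoodA (R : Type*) [CommGroup R] (lam : Subgroup M) (A J : Subgroup H) (g α : H) : Prop :=
  ∀ Φ : Subgroup (M →* R), Φ ≠ ⊥ → (∀ φ ∈ Φ, ∀ j ∈ J, ∃ ψ ∈ Φ, ∀ m, ψ m = φ (j • m)) →
    (∀ φ ∈ Φ, ∀ z ∈ zm M J, φ z = 1) → ∀ a ∈ lam, a ≠ 1 → ∃ φ ∈ Φ, ∃ h ∈ oj lam A J,
      φ ((α • g • a) * (g • a)⁻¹) = 1 ∧
      φ (((g * h * g⁻¹) • ((α • g • a) * (g • a)⁻¹)) * ((α • g • a) * (g • a)⁻¹)⁻¹) ≠ 1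

/-- `(g, α)` separates, type B (`lam ≤ [M, J]`, `J` nonsplit, `T` normalises `J`): `Φ` a group of functions `M → R`,
multiplicative on `[M, J]`, `J`-invariant, with the TI property for `lam^J`. If not (`Φ` trivial on `C_{[M, J]}(J)`
and `T` acts on `[M, J]` as a subgroup of `J`), some `φ ∈ Φ` has `φ w = φ c = 1`, `φ [c, h] ≠ 1`. -/
def GoodB (R : Type*) [CommGroup R] (T : Subgroup H) (lam : Subgroup M) (A J : Subgroup H) (g α : H) : Prop :=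
  ∀ Φ : Subgroup (M → R), (∀ φ ∈ Φ, ∀ x ∈ em M J, ∀ y ∈ em M J, φ (x * y) = φ x * φ y) →
    (∀ φ ∈ Φ, ∀ j ∈ J, ∃ ψ ∈ Φ, ∀ x ∈ em M J, ψ x = φ (j • x)) →
    (∀ a ∈ lam, a ≠ 1 → ∃ φ ∈ Φ, φ a ≠ 1) →
    (∀ φ ∈ Φ, ∀ j ∈ J, ∀ a ∈ lam, a ≠ 1 → φ (j • a) = 1 → ∀ b ∈ lam, φ (j • b) = 1) →
    ((∃ φ ∈ Φ, ∃ e ∈ tm M J, φ e ≠ 1) ∨ ¬ ∀ t ∈ T, ∃ j ∈ J, ∀ e ∈ em M J, t • e = j • e) →
    ∀ a ∈ lam, a ≠ 1 → ∃ φ ∈ Φ, ∃ h ∈ oj lam A J, φ (g • a) = 1 ∧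
      φ ((α • g • a) * (g • a)⁻¹) = 1 ∧
      φ (((g * h * g⁻¹) • ((α • g • a) * (g • a)⁻¹)) * ((α • g • a) * (g • a)⁻¹)⁻¹) ≠ 1

/-- **The K-input (PSq)**: `Pi` is the set of blocks of `H` on `M`. -/
structure PSq (R : Type*) [CommGroup R] (T : Subgroup H) (lam : Subgroup M) (Pi : Set (Subgroup H)) : Prop where
  conj : ∀ J ∈ Pi, ∀ h : H, cj h J ∈ Pi
  ne : ∀ J ∈ Pi, J ≠ ⊥
  comm : ∀ J ∈ Pi, ∀ J' ∈ Pi, J ≠ J' → ∀ x ∈ J, ∀ y ∈ J', x * y = y * x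
  /-- `[M, J]` is centralised by the other blocks -/
  em_le : ∀ J ∈ Pi, ∀ J' ∈ Pi, J ≠ J' → em M J ≤ zm M J'
  cover : ∀ J ∈ Pi, em M J ⊔ zm M J = ⊤
  perf : ∀ J ∈ Pi, cm (em M J) J = em M J
  faith : ∀ J ∈ Pi, ∀ j ∈ J, (∀ m : M, (j • m) * m⁻¹ ∈ zm M J) → j = 1
  /-- the torus element -/
  tor : ∀ J ∈ Pi, ¬ lam ≤ zm M J → ∃ θ ∈ J, (∀ t ∈ T, cj t J = J → t * θ * t⁻¹ * θ⁻¹ ∈ T ⊓ J) ∧
    ∀ a ∈ lam, (θ • a) * a⁻¹ ∈ zm M J → a = 1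
  prod : ∀ A : Subgroup H, Exact lam A → A ≤ closure {x | ∃ J ∈ Pi, x ∈ A ⊓ J}
  hit : ∀ A : Subgroup H, Exact lam A → ∀ J ∈ Pi, A ⊓ J ≠ ⊥ → ¬ lam ≤ zm M J
  gens : ∀ A : Subgroup H, Exact lam A → ∀ J ∈ Pi, A ⊓ J ≠ ⊥ →
    J ≤ closure {x | ∃ c ∈ J, ∃ y ∈ A ⊓ J, x = c * y * c⁻¹}
  meets : ∀ A : Subgroup H, Exact lam A → ∀ J ∈ Pi, A ⊓ J ≠ ⊥ → tm M J ≠ ⊥ → cm (em M J) (A ⊓ J) ⊓ zm M J ≠ ⊥
  trans : ∀ A : Subgroup H, Exact lam A → ∀ J ∈ Pi, A ⊓ J ≠ ⊥ → tm M J = ⊥ →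
    ∀ x ∈ em M J, ∀ y ∈ em M J, x ≠ 1 → y ≠ 1 → ∃ j ∈ J, j • x = y
  /-- `A ∩ J` is generated by good elements, for some `g ∈ J` such that `A ∩ J` moves `g • a` modulo `C_M(J)`. -/
  good : ∀ A : Subgroup H, Exact lam A → ∀ J ∈ Pi, A ⊓ J ≠ ⊥ → ∃ g ∈ J,
    (∀ a ∈ lam, a ≠ 1 → ∃ α ∈ A ⊓ J, (α • g • a) * (g • a)⁻¹ ∉ zm M J) ∧
    A ⊓ J ≤ closure {α | α ∈ A ⊓ J ∧ ((∀ a ∈ lam, (α • g • a) * (g • a)⁻¹ ∈ zm M J) ∨
      (GoodA R lam A J g α ∧ (A ≤ J → lam ≤ em M J → tm M J ≠ ⊥ → (∀ t ∈ T, cj t J = J) →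
        GoodB R T lam A J g α)))}

/-- `|τ| = 1` and split: `lam` lies in `[M, J]` for a split block `J` (with `PSq`: `lam` is centralised by the
other blocks). -/
def Single (Pi : Set (Subgroup H)) (lam : Subgroup M) : Prop :=
  ∃ J ∈ Pi, lam ≤ em M J ∧ tm M J = ⊥

end Cfsg.Agent.Omega.NO3S.FarQ
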