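import Cfsg.Agent.Omega.NOThree.LemmaM

/-!
# NO-3S, `q ≥ 4`: FarQ (`n ≥ 3`) and MidQ (`n = 2`) from the module facts (helper263 #15995, sections 6 and 7)

Abstract form, on `NOThree.Pts.Geom` (any `s`).

* `Ex q l A` : `A ≤ O₂(C_G(V_l))` is elementary abelian, quadratic, not trivial and exact on `M_q = W_q / R_q`;
* `ExP n p q` : an exact critical pair; `ExP.of_good`, `ExP.of_typeI`;
* `NS n` : "not (`|τ| = 1` and split)": `k1` (6.1)(α), `k2` (6.1)(β), `d` (4.0) (and the generation of section 7);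
* `SP` : `|τ| = 1` and split: commutators of an exact `A` lie in lines;
* `far` : `n ≥ 3`, `NoOver`, `NS n ∨ SP` : there is no critical pair (6.3);
* `mid` : `n = 2`, `NoOver`, `NS 2` : there is no critical pair (7).
-/

set_option autoImplicit false
set_option linter.unusedSectionVars false

namespace Cfsg.Agent.Omega.NO3S.FarQ.Asm

open Subgroup Cfsg Cfsg.Agent.ZN Cfsg.Agent.MinSimple.VModule Cfsg.Agent.Omega.NOThree.Pts
open Cfsg.Agent.Omega.NOThree.LemmaM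

variable {G X L : Type*} [Group G] [MulAction G X] [MulAction G L]
variable {inc : X → L → Prop} {R W : X → Subgroup G} {V : L → Subgroup G} {s t n : ℕ}

/-- `A` is an exact quadratic subgroup for `M_q = W_q / R_q` (line `l` on `q`). -/
structure Ex (inc : X → L → Prop) (R W : X → Subgroup G) (V : L → Subgroup G) (q : X) (l : L)
    (A : Subgroup G) : Prop where
  ql : inc q l
  le : A ≤ o2 (centralizer (V l : Set G))
  comm : ∀ a ∈ A, ∀ b ∈ A, a * b = b * a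
  sq : ∀ a ∈ A, a * a = 1
  cen : ∀ y, inc y l → y ≠ q → ∀ a ∈ A, ∀ u ∈ W q, u ∈ W y → a * u = u * a
  quad : ∀ a ∈ A, ∀ b ∈ A, ∀ u ∈ W q, b * (a * u * a⁻¹ * u⁻¹) = (a * u * a⁻¹ * u⁻¹) * b
  ne : ∃ a ∈ A, ∃ u ∈ W q, a * u * a⁻¹ * u⁻¹ ∉ R q
  eq : ∀ N C : Subgroup G, (∀ a, a ∈ N ↔ a ∈ A ∧ ∀ u ∈ W q, a * u * a⁻¹ * u⁻¹ ∈ R q) →
      (∀ u, u ∈ C ↔ u ∈ W q ∧ ∀ a ∈ A, a * u * a⁻¹ * u⁻¹ ∈ R q) → N.relIndex A = C.relIndex (W q)

/-- An exact critical pair. -/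
structure ExP (inc : X → L → Prop) (R W : X → Subgroup G) (V : L → Subgroup G) (n : ℕ) (p q : X) : Prop where
  crit : Crit inc W n p q
  cen : ∀ u ∈ W p, (∀ b ∈ W q, b * u * b⁻¹ * u⁻¹ ∈ R p) → ∀ b ∈ W q, b * u = u * b
  cen' : ∀ u ∈ W q, (∀ b ∈ W p, b * u * b⁻¹ * u⁻¹ ∈ R q) → ∀ b ∈ W p, b * u = u * b
  good : ∀ b ∈ W q, (∀ u ∈ W p, b * u * b⁻¹ * u⁻¹ ∈ R p) → ∀ u ∈ W p, b * u = u * b
  good' : ∀ b ∈ W p, (∀ u ∈ W q, b * u * b⁻¹ * u⁻¹ ∈ R q) → ∀ u ∈ W q, b * u = u * b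
  ex : ∀ r l, Walk inc (n - 1) q r → inc r l → inc p l → Ex inc R W V p l (W q)
  ex' : ∀ r l, Walk inc (n - 1) p r → inc r l → inc q l → Ex inc R W V q l (W p)

/-- **Not (`|τ| = 1` and split).** -/
structure NS (inc : X → L → Prop) (R W : X → Subgroup G) (V : L → Subgroup G) (n : ℕ) : Prop where
  /-- (6.1)(α) -/
  k1 : ∀ p l A, Ex inc R W V p l A → ∀ y, inc y l → y ≠ p →
    ¬ ∀ a ∈ A, ∀ u ∈ W p, a * u * a⁻¹ * u⁻¹ ∈ W y
  /-- (6.1)(β) -/
  k2 : ∀ p l A, Ex inc R W V p l A → ∀ y, inc y l → y ≠ p →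
    ¬ ∀ u ∈ W p, (∀ a ∈ A, a * u * a⁻¹ * u⁻¹ ∈ R p) → u ∈ W y
  /-- (4.0) and the good generators of section 7 -/
  d : ∀ p q, ExP inc R W V n p q → ∃ x m, inc x m ∧ inc p m ∧ (∃ f ∈ W q, f • x ≠ x) ∧
    W q ≤ closure {f | f ∈ W q ∧ (f • x = x ∨ ∀ a ∈ W x, a ∈ W (f • x) → a ∈ W p)}

/-- **`|τ| = 1` and split**: the commutators of an exact `A` lie in lines. -/
def SP (inc : X → L → Prop) (R W : X → Subgroup G) (V : L → Subgroup G) : Prop :=
  ∀ p l A, Ex inc R W V p l A → ∀ a ∈ A, ∀ u ∈ W p, ∃ m, inc p m ∧ a * u * a⁻¹ * u⁻¹ ∈ V m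

/-! ### Tools -/

theorem comm_inv_mem {N : Subgroup G} {a b : G} : a * b * a⁻¹ * b⁻¹ ∈ N ↔ b * a * b⁻¹ * a⁻¹ ∈ N := by
  have e : a * b * a⁻¹ * b⁻¹ = (b * a * b⁻¹ * a⁻¹)⁻¹ := by group
  rw [e, inv_mem_iff]

theorem comm_eq_one {a b : G} : a * b * a⁻¹ * b⁻¹ = 1 ↔ a * b = b * a := by
  constructor
  · intro h
    have h1 : a * b * a⁻¹ = b := mul_inv_eq_one.1 h
    calc a * b = a * b * a⁻¹ * a := by group
      _ = b * a := by rw [h1]
  · intro h
    rw [h]; group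

theorem le_of_relIndex_eq [Finite G] {K C A : Subgroup G} (h : K ≤ C) (hC : C ≤ A)
    (he : K.relIndex A ≤ C.relIndex A) : C ≤ K := by
  have h1 := relIndex_mul_relIndex K C A h hC
  have h2 := relIndex_ne_zero' C A
  have h3 := relIndex_ne_zero' K C
  have h4 : K.relIndex C * C.relIndex A ≤ 1 * C.relIndex A := by rw [one_mul, h1]; exact he
  have h5 := Nat.le_of_mul_le_mul_right h4 (Nat.pos_of_ne_zero h2)
  exact relIndex_eq_one.1 (by omega)

section crit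

variable (D : Geom inc R W V s t) {p q : X}
include D

/-- `[W_p, W_q] ≤ W_q` for a critical pair -/
theorem comm_mem (h : Crit inc W n p q) (hn : 1 ≤ n) {a b : G} (ha : a ∈ W p) (hb : b ∈ W q) :
    a * b * a⁻¹ * b⁻¹ ∈ W q :=
  (W q).mul_mem (D.norm_W (h.fix D hn ha) hb) ((W q).inv_mem hb)

theorem comm_mem' (h : Crit inc W n p q) (hn : 1 ≤ n) {a b : G} (ha : a ∈ W p) (hb : b ∈ W q) :
    a * b * a⁻¹ * b⁻¹ ∈ W p :=
  comm_inv_mem.1 (comm_mem D h.symm hn hb ha)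

/-- everything of `Ex` except `ne` and `eq`, and the inequality -/
theorem noOver_pair (hNO : NoOver inc R W V) (h : Crit inc W n p q) (hn : 2 ≤ n) {r : X} {l : L}
    (hr : Walk inc (n - 1) q r) (hrl : inc r l) (hpl : inc p l) :
    (W q ≤ o2 (centralizer (V l : Set G)) ∧
      (∀ y, inc y l → y ≠ p → ∀ a ∈ W q, ∀ u ∈ W p, u ∈ W y → a * u = u * a) ∧
      (∀ a ∈ W q, ∀ b ∈ W q, ∀ u ∈ W p, b * (a * u * a⁻¹ * u⁻¹) = (a * u * a⁻¹ * u⁻¹) * b)) ∧
    ∀ N C : Subgroup G, (∀ a, a ∈ N ↔ a ∈ W q ∧ ∀ u ∈ W p, a * u * a⁻¹ * u⁻¹ ∈ R p) →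
      (∀ u, u ∈ C ↔ u ∈ W p ∧ ∀ a ∈ W q, a * u * a⁻¹ * u⁻¹ ∈ R p) → N.relIndex (W q) ≤ C.relIndex (W p) := by
  have hrp : r ≠ p := h.symm.ne_last (by omega) hr
  have hc : Com W q r := h.symm.com_last (by omega) hr
  have h1 : W q ≤ o2 (centralizer (V l : Set G)) := D.low_line h.min hr (by omega) hc hrl
  have h2 : ∀ y, inc y l → y ≠ p → ∀ a ∈ W q, ∀ u ∈ W p, u ∈ W y → a * u = u * a := by
    intro y hy hyp a ha u hu huy
    exact hc a ha u (D.inf_le hpl hy hrl hyp.symm ⟨hu, huy⟩)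
  have h3 : ∀ a ∈ W q, ∀ b ∈ W q, ∀ u ∈ W p,
      b * (a * u * a⁻¹ * u⁻¹) = (a * u * a⁻¹ * u⁻¹) * b := by
    intro a ha b hb u hu
    exact D.comm q b hb _ (comm_mem' D h.symm (by omega) ha hu)
  exact ⟨⟨h1, h2, h3⟩, fun N C hN hC => hNO p l hpl (W q) h1 (D.comm q) (D.sq q) h2 h3 N C hN hC⟩

variable [Finite G]

/-- **A good pair is exact.** -/
theorem ExP.of_good (hNO : NoOver inc R W V) (h : Crit inc W n p q) (hn : 2 ≤ n)
    (good : ∀ b ∈ W q, (∀ u ∈ W p, b * u * b⁻¹ * u⁻¹ ∈ R p) → ∀ u ∈ W p, b * u = u * b)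
    (good' : ∀ b ∈ W p, (∀ u ∈ W q, b * u * b⁻¹ * u⁻¹ ∈ R q) → ∀ u ∈ W q, b * u = u * b) :
    ExP inc R W V n p q := by
  obtain ⟨r₁, l₁, hr₁, hrl₁, hpl⟩ := h.symm.last (by omega)
  obtain ⟨r₂, l₂, hr₂, hrl₂, hql⟩ := h.last (by omega)
  -- the four subgroups
  let Kq : Subgroup G := W q ⊓ centralizer (W p : Set G)
  let Kp : Subgroup G := W p ⊓ centralizer (W q : Set G)
  have hKq : ∀ a, a ∈ Kq ↔ a ∈ W q ∧ ∀ u ∈ W p, a * u * a⁻¹ * u⁻¹ ∈ R p := by
    intro a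
    constructor
    · rintro ⟨ha, ha'⟩
      refine ⟨ha, fun u hu => ?_⟩
      rw [comm_eq_one.2 (mem_centralizer_iff.1 ha' u hu).symm]
      exact one_mem _
    · rintro ⟨ha, ha'⟩
      exact ⟨ha, mem_centralizer_iff.2 fun u hu => (good a ha ha' u hu).symm⟩
  have hKp : ∀ a, a ∈ Kp ↔ a ∈ W p ∧ ∀ u ∈ W q, a * u * a⁻¹ * u⁻¹ ∈ R q := by
    intro a
    constructor
    · rintro ⟨ha, ha'⟩
      refine ⟨ha, fun u hu => ?_⟩
      rw [comm_eq_one.2 (mem_centralizer_iff.1 ha' u hu).symm]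
      exact one_mem _
    · rintro ⟨ha, ha'⟩
      exact ⟨ha, mem_centralizer_iff.2 fun u hu => (good' a ha ha' u hu).symm⟩
  have cp : ∀ a ∈ W p, ∀ c ∈ R p, a * c = c * a := fun a ha c hcc => D.comm p a ha c (D.R_le_W p hcc)
  have cq : ∀ a ∈ W q, ∀ c ∈ R q, a * c = c * a := fun a ha c hcc => D.comm q a ha c (D.R_le_W q hcc)
  set Cp := cm (W p) (W q) (R p) cp with hCp
  set Cq := cm (W q) (W p) (R q) cq with hCq
  have mCp : ∀ u, u ∈ Cp ↔ u ∈ W p ∧ ∀ a ∈ W q, a * u * a⁻¹ * u⁻¹ ∈ R p := by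
    intro u
    rw [mem_cm]
    exact and_congr_right fun hu => forall₂_congr fun a ha => comm_inv_mem
  have mCq : ∀ u, u ∈ Cq ↔ u ∈ W q ∧ ∀ a ∈ W p, a * u * a⁻¹ * u⁻¹ ∈ R q := by
    intro u
    rw [mem_cm]
    exact and_congr_right fun hu => forall₂_congr fun a ha => comm_inv_mem
  have hKCp : Kp ≤ Cp := by
    intro u hu
    rw [mCp]
    refine ⟨hu.1, fun a ha => ?_⟩
    rw [comm_eq_one.2 (mem_centralizer_iff.1 hu.2 a ha)]
    exact one_mem _
  have hKCq : Kq ≤ Cq := by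
    intro u hu
    rw [mCq]
    refine ⟨hu.1, fun a ha => ?_⟩
    rw [comm_eq_one.2 (mem_centralizer_iff.1 hu.2 a ha)]
    exact one_mem _
  obtain ⟨-, h1⟩ := noOver_pair D hNO h hn hr₁ hrl₁ hpl
  obtain ⟨-, h2⟩ := noOver_pair D hNO h.symm hn hr₂ hrl₂ hql
  have i1 := h1 Kq Cp hKq mCp
  have i2 := h2 Kp Cq hKp mCq
  have i3 : Cp.relIndex (W p) ≤ Kp.relIndex (W p) := relIndex_le_of_le_left hKCp (relIndex_ne_zero' _ _)
  have i4 : Cq.relIndex (W q) ≤ Kq.relIndex (W q) := relIndex_le_of_le_left hKCq (relIndex_ne_zero' _ _)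
  have e1 : Cp ≤ Kp := le_of_relIndex_eq hKCp (fun u hu => ((mCp u).1 hu).1) (by omega)
  have e2 : Cq ≤ Kq := le_of_relIndex_eq hKCq (fun u hu => ((mCq u).1 hu).1) (by omega)
  have e1' : Cp = Kp := le_antisymm e1 hKCp
  have e2' : Cq = Kq := le_antisymm e2 hKCq
  refine ⟨h, ?_, ?_, good, good', ?_, ?_⟩
  · intro u hu hb b hbq
    exact mem_centralizer_iff.1 (e1 ((mCp u).2 ⟨hu, hb⟩)).2 b hbq
  · intro u hu hb b hbq
    exact mem_centralizer_iff.1 (e2 ((mCq u).2 ⟨hu, hb⟩)).2 b hbq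
  · intro r l hr hrl hpl'
    obtain ⟨⟨j1, j2, j3⟩, -⟩ := noOver_pair D hNO h hn hr hrl hpl'
    refine ⟨hpl', j1, D.comm q, D.sq q, j2, j3, ?_, ?_⟩
    · by_contra hcon
      push Not at hcon
      exact h.ne fun a ha b hb => (good b hb (fun u hu => hcon b hb u hu) a ha).symm
    · intro N C hN hC
      have eN : N = Kq := by ext a; rw [hN, hKq]
      have eC : C = Cp := by ext a; rw [hC, mCp]
      rw [eN, eC]
      omega
  · intro r l hr hrl hql'
    obtain ⟨⟨j1, j2, j3⟩, -⟩ := noOver_pair D hNO h.symm hn hr hrl hql'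
    refine ⟨hql', j1, D.comm p, D.sq p, j2, j3, ?_, ?_⟩
    · by_contra hcon
      push Not at hcon
      exact h.ne fun a ha b hb => good' a ha (fun u hu => hcon a ha u hu) b hb
    · intro N C hN hC
      have eN : N = Kp := by ext a; rw [hN, hKp]
      have eC : C = Cq := by ext a; rw [hC, mCq]
      rw [eN, eC]
      omega

/-- **A pair of type I is exact.** -/
theorem ExP.of_typeI (hNO : NoOver inc R W V) (h : Crit inc W n p q) (hn : 2 ≤ n)
    (h1 : ∀ u ∈ R p, u ∈ W q → u = 1) (h2 : ∀ u ∈ R q, u ∈ W p → u = 1) : ExP inc R W V n p q := by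
  refine ExP.of_good D hNO h hn ?_ ?_
  · intro b hb hbp u hu
    exact comm_eq_one.1 (h1 _ (hbp u hu) (comm_mem' D h.symm (by omega) hb hu))
  · intro b hb hbp u hu
    exact comm_eq_one.1 (h2 _ (hbp u hu) (comm_mem' D h (by omega) hb hu))

end crit

/-! ### `n ≥ 3` -/

section far

variable [Finite G] (D : Geom inc R W V s t) {p q : X}
include D

/-- a good generator which moves `x` -/
theorem exists_good {x : X} (h1 : ∃ f ∈ W q, f • x ≠ x)
    (h2 : W q ≤ closure {f | f ∈ W q ∧ (f • x = x ∨ ∀ a ∈ W x, a ∈ W (f • x) → a ∈ W p)}) :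
    ∃ f ∈ W q, f • x ≠ x ∧ ∀ a ∈ W x, a ∈ W (f • x) → a ∈ W p := by
  by_contra hcon
  push Not at hcon
  obtain ⟨f, hf, hfx⟩ := h1
  apply hfx
  have h3 : closure {f | f ∈ W q ∧ (f • x = x ∨ ∀ a ∈ W x, a ∈ W (f • x) → a ∈ W p)} ≤
      MulAction.stabilizer G x := by
    rw [closure_le]
    rintro g ⟨hg, hg'⟩
    by_contra hgx
    have hgx' : g • x ≠ x := hgx
    obtain ⟨a, ha, ha', ha''⟩ := hcon g hg hgx'
    rcases hg' with h | h
    · exact hgx' h
    · exact ha'' (h a ha ha')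
  exact h3 (h2 hf)

/-- (6.2) -/
theorem SP.false (hS : SP inc R W V) (hn : 3 ≤ n) (h : ExP inc R W V n p q) : False := by
  obtain ⟨r₁, l₁, hr₁, hrl₁, hpl⟩ := h.crit.symm.last (by omega)
  obtain ⟨r₂, l₂, hr₂, hrl₂, hql⟩ := h.crit.last (by omega)
  have e1 := h.ex r₁ l₁ hr₁ hrl₁ hpl
  have e2 := h.ex' r₂ l₂ hr₂ hrl₂ hql
  have hne := h.crit.ne
  unfold Com at hne
  push Not at hne
  obtain ⟨a, ha, b, hb, hab⟩ := hne
  obtain ⟨m, hm, hu⟩ := hS p l₁ _ e1 b hb a ha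
  obtain ⟨m', hm', hu'⟩ := hS q l₂ _ e2 a ha b hb
  rw [comm_inv_mem] at hu
  have hu1 : a * b * a⁻¹ * b⁻¹ ≠ 1 := fun e => hab (comm_eq_one.1 e)
  obtain ⟨y, hy, huy⟩ := D.cover m _ hu
  obtain ⟨y', hy', huy'⟩ := D.cover m' _ hu'
  obtain rfl := D.ti _ _ _ huy huy' hu1
  exact h.crit.not_walk (by omega) ((Walk.one hm hy).step hy' hm')

/-- (6.1)(α) for `n ≥ 3` -/
theorem NS.false_alpha (hK : NS inc R W V n) {x r : X} {m : L} (hxm : inc x m) (hpm : inc p m)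
    (hne : p ≠ x) (hw : Walk inc (n - 1) r p) (h : ExP inc R W V n x r)
    (hle : ∀ a ∈ W x, ∀ b ∈ W r, a * b * a⁻¹ * b⁻¹ ∈ W p) : False :=
  hK.k1 x m _ (h.ex p m hw hpm hxm) p hpm hne fun a ha u hu => comm_inv_mem.1 (hle u hu a ha)

variable {r x : X} {l m : L} {f : G}

/-- `A_x` is exact in (β). -/
theorem ex_beta (hNO : NoOver inc R W V) (h : MDat inc R W V s t n p q r x l m f) (hc : Com W x r) :
    Ex inc R W V q l (W x) := by
  have h3 := h.three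
  have hrq : r ≠ q := h.crit.ne_last (by omega) h.walk
  have hA : W x ≤ o2 (centralizer (V l : Set G)) :=
    h.D.low_line h.crit.min h.walk' le_rfl hc h.rl
  have hcen : ∀ y, inc y l → y ≠ q → ∀ a ∈ W x, ∀ u ∈ W q, u ∈ W y → a * u = u * a := by
    intro y hy hyq a ha u hu huy
    exact hc a ha u (h.D.inf_le h.ql hy h.rl hyq.symm ⟨hu, huy⟩)
  have hquad : ∀ a ∈ W x, ∀ b ∈ W x, ∀ u ∈ W q,
      b * (a * u * a⁻¹ * u⁻¹) = (a * u * a⁻¹ * u⁻¹) * b := fun a ha b hb u hu => h.comm_comm hu ha hb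
  have h2 : (W q ⊓ W r).relIndex (W q) = t := h.D.index q r l h.ql h.rl hrq.symm
  have key : ∀ N C : Subgroup G, (∀ a, a ∈ N ↔ a ∈ W x ∧ ∀ u ∈ W q, a * u * a⁻¹ * u⁻¹ ∈ R q) →
      (∀ u, u ∈ C ↔ u ∈ W q ∧ ∀ a ∈ W x, a * u * a⁻¹ * u⁻¹ ∈ R q) →
      N.relIndex (W x) = t ∧ C.relIndex (W q) = t := by
    intro N C hN hC
    have h1 : t ≤ N.relIndex (W x) := h.t_le hc N hN
    have h4 : N.relIndex (W x) ≤ C.relIndex (W q) :=
      hNO q l h.ql (W x) hA (h.D.comm x) (h.D.sq x) hcen hquad N C hN hC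
    have hle : W q ⊓ W r ≤ C := by
      intro u hu
      rw [hC]
      refine ⟨hu.1, fun a ha => ?_⟩
      rw [comm_eq_one.2 (hc a ha u hu.2)]
      exact one_mem _
    have h5 : C.relIndex (W q) ≤ (W q ⊓ W r).relIndex (W q) :=
      relIndex_le_of_le_left hle (relIndex_ne_zero' _ _)
    omega
  refine ⟨h.ql, hA, h.D.comm x, h.D.sq x, hcen, hquad, ?_, fun N C hN hC => ?_⟩
  · by_contra hcon
    push Not at hcon
    obtain ⟨h4, -⟩ := key (W x) (W q) (fun a => ⟨fun ha => ⟨ha, hcon a ha⟩, fun ha => ha.1⟩)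
      (fun u => ⟨fun hu => ⟨hu, fun a ha => hcon a ha u hu⟩, fun hu => hu.1⟩)
    rw [relIndex_self] at h4
    rw [← h4] at h2
    have h5 : W q ≤ W q ⊓ W r := relIndex_eq_one.1 h2
    exact h.crit.ne fun a ha b hb => h.crit.com_last (by omega) h.walk a ha b (h5 hb).2
  · obtain ⟨h4, h5⟩ := key N C hN hC
    rw [h4, h5]

omit D in
/-- LEMMA (M) for one point `x`. -/
theorem false_of_mdat (hNO : NoOver inc R W V) (hK : NS inc R W V n)
    (h : MDat inc R W V s t n p q r x l m f) : False := by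
  have h3 := h.three
  by_cases hc : Com W x r
  · have hrq : r ≠ q := h.crit.ne_last (by omega) h.walk
    exact hK.k2 q l _ (ex_beta h.D hNO h hc) r h.rl hrq (h.beta hc hNO).1
  · obtain ⟨h1, h2, h4, h5⟩ := h.alpha hc
    exact hK.false_alpha h.D h.xm h.pm h.ne.symm h.walk.symm
      (ExP.of_typeI h.D hNO h1 (by omega) h2 h4) fun a ha b hb => (h5 a ha b hb).2

/-- (6.3)(A): `b ∈ W_q ∩ K_p` not centralising `W_p` gives the data of LEMMA (M) and `R_p ≤ W_q`. -/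
theorem exists_mdat (hn : 2 ≤ n) (h : Crit inc W n p q) {b : G} (hb : b ∈ W q)
    (hbp : ∀ u ∈ W p, b * u * b⁻¹ * u⁻¹ ∈ R p) (hne : ∃ u ∈ W p, b * u ≠ u * b) :
    (∃ x m, inc x m ∧ inc p m ∧ b • x ≠ x ∧ ∀ a ∈ W x, a ∈ W (b • x) → a ∈ W p) ∧ R p ≤ W q := by
  have hbR : ∀ c ∈ R p, b * c = c * b := fun c hc => h.symm.comm_R D (by omega) hb hc
  -- a line moved by `b`
  obtain ⟨m, hm, a, ha, hab⟩ : ∃ m, inc p m ∧ ∃ a ∈ V m, b * a ≠ a * b := by
    by_contra hcon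
    push Not at hcon
    obtain ⟨u, hu, hub⟩ := hne
    have h1 : W p ≤ centralizer ({b} : Set G) :=
      D.W_le p _ fun m hm a ha => mem_centralizer_singleton_iff.2 (hcon m hm a ha).symm
    exact hub (mem_centralizer_singleton_iff.1 (h1 hu)).symm
  obtain ⟨x, hx, hax⟩ := D.cover m a ha
  have hxp : x ≠ p := by
    rintro rfl
    exact hab (hbR a hax)
  have ha1 : a ≠ 1 := by
    rintro rfl
    exact hab (by rw [mul_one, one_mul])
  have haW : a ∈ W p := D.V_le p m hm ha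
  have hc := hbp a haW
  have hbx : b • x ≠ x := by
    intro e
    have h1 : b * a * b⁻¹ * a⁻¹ ∈ R x := mul_mem (D.norm_R e hax) (inv_mem hax)
    exact hxp (D.ti _ _ _ h1 hc fun e1 => hab (comm_eq_one.1 e1))
  have hbxm : inc (b • x) m := by
    have h1 : b * a * b⁻¹ ∈ V m := by
      have e : b * a * b⁻¹ = (b * a * b⁻¹ * a⁻¹) * a := by group
      rw [e]
      exact mul_mem (D.R_le p m hm hc) ha
    obtain ⟨y, hy, hya⟩ := D.cover m _ h1
    have h2 : b * a * b⁻¹ ≠ 1 := fun e => ha1 (by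
      have : a = b⁻¹ * (b * a * b⁻¹) * b := by group
      rw [this, e]; group)
    rwa [← D.ti _ _ _ hya (D.R_smul b x a hax) h2]
  refine ⟨⟨x, m, hx, hm, hbx, fun u hu hu' => D.inf_le hx hbxm hm hbx.symm ⟨hu, hu'⟩⟩, ?_⟩
  -- `R_p = [R_x, b] ≤ W_q`
  let φ : R x → R p := fun u => ⟨b * u * b⁻¹ * (u : G)⁻¹, hbp u (D.V_le p m hm (D.R_le x m hx u.2))⟩
  have hinj : Function.Injective φ := by
    intro u v huv
    have h1 : b * (u : G) * b⁻¹ * (u : G)⁻¹ = b * v * b⁻¹ * (v : G)⁻¹ := congrArg Subtype.val huv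
    by_contra hne'
    apply hbx
    have h2 : (v : G)⁻¹ * u ≠ 1 := fun e => hne' (Subtype.ext (by
      rw [← mul_right_inj (v : G)⁻¹, e, inv_mul_cancel]))
    refine D.fix (mul_mem (inv_mem v.2) u.2) h2 ?_
    have h3 : b * (u : G) * b⁻¹ * (u : G)⁻¹ * v = b * v * b⁻¹ := by rw [h1]; group
    have h4 : ((u : G)⁻¹ * v) = ((v : G)⁻¹ * u)⁻¹ := by group
    have h5 : b * ((u : G)⁻¹ * v) * b⁻¹ = (u : G)⁻¹ * v := by
      have : b * ((u : G)⁻¹ * v) * b⁻¹ = (b * (u : G) * b⁻¹)⁻¹ * (b * v * b⁻¹) := by group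
      rw [this, ← h3]; group
    rw [h4] at h5
    have h6 : b * ((v : G)⁻¹ * u) * b⁻¹ = (v : G)⁻¹ * u := by
      have := congrArg (fun t => t⁻¹) h5
      simpa [mul_assoc] using this
    calc b * ((v : G)⁻¹ * u) = (b * ((v : G)⁻¹ * u) * b⁻¹) * b := by group
      _ = (v : G)⁻¹ * u * b := by rw [h6]
  have hcard : Nat.card (R x) = Nat.card (R p) := by rw [D.card, D.card]
  have hsurj : Function.Surjective φ := by
    have : Fintype (R x) := Fintype.ofFinite _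
    have : Fintype (R p) := Fintype.ofFinite _
    rw [Nat.card_eq_fintype_card, Nat.card_eq_fintype_card] at hcard
    exact ((Fintype.bijective_iff_injective_and_card φ).2 ⟨hinj, hcard⟩).2
  intro c hc'
  obtain ⟨u, hu⟩ := hsurj ⟨c, hc'⟩
  have h1 : b * (u : G) * b⁻¹ * (u : G)⁻¹ = c := congrArg Subtype.val hu
  rw [← h1]
  exact comm_inv_mem.1 (comm_mem D h (by omega) (D.V_le p m hm (D.R_le x m hx u.2)) hb)

/-- **FarQ, abstract form** (6.3): there is no critical pair at distance `n ≥ 3`. -/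
theorem far (hn : 3 ≤ n) (hNO : NoOver inc R W V) (hK : NS inc R W V n ∨ SP inc R W V)
    (hcr : Crit inc W n p q) : False := by
  -- (A)
  have hA : ∀ p q, Crit inc W n p q → ∀ b ∈ W q, (∀ u ∈ W p, b * u * b⁻¹ * u⁻¹ ∈ R p) →
      ∀ u ∈ W p, b * u = u * b := by
    intro p q h b hb hbp u hu
    by_contra hne
    obtain ⟨⟨x, m, hx, hm, hbx, hlow⟩, hR⟩ := exists_mdat D (by omega) h hb hbp ⟨u, hu, hne⟩
    obtain ⟨r, l, hr, hrl, hql⟩ := h.last (by omega)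
    have hM : MDat inc R W V s t n p q r x l m b := ⟨D, hn, h, hr, hrl, hql, hx, hm, hb, hbx, hlow⟩
    by_cases hc : Com W x r
    · obtain ⟨c, hc', hc1⟩ := D.exists_ne p
      exact hc1 ((hM.beta hc hNO).2.1 c hc' (hR hc'))
    · obtain ⟨h1, h2, h4, h5⟩ := hM.alpha hc
      have hE := ExP.of_typeI D hNO h1 (by omega) h2 h4
      rcases hK with hK | hK
      · exact hK.false_alpha D hx hm hM.ne.symm hr.symm hE fun a ha b hb => (h5 a ha b hb).2
      · exact SP.false D hK hn hE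
  have hE : ExP inc R W V n p q := ExP.of_good D hNO hcr (by omega) (hA p q hcr) (hA q p hcr.symm)
  rcases hK with hK | hK
  · obtain ⟨x, m, hx, hm, h1, h2⟩ := hK.d p q hE
    obtain ⟨f, hf, hfx, hlow⟩ := exists_good D h1 h2
    obtain ⟨r, l, hr, hrl, hql⟩ := hcr.last (by omega)
    exact false_of_mdat hNO hK ⟨D, hn, hcr, hr, hrl, hql, hx, hm, hf, hfx, hlow⟩
  · exact SP.false D hK hn hE

end far

/-! ### `n = 2` -/

section mid

variable [Finite G] (D : Geom inc R W V s t) {p q : X}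
include D

/-- for `n = 2` every critical pair is exact -/
theorem ExP.of_two (hNO : NoOver inc R W V) (h : Crit inc W 2 p q) : ExP inc R W V 2 p q := by
  have key : ∀ {p q : X}, Crit inc W 2 p q → ∀ u ∈ R p, u ∈ W q → u = 1 := by
    intro p q h u hu huq
    obtain ⟨r, l, hr, hrl, hql⟩ := h.last (by norm_num)
    refine h.star D le_rfl hr hrl hql hu huq ?_
    have h1 : Walk inc 1 p r := hr
    rcases h1 with _ | @⟨_, _, c, _, m, hc, hcm, hrm⟩
    rcases hc with _ | _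
    exact D.V_le r m hrm (D.R_le p m hcm hu)
  exact ExP.of_typeI D hNO h le_rfl (key h) (key h.symm)

variable {c x : X} {l m : L} {f : G}

/-- **MidQ, abstract form** (7): `NS` is impossible at distance `n = 2`. -/
theorem mid (hNO : NoOver inc R W V) (hK : NS inc R W V 2) (hcr : Crit inc W 2 p q) : False := by
  have hE := ExP.of_two D hNO hcr
  obtain ⟨x, m, hxm, hpm, h1, hgen⟩ := hK.d p q hE
  obtain ⟨f, hf, hfx, hlow⟩ := exists_good D h1 hgen
  obtain ⟨c, l, hpc, hcl, hql⟩ := hcr.last (by norm_num)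
  have hpc' : Walk inc 1 p c := hpc
  have hcq : c ≠ q := hcr.ne_last (by norm_num) hpc
  have hfp : ∀ {g : G}, g ∈ W q → g • p = p := fun hg => hcr.symm.fix D (by norm_num) hg
  have hxp : x ≠ p := by
    rintro rfl
    exact hfx (hfp hf)
  have hmin : ∀ {a b : X} {k : L}, inc a k → inc b k → Com W a b := fun ha hb =>
    hcr.min 1 (by norm_num) _ _ (Walk.one ha hb)
  have hwx : ∀ {g : G}, g ∈ W q → Walk inc 2 x (g • x) := by
    intro g hg
    refine (Walk.one hxm hpm).step (l := g • m) ?_ (D.inc_smul g _ _ hxm)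
    have := D.inc_smul g _ _ hpm
    rwa [hfp hg] at this
  have hcomR : ∀ {g a : G}, g ∈ W q → g • x ≠ x → a ∈ R x → g * a = a * g → a = 1 := by
    intro g a _ hgx ha h
    by_contra ha1
    exact hgx (D.fix ha ha1 h)
  -- (7.1)
  have h71 : ∀ g ∈ W q, g • x ≠ x → (∀ a ∈ W x, a ∈ W (g • x) → a ∈ W p) → Com W x (g • x) := by
    intro g hg hgx hl
    by_contra hne
    have hc : Crit inc W 2 x (g • x) := ⟨hwx hg, hne, hcr.min⟩
    have hE' := ExP.of_two D hNO hc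
    have hw : Walk inc 1 (g • x) p := by
      have h3 := D.inc_smul g _ _ hxm
      have h4 := D.inc_smul g _ _ hpm
      rw [hfp hg] at h4
      exact Walk.one h3 h4
    exact hK.false_alpha D hxm hpm hxp.symm hw hE' fun a ha b hb =>
      hl _ (comm_mem' D hc (by norm_num) ha hb) (comm_mem D hc (by norm_num) ha hb)
  by_cases hc : Com W x c
  · -- (β)
    have hRl : R q ≤ W c := (D.R_le q l hql).trans (D.V_le c l hcl)
    have hfq : ∀ {w : G}, w ∈ W x → w • q = q := fun hw =>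
      D.fix_of_centralizes fun a ha => hc _ hw a (hRl ha)
    have hcm : ∀ {w u : G}, w ∈ W x → u ∈ W q → w * u * w⁻¹ * u⁻¹ ∈ W q := fun hw hu =>
      (W q).mul_mem (D.norm_W (hfq hw) hu) ((W q).inv_mem hu)
    -- (7.2)
    have h72 : ∀ g ∈ W q, ∀ w ∈ W x, ∀ w' ∈ W x,
        w' * (w * g * w⁻¹ * g⁻¹) = (w * g * w⁻¹ * g⁻¹) * w' := by
      intro g hg
      refine (closure_induction (p := fun g _ => g ∈ W q ∧ ∀ w ∈ W x, ∀ w' ∈ W x,
        w' * (w * g * w⁻¹ * g⁻¹) = (w * g * w⁻¹ * g⁻¹) * w') ?_ ?_ ?_ ?_ (hgen hg)).2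
      · rintro g ⟨hg, hg'⟩
        refine ⟨hg, fun w hw w' hw' => ?_⟩
        by_cases hgx : g • x = x
        · have h3 : w * g * w⁻¹ * g⁻¹ ∈ W x := by
            have e : w * g * w⁻¹ * g⁻¹ = w * (g * w⁻¹ * g⁻¹) := by group
            rw [e]
            exact mul_mem hw (D.norm_W hgx (inv_mem hw))
          exact D.comm x w' hw' _ h3
        · have h3 := h71 g hg hgx (hg'.resolve_left hgx)
          have h4 : g * w⁻¹ * g⁻¹ ∈ W (g • x) := D.W_smul g x _ (inv_mem hw)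
          have e : w * g * w⁻¹ * g⁻¹ = w * (g * w⁻¹ * g⁻¹) := by group
          rw [e, ← mul_assoc, D.comm x w' hw' w hw, mul_assoc, h3 w' hw' _ h4, ← mul_assoc]
      · exact ⟨one_mem _, fun w _ w' _ => by simp⟩
      · rintro g g' - - ⟨hg, h3⟩ ⟨hg', h4⟩
        refine ⟨mul_mem hg hg', fun w hw w' hw' => ?_⟩
        have e : w * (g * g') * w⁻¹ * (g * g')⁻¹ =
            (w * g * w⁻¹ * g⁻¹) * (g * (w * g' * w⁻¹ * g'⁻¹) * g⁻¹) := by group
        have e2 : g * (w * g' * w⁻¹ * g'⁻¹) * g⁻¹ = w * g' * w⁻¹ * g'⁻¹ := by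
          rw [D.comm q g hg _ (hcm hw hg'), mul_inv_cancel_right]
        rw [e, e2, ← mul_assoc, h3 w hw w' hw', mul_assoc, h4 w hw w' hw', ← mul_assoc]
      · rintro g - ⟨hg, h3⟩
        have : g⁻¹ = g := D.inv_eq hg
        rw [this]
        exact ⟨hg, h3⟩
    have hmul : ∀ {w w' g : G}, w ∈ W x → w' ∈ W x → g ∈ W q →
        w * w' * g * (w * w')⁻¹ * g⁻¹ = (w * g * w⁻¹ * g⁻¹) * (w' * g * w'⁻¹ * g⁻¹) := by
      intro w w' g hw hw' hg
      have e : w * w' * g * (w * w')⁻¹ * g⁻¹ =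
          (w * (w' * g * w'⁻¹ * g⁻¹) * w⁻¹) * (w * g * w⁻¹ * g⁻¹) := by group
      rw [e, h72 g hg w' hw' w hw, mul_inv_cancel_right]
      exact D.comm q _ (hcm hw' hg) _ (hcm hw hg)
    have hA : W x ≤ o2 (centralizer (V l : Set G)) :=
      D.low_line hcr.min ((Walk.one hxm hpm).trans hpc') (by norm_num) hc hcl
    have hcen : ∀ y, inc y l → y ≠ q → ∀ a ∈ W x, ∀ u ∈ W q, u ∈ W y → a * u = u * a := by
      intro y hy hyq a ha u hu huy
      exact hc a ha u (D.inf_le hql hy hcl hyq.symm ⟨hu, huy⟩)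
    have hquad : ∀ a ∈ W x, ∀ b ∈ W x, ∀ u ∈ W q,
        b * (a * u * a⁻¹ * u⁻¹) = (a * u * a⁻¹ * u⁻¹) * b := fun a ha b hb u hu => h72 u hu a ha b hb
    have hidx : (W q ⊓ W c).relIndex (W q) = t := D.index q c l hql hcl hcq.symm
    have hcl' : ∀ {w : G}, w ∈ W x → f * w = w * f → w ∈ W p := by
      intro w hw hfw
      refine hlow w hw ?_
      rw [D.W_smul_iff]
      have e : f⁻¹ * w * f = w := by rw [mul_assoc, ← hfw]; group
      rwa [e]
    -- `s t ≤ |W_x : C(f)|`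
    let D₀ : Subgroup G := W x ⊓ centralizer {f}
    have hD₀ : ∀ a, a ∈ D₀ ↔ a ∈ W x ∧ f * a = a * f := by
      intro a
      rw [mem_inf, mem_centralizer_singleton_iff]
      exact ⟨fun h => ⟨h.1, h.2.symm⟩, fun h => ⟨h.1, h.2.symm⟩⟩
    have hst : s * t ≤ D₀.relIndex (W x) := by
      have h1 : D₀ ≤ W x ⊓ W p := fun a ha =>
        ⟨((hD₀ a).1 ha).1, hcl' ((hD₀ a).1 ha).1 ((hD₀ a).1 ha).2⟩
      rw [← relIndex_mul_relIndex D₀ (W x ⊓ W p) (W x) h1 inf_le_left, D.index x p m hxm hpm hxp]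
      refine Nat.mul_le_mul_right _ ?_
      rw [← D.card x]
      exact card_le_relIndex (le_inf (D.R_le_W x) ((D.R_le x m hxm).trans (D.V_le p m hpm)))
        fun a ha ha' => hcomR hf hfx ha ((hD₀ a).1 ha').2
    have key : ∀ N C : Subgroup G, (∀ a, a ∈ N ↔ a ∈ W x ∧ ∀ u ∈ W q, a * u * a⁻¹ * u⁻¹ ∈ R q) →
        (∀ u, u ∈ C ↔ u ∈ W q ∧ ∀ a ∈ W x, a * u * a⁻¹ * u⁻¹ ∈ R q) →
        N.relIndex (W x) = t ∧ C.relIndex (W q) = t ∧ C ≤ W q ⊓ W c := by
      intro N C hN hC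
      let D₁ : Subgroup G :=
        { carrier := {a | a ∈ W x ∧ a * f * a⁻¹ * f⁻¹ ∈ R q}
          one_mem' := ⟨one_mem _, by simp⟩
          mul_mem' := by
            rintro a b ⟨ha, ha'⟩ ⟨hb, hb'⟩
            refine ⟨mul_mem ha hb, ?_⟩
            rw [hmul ha hb hf]
            exact mul_mem ha' hb'
          inv_mem' := by
            rintro a ⟨ha, ha'⟩
            have e : a⁻¹ = a := D.inv_eq ha
            rw [e]
            exact ⟨ha, ha'⟩ }
      have h01 : D₀ ≤ D₁ := by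
        intro a ha
        obtain ⟨ha1, ha2⟩ := (hD₀ a).1 ha
        refine ⟨ha1, ?_⟩
        rw [comm_eq_one.2 ha2.symm]
        exact one_mem _
      have hN1 : N ≤ D₁ := fun a ha => ⟨((hN a).1 ha).1, ((hN a).1 ha).2 f hf⟩
      have h2 : D₀.relIndex D₁ ≤ s := by
        rw [← D.card q]
        refine relIndex_le_card (fun a => a * f * a⁻¹ * f⁻¹) (fun a ha => ha.2)
          (fun a ha b hb => hmul ha.1 hb.1 hf) ?_
        intro a ha hfa
        rw [hD₀]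
        exact ⟨ha.1, (comm_eq_one.1 hfa).symm⟩
      have h3 : D₀.relIndex D₁ * D₁.relIndex (W x) = D₀.relIndex (W x) :=
        relIndex_mul_relIndex _ _ _ h01 fun a ha => ha.1
      have h4 : t ≤ D₁.relIndex (W x) := by
        have hs : 0 < s := by have := D.two_le; omega
        have h5 : s * t ≤ s * D₁.relIndex (W x) := by
          calc s * t ≤ D₀.relIndex (W x) := hst
            _ = D₀.relIndex D₁ * D₁.relIndex (W x) := h3.symm
            _ ≤ s * D₁.relIndex (W x) := Nat.mul_le_mul_right _ h2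
        exact Nat.le_of_mul_le_mul_left h5 hs
      have h5 : t ≤ N.relIndex (W x) := h4.trans (relIndex_le_of_le_left hN1 (relIndex_ne_zero' _ _))
      have h6 : N.relIndex (W x) ≤ C.relIndex (W q) :=
        hNO q l hql (W x) hA (D.comm x) (D.sq x) hcen hquad N C hN hC
      have hle : W q ⊓ W c ≤ C := by
        intro u hu
        rw [hC]
        refine ⟨hu.1, fun a ha => ?_⟩
        rw [comm_eq_one.2 (hc a ha u hu.2)]
        exact one_mem _
      have h7 : C.relIndex (W q) ≤ (W q ⊓ W c).relIndex (W q) :=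
        relIndex_le_of_le_left hle (relIndex_ne_zero' _ _)
      refine ⟨by omega, by omega, le_of_relIndex_eq hle (fun u hu => ((hC u).1 hu).1) (by omega)⟩
    have hX : Ex inc R W V q l (W x) := by
      refine ⟨hql, hA, D.comm x, D.sq x, hcen, hquad, ?_, fun N C hN hC => ?_⟩
      · by_contra hcon
        push Not at hcon
        obtain ⟨-, -, h5⟩ := key (W x) (W q) (fun a => ⟨fun ha => ⟨ha, hcon a ha⟩, fun ha => ha.1⟩)
          (fun u => ⟨fun hu => ⟨hu, fun a ha => hcon a ha u hu⟩, fun hu => hu.1⟩)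
        exact hcr.ne fun a ha b hb => hcr.com_last (by norm_num) hpc a ha b (h5 hb).2
      · obtain ⟨h4, h5, -⟩ := key N C hN hC
        rw [h4, h5]
    have hqR : ∀ a ∈ W q, ∀ c ∈ R q, a * c = c * a := fun a ha c hcc =>
      D.comm q a ha c (D.R_le_W q hcc)
    have hxR : ∀ a ∈ W x, ∀ c ∈ R q, a * c = c * a := fun a ha c hcc => hc a ha c (hRl hcc)
    refine hK.k2 q l _ hX c hcl hcq fun u hu hua => ?_
    refine ((key (cm (W x) (W q) (R q) hxR) (cm (W q) (W x) (R q) hqR) (fun a => mem_cm) fun u => ?_).2.2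
      (mem_cm.2 ⟨hu, fun a ha => comm_inv_mem.1 (hua a ha)⟩)).2
    rw [mem_cm]
    exact and_congr_right fun _ => forall₂_congr fun a _ => comm_inv_mem
  · -- (α)
    have hcx : Crit inc W 2 x c := ⟨(Walk.one hxm hpm).trans hpc', hc, hcr.min⟩
    refine hK.false_alpha D hxm hpm hxp.symm hpc'.symm (ExP.of_two D hNO hcx) fun a ha b hb => ?_
    have h3 := comm_mem D hcx (by norm_num) ha hb
    have h4 := comm_mem' D hcx (by norm_num) ha hb
    refine hlow _ h4 ?_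
    rw [D.W_smul_iff]
    have h5 : f * (a * b * a⁻¹ * b⁻¹) = (a * b * a⁻¹ * b⁻¹) * f := hmin hql hcl f hf _ h3
    have e : f⁻¹ * (a * b * a⁻¹ * b⁻¹) * f = a * b * a⁻¹ * b⁻¹ := by rw [mul_assoc, ← h5]; group
    rwa [e]

end mid

end Cfsg.Agent.Omega.NO3S.FarQ.Asm
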