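import Cfsg.Agent.Omega.NO3S.FarQ.Abs

/-!
# FarQ, abstract part: (U) for blocks, the torus lemma, the functionals (TEXT 263-Q, (Q1)-(Q3))

* `Flag.inf_zPi`, `Flag.not_mem` : (3.3) (i), (ii);
* `PSq.torus` : (3.1) `lam ≤ ∏ [M, J]`, `J` in the `T`-orbit of a block moving `lam`; `PSq.orbit` : `supp(lam)` is
  one `T`-orbit; `PSq.conj_all` : all blocks are conjugate;
* `PSq.exists_kh` : (K) for every block some `φ ∈ Kh` is trivial on `C_M(J)` but not on `[M, J]`.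
-/

set_option autoImplicit false

namespace Cfsg.Agent.Omega.NO3S.FarQ

open Subgroup Cfsg.Agent.ZN Cfsg.Agent.Omega.NO3S.PT
open Cfsg.Agent.ClassTwoFusion.Quad (cv mem_cv cv_anti)
open scoped Pointwise

variable {H M R : Type*} [Group H] [CommGroup M] [MulDistribMulAction H M] [CommGroup R]

/-! ### Generalities -/

theorem mem_zm {J : Subgroup H} {m : M} : m ∈ zm M J ↔ ∀ j ∈ J, j • m = m := Iff.rfl

theorem zm_anti {J J' : Subgroup H} (h : J ≤ J') : zm M J' ≤ zm M J := fun _ hm j hj => hm j (h hj)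

theorem comm_mem_cm {E : Subgroup M} {J : Subgroup H} {j : H} (hj : j ∈ J) {m : M} (hm : m ∈ E) :
    (j • m) * m⁻¹ ∈ cm E J := subset_closure ⟨j, hj, m, hm, rfl⟩

theorem comm_mem_em {J : Subgroup H} {j : H} (hj : j ∈ J) (m : M) : (j • m) * m⁻¹ ∈ em M J :=
  comm_mem_cm hj (mem_top m)

theorem cm_le {E N : Subgroup M} {J : Subgroup H} (h : ∀ j ∈ J, ∀ m ∈ E, (j • m) * m⁻¹ ∈ N) : cm E J ≤ N := by
  refine (closure_le _).2 ?_
  rintro _ ⟨j, hj, m, hm, rfl⟩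
  exact h j hj m hm

theorem em_le_iff {N : Subgroup M} {J : Subgroup H} : em M J ≤ N ↔ ∀ j ∈ J, ∀ m : M, (j • m) * m⁻¹ ∈ N :=
  ⟨fun h _ hj m => h (comm_mem_em hj m), fun h => cm_le fun j hj m _ => h j hj m⟩

theorem cm_mono {E E' : Subgroup M} {J J' : Subgroup H} (hE : E ≤ E') (hJ : J ≤ J') : cm E J ≤ cm E' J' :=
  cm_le fun _ hj _ hm => comm_mem_cm (hJ hj) (hE hm)

theorem mem_cj' {J : Subgroup H} {h x : H} : x ∈ cj h J ↔ ∃ j ∈ J, x = h * j * h⁻¹ := by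
  rw [mem_cj]
  constructor
  · intro hx
    exact ⟨_, hx, by group⟩
  · rintro ⟨j, hj, rfl⟩
    have e : h⁻¹ * (h * j * h⁻¹) * h = j := by group
    rwa [e]

theorem smul_mem_zm {J : Subgroup H} {h : H} {m : M} : h • m ∈ zm M (cj h J) ↔ m ∈ zm M J := by
  constructor
  · intro hm j hj
    have h1 := hm _ (conj_mem_cj (g := h) hj)
    have e : (h * j * h⁻¹) • h • m = h • j • m := by
      rw [smul_smul, smul_smul, inv_mul_cancel_right]
    rw [e] at h1
    exact smul_left_cancel h h1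
  · intro hm x hx
    obtain ⟨j, hj, rfl⟩ := mem_cj'.1 hx
    rw [smul_smul, inv_mul_cancel_right, mul_smul, hm j hj]

theorem smul_mem_em {J : Subgroup H} {h : H} {m : M} (hm : m ∈ em M J) : h • m ∈ em M (cj h J) := by
  have key : em M J ≤ (em M (cj h J)).comap (MulDistribMulAction.toMonoidHom M h) := by
    rw [em_le_iff]
    intro j hj m
    rw [mem_comap]
    show h • ((j • m) * m⁻¹) ∈ _
    have e : h • ((j • m) * m⁻¹) = ((h * j * h⁻¹) • h • m) * (h • m)⁻¹ := by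
      rw [smul_mul', smul_inv', smul_smul, smul_smul, inv_mul_cancel_right]
    rw [e]
    exact comm_mem_em (conj_mem_cj hj) _
  exact key hm

theorem smul_mem_em_iff {J : Subgroup H} {h : H} {m : M} : h • m ∈ em M (cj h J) ↔ m ∈ em M J := by
  refine ⟨fun hm => ?_, smul_mem_em⟩
  have := smul_mem_em (h := h⁻¹) hm
  rwa [cj_cj, inv_mul_cancel, cj_one, inv_smul_smul] at this

theorem smul_mem_tm_iff {J : Subgroup H} {h : H} {m : M} : h • m ∈ tm M (cj h J) ↔ m ∈ tm M J := by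
  unfold tm
  rw [mem_inf, mem_inf, smul_mem_em_iff, smul_mem_zm]

/-- `[M, J]` is `J`-invariant. -/
theorem smul_em {J : Subgroup H} {j : H} (hj : j ∈ J) {m : M} (hm : m ∈ em M J) : j • m ∈ em M J := by
  have h1 : (j • m) * m⁻¹ * m ∈ em M J := mul_mem (comm_mem_em hj m) hm
  rwa [inv_mul_cancel_right] at h1

/-- The elements acting trivially on `M / N`. -/
def am (N : Subgroup M) : Subgroup H where
  carrier := {x | ∀ m : M, (x • m) * m⁻¹ ∈ N}
  one_mem' := fun m => by rw [one_smul, mul_inv_cancel]; exact one_mem _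
  mul_mem' := fun {x y} hx hy m => by
    have h1 := mul_mem (mul_mem (hx ((y • m) * m⁻¹)) (hy m)) (hx m)
    have e : x • (y • m * m⁻¹) * (y • m * m⁻¹)⁻¹ * (y • m * m⁻¹) * (x • m * m⁻¹) = (x * y) • m * m⁻¹ := by
      rw [inv_mul_cancel_right, smul_mul', smul_inv', mul_smul]
      group
    rwa [e] at h1
  inv_mem' := fun {x} hx m => by
    have h1 := inv_mem (hx (x⁻¹ • m))
    rw [smul_inv_smul, mul_inv_rev, inv_inv] at h1
    exact h1

theorem mem_am {N : Subgroup M} {x : H} : x ∈ am N ↔ ∀ m : M, (x • m) * m⁻¹ ∈ N := Iff.rfl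

theorem le_am {N : Subgroup M} {J : Subgroup H} : J ≤ am N ↔ em M J ≤ N := by
  rw [em_le_iff]; rfl

/-- the elements of `am N` preserve `N` -/
theorem smul_mem_of_am {N : Subgroup M} {x : H} (hx : x ∈ am N) {n : M} (hn : n ∈ N) : x • n ∈ N := by
  have h1 : (x • n) * n⁻¹ * n ∈ N := mul_mem (hx n) hn
  rwa [inv_mul_cancel_right] at h1

theorem noncommProd_equiv {ι : Type*} [Fintype ι] (σ : ι ≃ ι) (F : ι → H)
    (h1 : ((Finset.univ : Finset ι) : Set ι).Pairwise (Function.onFun Commute fun i => F (σ i)))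
    (h2 : ((Finset.univ : Finset ι) : Set ι).Pairwise (Function.onFun Commute F)) :
    Finset.univ.noncommProd (fun i => F (σ i)) h1 = Finset.univ.noncommProd F h2 := by
  unfold Finset.noncommProd
  have e : (Finset.univ : Finset ι).val.map (fun i => F (σ i)) = (Finset.univ : Finset ι).val.map F := by
    have h3 : (Finset.univ : Finset ι).val.map (fun i => F (σ i)) = ((Finset.univ : Finset ι).val.map σ).map F := by
      rw [Multiset.map_map]; rfl
    rw [h3, Multiset.map_univ_val_equiv]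
  congr 1

theorem exists_two {K : Subgroup M} (hK : 4 ≤ Nat.card K) : ∃ a ∈ K, ∃ b ∈ K, a ≠ 1 ∧ b ≠ 1 ∧ a ≠ b := by
  have hf : Finite K := Nat.finite_of_card_ne_zero (by omega)
  have : Fintype K := Fintype.ofFinite K
  classical
  by_contra hcon
  push Not at hcon
  have h1 : (Finset.univ : Finset K) ⊆ {1} ∪ (Finset.univ : Finset K).filter (fun x => x ≠ 1) := by
    intro x _
    by_cases hx : x = 1
    · simp [hx]
    · simp [hx]
  have h2 : ((Finset.univ : Finset K).filter (fun x => x ≠ 1)).card ≤ 1 := by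
    rw [Finset.card_le_one]
    intro a ha b hb
    simp only [Finset.mem_filter, Finset.mem_univ, true_and] at ha hb
    exact Subtype.ext (hcon a a.2 b b.2 (fun e => ha (Subtype.ext e)) (fun e => hb (Subtype.ext e)))
  have h3 := (Finset.card_le_card h1).trans (Finset.card_union_le _ _)
  rw [Finset.card_univ, ← Nat.card_eq_fintype_card, Finset.card_singleton] at h3
  omega

/-! ### (3.3) -/

section

variable {T : Subgroup H} {lam U : Subgroup M} {Kh : Subgroup (M →* R)} {Pi : Set (Subgroup H)}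

namespace Flag

variable (F : Flag T lam U Kh)
include F

theorem inf_zm {J : Subgroup H} (hJ : ¬ lam ≤ zm M J) {a : M} (ha : a ∈ lam) (haz : a ∈ zm M J) : a = 1 := by
  by_contra ha1
  exact hJ fun b hb j hj => F.lin a ha ha1 j (haz j hj) b hb

theorem exists_ne : ∃ a ∈ lam, a ≠ 1 := by
  obtain ⟨a, ha, -, -, ha1, -⟩ := exists_two F.four
  exact ⟨a, ha, ha1⟩

/-- **(3.3)(i)** -/
theorem inf_zPi (hP : PSq R T lam Pi) {J : Subgroup H} (hJ : J ∈ Pi) (hJl : ¬ lam ≤ zm M J) {u : M} (hu : u ∈ U)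
    (hz : ∀ J ∈ Pi, u ∈ zm M J) : u = 1 := by
  by_contra hu1
  by_cases hul : u ∈ lam
  · exact hu1 (F.inf_zm hJl hul (hz J hJ))
  obtain ⟨a, ha, ha1⟩ := F.exists_ne
  obtain ⟨h, hh⟩ := F.uu u hu hul a ha
  have h1 : h • u ∈ zm M J := by
    have h2 := (smul_mem_zm (h := h)).2 (hz _ (hP.conj J hJ h⁻¹))
    rwa [cj_cj, mul_inv_cancel, cj_one] at h2
  rw [hh] at h1
  exact ha1 (F.inf_zm hJl ha (((zm M J).mul_mem_cancel_left (hz J hJ)).1 h1))

/-- **(3.3)(ii)** -/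
theorem not_mem (hP : PSq R T lam Pi) {J₁ J₂ : Subgroup H} (h1 : J₁ ∈ Pi) (h2 : J₂ ∈ Pi) (hne : J₁ ≠ J₂)
    (h1l : ¬ lam ≤ zm M J₁) (h2l : ¬ lam ≤ zm M J₂) {J : Subgroup H} (hJ : J ∈ Pi) {u : M} (hu : u ∈ U)
    (huJ : u ∈ em M J) : u ∈ zm M J := by
  by_contra huz
  -- some block `K ≠ J` moves `lam`
  obtain ⟨K, hK, hKJ, hKl⟩ : ∃ K ∈ Pi, K ≠ J ∧ ¬ lam ≤ zm M K := by
    by_cases e : J₁ = J
    · exact ⟨J₂, h2, fun e' => hne (e.trans e'.symm), h2l⟩
    · exact ⟨J₁, h1, e, h1l⟩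
  have huK : ∀ K ∈ Pi, K ≠ J → u ∈ zm M K := fun K hK hKJ => hP.em_le J hJ K hK hKJ.symm huJ
  have hul : u ∉ lam := by
    intro e
    have := F.inf_zm hKl e (huK K hK hKJ)
    exact huz (this ▸ one_mem _)
  -- the block of `u a`
  have key : ∀ a ∈ lam, a ≠ 1 → ∃ J' ∈ Pi, ∀ K ∈ Pi, u * a ∉ zm M K → K = J' := by
    intro a ha ha1
    obtain ⟨h, hh⟩ := F.uu u hu hul a ha
    refine ⟨cj h J, hP.conj J hJ h, fun K hK hKu => ?_⟩
    by_contra hne'
    apply hKu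
    rw [← hh]
    exact hP.em_le _ (hP.conj J hJ h) K hK (fun e => hne' e.symm) (smul_mem_em huJ)
  have hKu : ∀ K ∈ Pi, K ≠ J → ¬ lam ≤ zm M K → ∀ a ∈ lam, a ≠ 1 → u * a ∉ zm M K := by
    intro K hK hKJ hKl a ha ha1 e
    exact ha1 (F.inf_zm hKl ha (((zm M K).mul_mem_cancel_left (huK K hK hKJ)).1 e))
  obtain ⟨a, ha, b, hb, ha1, hb1, hab⟩ := exists_two F.four
  -- `u a ∈ zm M J`, so `J` moves `lam`, ...
  have hz : ∀ a ∈ lam, a ≠ 1 → u * a ∈ zm M J := by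
    intro a ha ha1
    by_contra e
    obtain ⟨J', -, hJ'⟩ := key a ha ha1
    have e1 := hJ' J hJ e
    have e2 := hJ' K hK (hKu K hK hKJ hKl a ha ha1)
    exact hKJ (e2.trans e1.symm)
  have hJl : ¬ lam ≤ zm M J := fun e => huz (((zm M J).mul_mem_cancel_right (e ha)).1 (hz a ha ha1))
  have h3 : a * b⁻¹ ∈ zm M J := by
    have h4 := (zm M J).mul_mem (hz a ha ha1) ((zm M J).inv_mem (hz b hb hb1))
    have e : u * a * (u * b)⁻¹ = a * b⁻¹ := by
      rw [mul_inv_rev, mul_comm u a, mul_assoc, mul_comm b⁻¹ u⁻¹, mul_inv_cancel_left]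
    rwa [e] at h4
  exact hab (mul_inv_eq_one.1 (F.inf_zm hJl (mul_mem ha (inv_mem hb)) h3))

end Flag

/-! ### The torus lemma (3.1) -/

namespace PSq

variable (F : Flag T lam U Kh) (hP : PSq R T lam Pi)
include F hP

/-- A product of `T`-conjugates of the torus element. -/
theorem exists_theta {J₀ : Subgroup H} (h0 : J₀ ∈ Pi) (h0l : ¬ lam ≤ zm M J₀) : ∃ θ ∈ normalizer (T : Set H),
    θ ∈ closure {x | ∃ t ∈ T, x ∈ cj t J₀} ∧ ∀ a ∈ lam, θ • a = a → a = 1 := by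
  classical
  have hfin := F.finH
  obtain ⟨θ, hθ, hθT, hθl⟩ := hP.tor J₀ h0 h0l
  set O : Set (Subgroup H) := {J | ∃ t ∈ T, J = cj t J₀} with hO
  have : Finite O := inferInstance
  have : Fintype O := Fintype.ofFinite O
  have hOPi : ∀ i : O, i.1 ∈ Pi := fun i => by
    obtain ⟨t, -, ht⟩ := i.2
    rw [ht]
    exact hP.conj J₀ h0 t
  choose τ hτ hτJ using fun i : O => i.2
  let f : O → H := fun i => τ i * θ * (τ i)⁻¹
  have hf : ∀ i : O, f i ∈ i.1 := fun i => by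
    have h1 : f i ∈ cj (τ i) J₀ := conj_mem_cj hθ
    rwa [← hτJ i] at h1
  have hcomm : ∀ (g : O → H) (g' : O → H), (∀ i, g i ∈ i.1) → (∀ i, g' i ∈ i.1) → ∀ i j, i ≠ j →
      Commute (g i) (g' j) := fun g g' hg hg' i j hij =>
    hP.comm i.1 (hOPi i) j.1 (hOPi j) (fun e => hij (Subtype.ext e)) _ (hg i) _ (hg' j)
  have hpair : ∀ g : O → H, (∀ i, g i ∈ i.1) →
      (((Finset.univ : Finset O) : Set O).Pairwise (Function.onFun Commute g)) := fun g hg i _ j _ hij =>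
    hcomm g g hg hg i j hij
  set θ' := Finset.univ.noncommProd f (hpair f hf) with hθ'
  -- `T` permutes
  have hnorm : ∀ t ∈ T, t * θ' * t⁻¹ * θ'⁻¹ ∈ T := by
    intro t ht
    let σ : O ≃ O :=
      { toFun := fun i => ⟨cj t i.1, by
          obtain ⟨s, hs, e⟩ := i.2
          exact ⟨t * s, mul_mem ht hs, by rw [e, cj_cj]⟩⟩
        invFun := fun i => ⟨cj t⁻¹ i.1, by
          obtain ⟨s, hs, e⟩ := i.2
          exact ⟨t⁻¹ * s, mul_mem (inv_mem ht) hs, by rw [e, cj_cj]⟩⟩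
        left_inv := fun i => Subtype.ext (by
          show cj t⁻¹ (cj t i.1) = i.1
          rw [cj_cj, inv_mul_cancel, cj_one])
        right_inv := fun i => Subtype.ext (by
          show cj t (cj t⁻¹ i.1) = i.1
          rw [cj_cj, mul_inv_cancel, cj_one]) }
    have hσ : ∀ i, (σ i).1 = cj t i.1 := fun i => rfl
    let g : O → H := fun i => t * f (σ.symm i) * t⁻¹
    have hg : ∀ i, g i ∈ i.1 := fun i => by
      have h1 : g i ∈ cj t (σ.symm i).1 := conj_mem_cj (hf _)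
      have h2 : cj t (σ.symm i).1 = i.1 := by rw [← hσ, Equiv.apply_symm_apply]
      rwa [h2] at h1
    let u : O → H := fun i => g i * (f i)⁻¹
    have hu : ∀ i, u i ∈ i.1 := fun i => mul_mem (hg i) (inv_mem (hf i))
    have huT : ∀ i, u i ∈ T := by
      intro i
      set j := σ.symm i with hj
      set n := (τ i)⁻¹ * t * τ j with hn
      have hnT : n ∈ T := mul_mem (mul_mem (inv_mem (hτ i)) ht) (hτ j)
      have hnJ : cj n J₀ = J₀ := by
        rw [hn, ← cj_cj, ← cj_cj, ← hτJ j]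
        have h2 : cj t j.1 = i.1 := by rw [← hσ, hj, Equiv.apply_symm_apply]
        rw [h2]
        nth_rewrite 1 [hτJ i]
        rw [cj_cj, inv_mul_cancel, cj_one]
      have h3 := (hθT n hnT hnJ).1
      have e : u i = τ i * (n * θ * n⁻¹ * θ⁻¹) * (τ i)⁻¹ := by
        show t * (τ j * θ * (τ j)⁻¹) * t⁻¹ * (τ i * θ * (τ i)⁻¹)⁻¹ = _
        rw [hn]; group
      rw [e]
      exact mul_mem (mul_mem (hτ i) h3) (inv_mem (hτ i))
    have e1 : t * θ' * t⁻¹ = Finset.univ.noncommProd g (hpair g hg) := by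
      have e2 : t * θ' * t⁻¹ = (MulAut.conj t).toMonoidHom θ' := rfl
      rw [e2, hθ', Finset.map_noncommProd]
      have e3 := noncommProd_equiv σ g (by
        intro i _ j _ hij
        exact hcomm g g hg hg (σ i) (σ j) (fun e => hij (σ.injective e))) (hpair g hg)
      rw [← e3]
      refine Finset.noncommProd_congr rfl (fun i _ => ?_) _
      show t * f i * t⁻¹ = t * f (σ.symm (σ i)) * t⁻¹
      rw [Equiv.symm_apply_apply]
    have e2 : Finset.univ.noncommProd g (hpair g hg) =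
        Finset.univ.noncommProd u (hpair u hu) * θ' := by
      rw [hθ', ← Finset.noncommProd_mul_distrib u f (hpair u hu) (hpair f hf) (by
        intro i _ j _ hij
        exact hcomm f u hf hu i j hij)]
      refine Finset.noncommProd_congr rfl (fun i _ => ?_) _
      show g i = g i * (f i)⁻¹ * f i
      rw [inv_mul_cancel_right]
    rw [e1, e2, mul_inv_cancel_right]
    exact Subgroup.noncommProd_mem T _ fun i _ => huT i
  have hTn : ∀ t ∈ T, θ' * t * θ'⁻¹ ∈ T := by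
    intro t ht
    have h1 := mul_mem (inv_mem (hnorm t⁻¹ (inv_mem ht))) (inv_mem ht)
    have h2 := mul_mem (inv_mem ht) (hnorm t ht)
    have e : t⁻¹ * (t * θ' * t⁻¹ * θ'⁻¹) = (θ' * t * θ'⁻¹)⁻¹ := by group
    rw [e] at h2
    have h3 := inv_mem h2
    rwa [inv_inv] at h3
  refine ⟨θ', ?_, ?_, ?_⟩
  · rw [← cj_eq_iff]
    refine Subgroup.eq_of_le_of_card_ge ?_ (card_cj _ _).ge
    intro x hx
    obtain ⟨t, ht, rfl⟩ := mem_cj'.1 hx
    exact hTn t ht
  · refine Subgroup.noncommProd_mem _ _ fun i _ => subset_closure ⟨τ i, hτ i, ?_⟩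
    rw [← hτJ i]
    exact hf i
  · intro a ha hθa
    let i₀ : O := ⟨J₀, 1, one_mem _, (cj_one _).symm⟩
    -- `f i₀ • a ∈ a • zm`
    have hrest : ∀ i : O, i ≠ i₀ → f i ∈ am (zm M J₀) := by
      intro i hi
      have h1 : em M i.1 ≤ zm M J₀ := hP.em_le i.1 (hOPi i) J₀ h0 (fun e => hi (Subtype.ext e))
      exact le_am.2 h1 (hf i)
    have e1 := Finset.mul_noncommProd_erase Finset.univ (Finset.mem_univ i₀) f (hpair f hf)
    set ρ := (Finset.univ.erase i₀).noncommProd f (fun x hx y hy h => hpair f hf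
      (Finset.mem_of_mem_erase hx) (Finset.mem_of_mem_erase hy) h) with hρ
    have hρm : ρ ∈ am (zm M J₀) :=
      Subgroup.noncommProd_mem _ _ fun i hi => hrest i (Finset.ne_of_mem_erase hi)
    have e2 : f i₀ • ρ • a = a := by
      rw [smul_smul, e1]
      exact hθa
    -- `f i₀` is a conjugate of `θ` under `N_T(J₀)`
    have hn : cj (τ i₀) J₀ = J₀ := (hτJ i₀).symm
    have h3 := (hθT (τ i₀) (hτ i₀) hn)
    have h4 : f i₀ = (τ i₀ * θ * (τ i₀)⁻¹ * θ⁻¹) * θ := by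
      show τ i₀ * θ * (τ i₀)⁻¹ = _
      group
    refine hθl a ha ?_
    set v := τ i₀ * θ * (τ i₀)⁻¹ * θ⁻¹ with hv
    -- `v θ ρ a = a`, `v⁻¹ a = a`
    have h5 : θ • ρ • a = a := by
      rw [h4, mul_smul] at e2
      have h6 : v⁻¹ • a = a := F.fix _ (inv_mem h3.1) a ha
      calc θ • ρ • a = v⁻¹ • v • θ • ρ • a := (inv_smul_smul v _).symm
        _ = a := by rw [e2, h6]
    -- `(θ a) a⁻¹ = (θ (ρ a a⁻¹))⁻¹`
    have h7 : (θ • a) * a⁻¹ = (θ • ((ρ • a) * a⁻¹))⁻¹ := by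
      rw [smul_mul', h5, smul_inv', mul_inv_rev, inv_inv]
    rw [h7]
    refine inv_mem ?_
    have h8 := hρm a
    have h9 : θ • ((ρ • a) * a⁻¹) = (ρ • a) * a⁻¹ := h8 θ hθ
    rw [h9]
    exact h8

/-- **(3.1)** -/
theorem torus {J₀ : Subgroup H} (h0 : J₀ ∈ Pi) (h0l : ¬ lam ≤ zm M J₀) :
    lam ≤ closure {x | ∃ t ∈ T, x ∈ em M (cj t J₀)} := by
  obtain ⟨θ, hθT, hθ, hθl⟩ := exists_theta F hP h0 h0l
  have hfin := F.finM
  set N : Subgroup M := closure {x | ∃ t ∈ T, x ∈ em M (cj t J₀)} with hN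
  have h1 : θ ∈ am N := by
    have h2 : closure {x | ∃ t ∈ T, x ∈ cj t J₀} ≤ am N := by
      refine (closure_le _).2 ?_
      rintro x ⟨t, ht, hx⟩
      refine le_am.2 ?_ hx
      intro y hy
      exact subset_closure ⟨t, ht, hy⟩
    exact h2 hθ
  let d : lam → lam := fun a => ⟨(θ • (a : M)) * (a : M)⁻¹, mul_mem (F.norm θ hθT a a.2) (inv_mem a.2)⟩
  have hinj : Function.Injective d := by
    intro a b hab
    have h2 : (θ • (a : M)) * (a : M)⁻¹ = (θ • (b : M)) * (b : M)⁻¹ := congrArg Subtype.val hab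
    have h3 : θ • ((a : M) * (b : M)⁻¹) = (a : M) * (b : M)⁻¹ := by
      rw [mul_inv_eq_iff_eq_mul] at h2
      rw [smul_mul', smul_inv', h2, mul_comm _ (θ • (b : M))⁻¹, mul_assoc, inv_mul_cancel_left, mul_comm]
    have h4 := hθl _ (mul_mem a.2 (inv_mem b.2)) h3
    exact Subtype.ext (mul_inv_eq_one.1 h4)
  have hsurj : Function.Surjective d := Finite.injective_iff_surjective.1 hinj
  intro a ha
  obtain ⟨b, hb⟩ := hsurj ⟨a, ha⟩
  have h2 : (θ • (b : M)) * (b : M)⁻¹ = a := congrArg Subtype.val hb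
  rw [← h2]
  exact h1 _

omit F in
/-- a block which does not meet the orbit of `J₀` centralises `[M, cj t J₀]`, `t ∈ T` -/
theorem closure_le_zm {J₀ J : Subgroup H} (h0 : J₀ ∈ Pi) (hJ : J ∈ Pi) (X : Set H) (hne : ∀ t ∈ X, cj t J₀ ≠ J) :
    closure {x | ∃ t ∈ X, x ∈ em M (cj t J₀)} ≤ zm M J := by
  refine (closure_le _).2 ?_
  rintro x ⟨t, ht, hx⟩
  exact hP.em_le _ (hP.conj J₀ h0 t) J hJ (hne t ht) hx

/-- `supp(lam)` is one `T`-orbit. -/
theorem orbit {J₀ J : Subgroup H} (h0 : J₀ ∈ Pi) (h0l : ¬ lam ≤ zm M J₀) (hJ : J ∈ Pi) (hJl : ¬ lam ≤ zm M J) :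
    ∃ t ∈ T, cj t J₀ = J := by
  by_contra hcon
  push Not at hcon
  exact hJl ((torus F hP h0 h0l).trans (closure_le_zm hP h0 hJ T hcon))

/-- `M` is generated by the `[M, J₀^h]`. -/
theorem closure_eq_top {J₀ : Subgroup H} (h0 : J₀ ∈ Pi) (h0l : ¬ lam ≤ zm M J₀) :
    closure {x | ∃ h : H, x ∈ em M (cj h J₀)} = ⊤ := by
  refine F.gen _ fun h a ha => ?_
  have h1 : closure {x | ∃ t ∈ T, x ∈ em M (cj t J₀)} ≤
      (closure {x | ∃ h : H, x ∈ em M (cj h J₀)}).comap (MulDistribMulAction.toMonoidHom M h) := by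
    refine (closure_le _).2 ?_
    rintro x ⟨t, -, hx⟩
    refine subset_closure ⟨h * t, ?_⟩
    rw [← cj_cj]
    exact smul_mem_em hx
  exact h1 (torus F hP h0 h0l ha)

/-- All blocks are conjugate. -/
theorem conj_all {J₀ J : Subgroup H} (h0 : J₀ ∈ Pi) (h0l : ¬ lam ≤ zm M J₀) (hJ : J ∈ Pi) : ∃ h : H, cj h J₀ = J := by
  by_contra hcon
  push Not at hcon
  have h1 : closure {x | ∃ h : H, x ∈ em M (cj h J₀)} ≤ zm M J := by
    refine (closure_le _).2 ?_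
    rintro x ⟨t, hx⟩
    exact hP.em_le _ (hP.conj J₀ h0 t) J hJ (hcon t) hx
  rw [closure_eq_top F hP h0 h0l] at h1
  refine hP.ne J hJ ((eq_bot_iff_forall _).2 fun j hj => F.faith j fun m => h1 (mem_top m) j hj)

/-- If `J` is the only block moving `lam` then `lam ≤ [M, J]`. -/
theorem le_em {J : Subgroup H} (hJ : J ∈ Pi) (hJl : ¬ lam ≤ zm M J)
    (huniq : ∀ J' ∈ Pi, ¬ lam ≤ zm M J' → J' = J) : lam ≤ em M J := by
  refine (torus F hP hJ hJl).trans ((closure_le _).2 ?_)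
  rintro x ⟨t, ht, hx⟩
  have h1 : cj t J = J := by
    refine huniq _ (hP.conj J hJ t) fun h2 => hJl fun a ha => ?_
    have h3 := h2 ha
    rw [← F.fix t ht a ha, smul_mem_zm] at h3
    exact h3
  rwa [h1] at hx

omit hP in
/-- `T` permutes the blocks moving `lam`. -/
theorem not_le_cj {J : Subgroup H} (hJl : ¬ lam ≤ zm M J) {t : H} (ht : t ∈ T) : ¬ lam ≤ zm M (cj t J) := by
  intro h2
  refine hJl fun a ha => ?_
  have h3 := h2 ha
  rw [← F.fix t ht a ha, smul_mem_zm] at h3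
  exact h3

/-- If `J` is the only block moving `lam` then `T` normalises `J`. -/
theorem cj_eq_of_uniq {J : Subgroup H} (hJ : J ∈ Pi) (hJl : ¬ lam ≤ zm M J)
    (huniq : ∀ J' ∈ Pi, ¬ lam ≤ zm M J' → J' = J) : ∀ t ∈ T, cj t J = J := fun t ht =>
  huniq _ (hP.conj J hJ t) (not_le_cj F hJl ht)

/-! ### (K) -/

/-- `Kh_J`: the functionals in `Kh` which are trivial on `C_M(J)`. -/
def kj (Kh : Subgroup (M →* R)) (J : Subgroup H) : Subgroup (M →* R) where
  carrier := {φ | φ ∈ Kh ∧ ∀ z ∈ zm M J, φ z = 1}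
  one_mem' := ⟨one_mem _, fun _ _ => rfl⟩
  mul_mem' := fun {φ ψ} hφ hψ => ⟨mul_mem hφ.1 hψ.1, fun z hz => by
    rw [MonoidHom.mul_apply, hφ.2 z hz, hψ.2 z hz, one_mul]⟩
  inv_mem' := fun {φ} hφ => ⟨inv_mem hφ.1, fun z hz => by rw [MonoidHom.inv_apply, hφ.2 z hz, inv_one]⟩

omit hP in
/-- `Kh_J` is moved to `Kh_{J^h}` -/
theorem exists_kj {J : Subgroup H} {φ : M →* R} (h : H) (hφ : φ ∈ kj Kh (cj h J)) :
    ∃ ψ ∈ kj Kh J, ∀ m, ψ m = φ (h • m) := by
  obtain ⟨ψ, hψ, hψφ⟩ := F.kh φ hφ.1 h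
  refine ⟨ψ, ⟨hψ, fun z hz => ?_⟩, hψφ⟩
  rw [hψφ]
  exact hφ.2 _ (smul_mem_zm.2 hz)

omit hP in
theorem kj_inv {J : Subgroup H} {φ : M →* R} (hφ : φ ∈ kj Kh J) {j : H} (hj : j ∈ J) :
    ∃ ψ ∈ kj Kh J, ∀ m, ψ m = φ (j • m) := by
  have h1 : cj j J = J := cj_eq_iff.2 (le_normalizer hj)
  exact exists_kj F j (by rwa [h1])

/-- **(K)** -/
theorem kj_ne_bot {J : Subgroup H} (hJ : J ∈ Pi) {J₀ : Subgroup H} (h0 : J₀ ∈ Pi) (h0l : ¬ lam ≤ zm M J₀) :
    kj Kh J ≠ ⊥ := by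
  -- first for `J₀`
  have key : kj Kh J₀ ≠ ⊥ := by
    obtain ⟨a, ha, ha1⟩ := F.exists_ne
    obtain ⟨φ, hφ, hφa⟩ := F.f1 a ha ha1
    -- some `[M, cj t J₀]` is moved
    obtain ⟨t, ht, e, he, hφe⟩ : ∃ t ∈ T, ∃ e ∈ em M (cj t J₀), φ e ≠ 1 := by
      by_contra hcon
      push Not at hcon
      have h1 : closure {x | ∃ t ∈ T, x ∈ em M (cj t J₀)} ≤ φ.ker :=
        (closure_le _).2 (by rintro x ⟨t, ht, hx⟩; exact MonoidHom.mem_ker.2 (hcon t ht x hx))
      exact hφa (MonoidHom.mem_ker.1 (h1 (torus F hP h0 h0l ha)))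
    obtain ⟨ψ, hψ, hψφ⟩ := F.kh φ hφ t
    obtain ⟨j, hj, m, hm, hjm⟩ : ∃ j ∈ J₀, ∃ m ∈ em M J₀, ψ ((j • m) * m⁻¹) ≠ 1 := by
      by_contra hcon
      push Not at hcon
      have h1 : cm (em M J₀) J₀ ≤ ψ.ker := cm_le fun j hj m hm => MonoidHom.mem_ker.2 (hcon j hj m hm)
      rw [hP.perf J₀ h0] at h1
      have h2 : t⁻¹ • e ∈ em M J₀ := by
        have h3 := smul_mem_em (h := t⁻¹) he
        rwa [cj_cj, inv_mul_cancel, cj_one] at h3
      have h3 := MonoidHom.mem_ker.1 (h1 h2)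
      rw [hψφ, smul_inv_smul] at h3
      exact hφe h3
    obtain ⟨χ, hχ, hχψ⟩ := F.kh ψ hψ j
    intro hbot
    have h1 : χ * ψ⁻¹ ∈ kj Kh J₀ := ⟨mul_mem hχ (inv_mem hψ), fun z hz => by
      rw [MonoidHom.mul_apply, MonoidHom.inv_apply, hχψ, hz j hj, mul_inv_cancel]⟩
    rw [hbot, mem_bot] at h1
    apply hjm
    have h2 := congrArg (fun f : M →* R => f m) h1
    simp only [MonoidHom.mul_apply, MonoidHom.inv_apply, MonoidHom.one_apply, hχψ] at h2
    rw [map_mul, map_inv]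
    exact h2
  obtain ⟨h, rfl⟩ := conj_all F hP h0 h0l hJ
  intro hbot
  apply key
  rw [eq_bot_iff]
  intro φ hφ
  have h1 : cj h⁻¹ (cj h J₀) = J₀ := by rw [cj_cj, inv_mul_cancel, cj_one]
  obtain ⟨ψ, hψ, hψφ⟩ := exists_kj F (J := cj h J₀) h⁻¹ (by rwa [h1])
  rw [hbot, mem_bot] at hψ
  rw [mem_bot]
  ext m
  have h2 := hψφ (h • m)
  rw [inv_smul_smul, hψ] at h2
  exact h2.symm

/-- `{φ a : φ ∈ Kh_J}` is the same for all blocks moving `lam`. -/
theorem kj_transfer {J J' : Subgroup H} (hJ : J ∈ Pi) (hJl : ¬ lam ≤ zm M J) (hJ' : J' ∈ Pi)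
    (hJl' : ¬ lam ≤ zm M J') {a : M} (ha : a ∈ lam) {φ : M →* R} (hφ : φ ∈ kj Kh J) :
    ∃ ψ ∈ kj Kh J', ψ a = φ a := by
  obtain ⟨t, ht, rfl⟩ := orbit F hP hJ' hJl' hJ hJl
  obtain ⟨ψ, hψ, hψφ⟩ := exists_kj F t hφ
  exact ⟨ψ, hψ, by rw [hψφ, F.fix t ht a ha]⟩

end PSq

end

end Cfsg.Agent.Omega.NO3S.FarQ
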