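import Cfsg.Agent.Omega.NO3S.FarQ.FlagK

/-!
# NO-3S, natural lines, `q ≥ 4`: `n ≥ 3` is impossible, and `n = 2` is `Single` (TEXT 263-Q, helper263 #15995)

* `RD.ext` : helper712's `Ext` from `RD`;
* `noOver` : `NoOv lam` gives `LemmaM.NoOver` for all flags;
* `far_false` : no critical pair at distance `n ≥ 3`; `mid_single` : for `n = 2` the blocks are `Single`.
-/

set_option autoImplicit false
set_option linter.unusedSectionVars false

namespace Cfsg.Agent.Omega.NO3S.FarQ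

open Subgroup Cfsg Cfsg.Agent.ZN Cfsg.Agent.MinSimple.VModule Cfsg.Agent.Omega.NOThree.Pts
open Cfsg.Agent.Omega.NO3S.FarQ.Glue Cfsg.Agent.Omega.NO3S.PT Cfsg.Agent.Omega.NO3S.PtGeom
open Cfsg.Agent.Omega.NOThree.LemmaM (NoOver)
open scoped Pointwise

universe u

section geo

variable {G X L : Type*} [Group G] [MulAction G X] [MulAction G L]
variable {inc : X → L → Prop} {R W : X → Subgroup G} {V : L → Subgroup G} {s t n : ℕ}
variable {H M K : Type*} [Group H] [CommGroup M] [MulDistribMulAction H M] [CommGroup K]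

/-- helper712's `Ext` -/
theorem RD.ext {p : X} {l : L} {Sy : Subgroup G} {ρ : G → H} {π : G → M} {ζ : K →* G} {T : Subgroup H}
    {lam U : Subgroup M} {Kh : Subgroup (M →* K)} (F : RD inc R W V p l Sy ρ π ζ T lam U Kh) :
    ∃ κ : G → K, Plug.Ext inc R W V p l ρ π T Kh Sy κ := by
  classical
  have h1 : ∀ a : G, ∃ r : K, a ∈ R p → ζ r = a := by
    intro a
    by_cases ha : a ∈ R p
    · obtain ⟨r, hr⟩ := (F.ran a).1 ha
      exact ⟨r, fun _ => hr⟩
    · exact ⟨1, fun h => absurd h ha⟩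
  choose κ hκ using h1
  refine ⟨κ, F.line, fun y z hy hyp hz hzp => F.tr z y hz hzp hy hyp, F.sy, fun g hg => (F.mT _).2 ⟨g, hg, rfl⟩,
    F.cen, ?_, ?_, ?_⟩
  · intro a ha b hb
    apply F.inj
    rw [map_mul, hκ a ha, hκ b hb, hκ _ (mul_mem ha hb)]
  · intro a ha h
    rw [← hκ a ha, h, map_one]
  · intro φ hφ
    obtain ⟨k, hk, hk'⟩ := F.kh φ hφ
    refine ⟨k, hk, fun w hw => ?_⟩
    have h2 : k * w * k⁻¹ * w⁻¹ ∈ R p := (F.ran _).2 ⟨_, (hk' w hw).symm⟩
    refine ⟨h2, ?_⟩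
    apply F.inj
    rw [hκ _ h2, hk' w hw]

section card

variable {p : X} {ρ : G → H} {π : G → M} (Re : Four.Real R W p ρ π)

theorem card_im {A N : Subgroup G} (hA : A ≤ centralizer (R p : Set G))
    (hN : ∀ a, a ∈ N ↔ a ∈ A ∧ ∀ u ∈ W p, a * u * a⁻¹ * u⁻¹ ∈ R p) :
    Nat.card (im Re A hA) = N.relIndex A := by
  let φ : A →* H := MonoidHom.mk' (fun a => ρ a) (fun a b => Re.mul a (hA a.2) b (hA b.2))
  have hrange : φ.range = im Re A hA := by
    ext h
    constructor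
    · rintro ⟨a, rfl⟩
      exact ⟨a, a.2, rfl⟩
    · rintro ⟨a, ha, rfl⟩
      exact ⟨⟨a, ha⟩, rfl⟩
  have hker : φ.ker = N.subgroupOf A := by
    ext a
    rw [mem_subgroupOf, hN, MonoidHom.mem_ker]
    exact (Re.ker a (hA a.2)).trans ⟨fun h => ⟨a.2, h⟩, fun h => h.2⟩
  rw [← hrange, ← index_ker, hker]
  rfl

theorem index_zm (D : Geom inc R W V s t) {A C : Subgroup G} (hA : A ≤ centralizer (R p : Set G))
    (hC : ∀ u, u ∈ C ↔ u ∈ W p ∧ ∀ a ∈ A, a * u * a⁻¹ * u⁻¹ ∈ R p) :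
    (zm M (im Re A hA)).index = C.relIndex (W p) := by
  let ψ : W p →* M := MonoidHom.mk' (fun a => π a) (fun a b => Re.pmul a a.2 b b.2)
  have hψ : Function.Surjective ψ := fun m => by
    obtain ⟨u, hu, rfl⟩ := Re.psurj m
    exact ⟨⟨u, hu⟩, rfl⟩
  have h1 : (zm M (im Re A hA)).comap ψ = C.subgroupOf (W p) := by
    ext u
    rw [mem_subgroupOf, hC]
    constructor
    · intro h
      refine ⟨u.2, fun a ha => ?_⟩
      rw [comm_mem_iff Re D (hA ha) u.2]
      have h2 : π u ∈ zm M (im Re A hA) := h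
      exact h2 _ (show ρ a ∈ im Re A hA from ⟨a, ha, rfl⟩)
    · rintro ⟨-, h⟩
      show π u ∈ zm M (im Re A hA)
      rintro _ ⟨a, ha, rfl⟩
      exact (comm_mem_iff Re D (hA ha) u.2).1 (h a ha)
  rw [← index_comap_of_surjective _ hψ, h1]
  rfl

end card

/-- **(NO) for all flags.** -/
theorem noOver [Finite G] (D : Geom inc R W V s t) {p : X} {l : L} {ρ : G → H} {π : G → M} {lam U : Subgroup M}
    (F : RF inc R W V p l ρ π lam U) (hflag : ∀ p' l', inc p' l' → ∃ g : G, p' = g • p ∧ l' = g • l)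
    (hNO : NoOv (H := H) lam) : NoOver inc R W V := by
  intro q l' hql A hA hcomm hsq _ hquad N C hN hC
  obtain ⟨g, rfl, rfl⟩ := hflag q l' hql
  have F' := F.smul D g
  have hAR : A ≤ centralizer (R (g • p) : Set G) := hA.trans ((o2_le _).trans (centralizer_le (D.R_le _ _ hql)))
  rw [← card_im F'.re hAR hN, ← index_zm F'.re D hAR hC]
  refine hNO _ (RF.im_le D F' hA hAR) ?_ ?_ ?_
  · rintro _ ⟨a, ha, rfl⟩ _ ⟨b, hb, rfl⟩
    have h1 := F'.re.mul a (hAR ha) b (hAR hb)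
    have h2 := F'.re.mul b (hAR hb) a (hAR ha)
    rw [← h1, ← h2, hcomm a ha b hb]
  · rintro _ ⟨a, ha, rfl⟩
    have h1 := F'.re.mul a (hAR ha) a (hAR ha)
    have h2 := F'.re.one
    rw [← h1, hsq a ha, h2]
  · rintro _ ⟨a, ha, rfl⟩ _ ⟨b, hb, rfl⟩ m
    obtain ⟨u, hu, rfl⟩ := F'.re.psurj m
    have h1 := π_comm F'.re D (hAR ha) hu
    have h2 := F'.re.act b (hAR hb) _ (mul_mem (Four.norm_p D (hAR ha) hu) (inv_mem hu))
    rw [← h1, ← h2]
    congr 1
    rw [hquad a ha b hb u hu, mul_inv_cancel_right]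

end geo

section

variable {G : Type u} [Group G] [Finite G] {S : Sylow 2 G} {P V Z : Subgroup G} (h : PL S P V Z)
include h

/-- an involution fixing a point centralises it -/
theorem inv_fix (p x : Pt Z) (m : Pt V) (_ : inc p m) (_ : inc x m) (_ : x ≠ p) (g : G)
    (_ : g ∈ centralizer (p.sg : Set G)) (hg : g * g = 1) (hx : g • x = x) : ∀ u ∈ x.sg, g * u = u * g := by
  obtain ⟨a, rfl⟩ := x.exists_smul
  have h1 : TwoEl g := ⟨1, by rw [pow_one, pow_two]; exact hg⟩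
  refine (h.conj a).two_cent h1 ?_
  rw [← cj_eq_iff]
  exact congrArg Pt.sg hx

variable (hO : OmQ S V) (hns : normalizer ((S : Subgroup G) : Set G) ≤ normalizer (V : Set G))
  (hq : 4 ≤ Nat.card Z) (hNO : KNO.{u} (fun H _ => Img (centralizer (Z : Set G)) H))
  (hPS : KPS.{u} (fun H _ => Img (centralizer (Z : Set G)) H))
include hO hns hq hNO hPS

/-- **FarQ: there is no critical pair at distance `n ≥ 3`.** -/
theorem far_false {n : ℕ} (hn : 3 ≤ n) {x y : Pt Z}
    (hc : Crit (inc (Z := Z) (V := V)) (fun x : Pt Z => ws V x.sg) n x y) : False := by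
  have hf := hf_of_kin h hns hq (by omega) hc hNO hPS
  have D := geom h hf hO
  obtain ⟨H, M, K, iH, iM, iA, iK, ρ, π, ζ, T, lam, U, Kh, F⟩ := exists_rd h hf hO hns hq
  have hI : Img (centralizer (Z : Set G)) H :=
    ⟨MonoidHom.mk' (fun a => ρ a) (fun a b => F.re.mul a a.2 b b.2), fun x => by
      obtain ⟨g, hg, rfl⟩ := F.re.surj x
      exact ⟨⟨g, hg⟩, rfl⟩⟩
  obtain ⟨Pi, hPi⟩ := hPS H M K T lam hI F.flag.toK F.flag.sqR F.flag.cardR
  obtain ⟨κ, E⟩ := F.ext
  have hflag : ∀ (p' : Pt Z) (l' : Pt V), inc p' l' → ∃ g : G, p' = g • Pt.base Z ∧ l' = g • Pt.base V :=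
    fun p' l' hp => exists_smul_flag h hp
  refine Asm.far D hn (noOver D F.toRF hflag (hNO H M T lam hI F.flag.toK)) ?_ hc
  by_cases hs : Single Pi lam
  · exact Or.inr (Plug.sp D F.toRF hflag F.flag hPi.toPSq hs)
  · exact Or.inl (Plug.ns D F.toRF hflag F.flag hPi.toPSq E (inv_fix h) (by omega) hs)

omit hPS in
/-- **MidQ: for `n = 2` the blocks are `Single`.** -/
theorem mid_single (hf : ¬ kx V Z ≤ centralizer (V : Set G)) {x y : Pt Z}
    (hc : Crit (inc (Z := Z) (V := V)) (fun x : Pt Z => ws V x.sg) 2 x y)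
    {H M K : Type u} [Group H] [CommGroup M] [MulDistribMulAction H M] [CommGroup K] {ρ : G → H} {π : G → M}
    {ζ : K →* G} {T : Subgroup H} {lam U : Subgroup M} {Kh : Subgroup (M →* K)}
    (F : RD (inc (Z := Z) (V := V)) (fun x => x.sg) (fun x => ws V x.sg) (fun l => l.sg) (Pt.base Z) (Pt.base V)
        (S : Subgroup G) ρ π ζ T lam U Kh) {Pi : Set (Subgroup H)} (hPi : PSq K T lam Pi) : Single Pi lam := by
  by_contra hs
  have D := geom h hf hO
  have hI : Img (centralizer (Z : Set G)) H :=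
    ⟨MonoidHom.mk' (fun a => ρ a) (fun a b => F.re.mul a a.2 b b.2), fun x => by
      obtain ⟨g, hg, rfl⟩ := F.re.surj x
      exact ⟨⟨g, hg⟩, rfl⟩⟩
  obtain ⟨κ, E⟩ := F.ext
  have hflag : ∀ (p' : Pt Z) (l' : Pt V), inc p' l' → ∃ g : G, p' = g • Pt.base Z ∧ l' = g • Pt.base V :=
    fun p' l' hp => exists_smul_flag h hp
  exact Asm.mid D (noOver D F.toRF hflag (hNO H M T lam hI F.flag.toK))
    (Plug.ns D F.toRF hflag F.flag hPi E (inv_fix h) le_rfl hs) hc

end

end Cfsg.Agent.Omega.NO3S.FarQ
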