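import Cfsg.Agent.Omega.NO3S.FarQ.Core

/-!
# FarQ, abstract part: the abstract halves of (4.0), (6.1), (6.2) (TEXT 263-Q)

* `PSq.no_alpha` : (6.1) (α): `[M, A] ≤ U` is impossible unless `Single Pi lam`;
* `PSq.no_beta` : (6.1) (β): `C_M(A) ≤ U` is impossible unless `Single Pi lam`;
* `PSq.single` : (6.2): if `Single Pi lam` then every nontrivial element of `[M, A]` lies in some `h • lam`;
* `PSq.sepA` : (4.0), `|τ| ≥ 2`; `PSq.uniq_case` : `|τ| = 1`.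
-/

set_option autoImplicit false

namespace Cfsg.Agent.Omega.NO3S.FarQ

open Subgroup Cfsg.Agent.ZN Cfsg.Agent.Omega.NO3S.PT
open Cfsg.Agent.ClassTwoFusion.Quad (cv mem_cv cv_anti)
open scoped Pointwise

variable {H M R : Type*} [Group H] [CommGroup M] [MulDistribMulAction H M] [CommGroup R]
variable {T : Subgroup H} {lam U : Subgroup M} {Kh : Subgroup (M →* R)} {Pi : Set (Subgroup H)}

namespace PSq

variable (F : Flag T lam U Kh) (hP : PSq R T lam Pi)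
include F hP

omit F in
/-- some block meets `A` -/
theorem exists_block {A : Subgroup H} (hA : Exact lam A) : ∃ J ∈ Pi, A ⊓ J ≠ ⊥ := by
  by_contra hcon
  push Not at hcon
  apply hA.ne
  rw [eq_bot_iff]
  refine (hP.prod A hA).trans ((closure_le _).2 ?_)
  rintro x ⟨J, hJ, hx⟩
  rw [hcon J hJ] at hx
  exact hx

omit F in
/-- If `J` is the only block moving `lam` then `A ≤ J`. -/
theorem le_of_uniq {A : Subgroup H} (hA : Exact lam A) {J : Subgroup H}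
    (huniq : ∀ J' ∈ Pi, ¬ lam ≤ zm M J' → J' = J) : A ≤ J := by
  refine (hP.prod A hA).trans ((closure_le _).2 ?_)
  rintro x ⟨J', hJ', hx⟩
  by_cases h1 : A ⊓ J' = ⊥
  · rw [h1] at hx
    rw [mem_bot.1 hx]
    exact one_mem _
  · rw [← huniq J' hJ' (hP.hit A hA J' hJ' h1)]
    exact hx.2

omit F in
/-- `[[M, J], A ∩ J]` contains an element outside `C_M(J)`. -/
theorem exists_cm {A J : Subgroup H} (hJ : J ∈ Pi) (hAJ : A ⊓ J ≠ ⊥) :
    ∃ e ∈ cm (em M J) (A ⊓ J), e ∉ zm M J := by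
  by_contra hcon
  push Not at hcon
  apply hAJ
  rw [eq_bot_iff]
  intro x hx
  refine mem_bot.2 (hP.faith J hJ x hx.2 fun m => ?_)
  have hm : m ∈ em M J ⊔ zm M J := by rw [hP.cover J hJ]; exact mem_top m
  obtain ⟨e, he, z, hz, rfl⟩ := mem_sup.1 hm
  have h1 : (x • (e * z)) * (e * z)⁻¹ = (x • e) * e⁻¹ := by
    rw [smul_mul', hz x hx.2, mul_inv_rev, mul_assoc, mul_inv_cancel_left]
  rw [h1]
  exact hcon _ (comm_mem_cm hx he)

/-- If `|τ| ≥ 2` then `J` splits off ... -/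
theorem dich {J : Subgroup H} (hJ : J ∈ Pi) (hJl : ¬ lam ≤ zm M J) (hns : ¬ Single Pi lam) :
    (∃ J' ∈ Pi, J' ≠ J ∧ ¬ lam ≤ zm M J') ∨ ((∀ J' ∈ Pi, ¬ lam ≤ zm M J' → J' = J) ∧ tm M J ≠ ⊥) := by
  by_cases h : ∃ J' ∈ Pi, J' ≠ J ∧ ¬ lam ≤ zm M J'
  · exact Or.inl h
  · push Not at h
    have huniq : ∀ J' ∈ Pi, ¬ lam ≤ zm M J' → J' = J := fun J' hJ' h' => by
      by_contra hne
      exact h' (h J' hJ' hne)
    exact Or.inr ⟨huniq, fun ht => hns ⟨J, hJ, le_em F hP hJ hJl huniq, ht⟩⟩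

/-- **(6.1) (α)** -/
theorem no_alpha {A : Subgroup H} (hA : Exact lam A) (hns : ¬ Single Pi lam) (hU : em M A ≤ U) : False := by
  obtain ⟨J, hJ, hAJ⟩ := exists_block hP hA
  have hJl := hP.hit A hA J hJ hAJ
  have hle : cm (em M J) (A ⊓ J) ≤ em M A := cm_mono le_top inf_le_left
  have hle2 : cm (em M J) (A ⊓ J) ≤ em M J := cm_mono le_top inf_le_right
  rcases dich F hP hJ hJl hns with ⟨J', hJ', hne, hJl'⟩ | ⟨huniq, ht⟩
  · obtain ⟨e, he, hez⟩ := exists_cm hP hJ hAJ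
    exact hez (F.not_mem hP hJ' hJ hne hJl' hJl hJ (hU (hle he)) (hle2 he))
  · have h1 := hP.meets A hA J hJ hAJ ht
    apply h1
    rw [eq_bot_iff]
    intro e he
    refine mem_bot.2 (F.inf_zPi hP hJ hJl (hU (hle he.1)) fun K hK => ?_)
    by_cases hKJ : K = J
    · rw [hKJ]; exact he.2
    · exact hP.em_le J hJ K hK (fun h => hKJ h.symm) (hle2 he.1)

omit F in
/-- an element of `[M, J]` centralised by `A ∩ J` is centralised by `A` -/
theorem mem_zm_of {A : Subgroup H} (hA : Exact lam A) {J : Subgroup H} (hJ : J ∈ Pi) {e : M} (he : e ∈ em M J)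
    (hz : e ∈ zm M (A ⊓ J)) : e ∈ zm M A := by
  have h1 : A ≤ MulAction.stabilizer H e := by
    refine (hP.prod A hA).trans ((closure_le _).2 ?_)
    rintro x ⟨K, hK, hx⟩
    by_cases hKJ : K = J
    · rw [hKJ] at hx
      exact hz x hx
    · exact hP.em_le J hJ K hK (fun h => hKJ h.symm) he x hx.2
  exact fun x hx => h1 hx

/-- **(6.1) (β)** -/
theorem no_beta {A : Subgroup H} (hA : Exact lam A) (hns : ¬ Single Pi lam) (hU : zm M A ≤ U) : False := by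
  obtain ⟨J, hJ, hAJ⟩ := exists_block hP hA
  have hJl := hP.hit A hA J hJ hAJ
  have hle2 : cm (em M J) (A ⊓ J) ≤ em M J := cm_mono le_top inf_le_right
  rcases dich F hP hJ hJl hns with ⟨J', hJ', hne, hJl'⟩ | ⟨huniq, ht⟩
  · obtain ⟨e, he, hez⟩ := exists_cm hP hJ hAJ
    -- quadratic action
    have h1 : cm (em M J) (A ⊓ J) ≤ zm M (A ⊓ J) := by
      refine cm_le fun a ha m _ b hb => hA.quad a ha.1 b hb.1 m
    exact hez (F.not_mem hP hJ' hJ hne hJl' hJl hJ (hU (mem_zm_of hP hA hJ (hle2 he) (h1 he))) (hle2 he))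
  · apply ht
    rw [eq_bot_iff]
    intro e he
    have h1 : e ∈ zm M (A ⊓ J) := zm_anti inf_le_right he.2
    refine mem_bot.2 (F.inf_zPi hP hJ hJl (hU (mem_zm_of hP hA hJ he.1 h1)) fun K hK => ?_)
    by_cases hKJ : K = J
    · rw [hKJ]; exact he.2
    · exact hP.em_le J hJ K hK (fun h => hKJ h.symm) he.1

/-- **(6.2)** -/
theorem single (hs : Single Pi lam) {A : Subgroup H} (hA : Exact lam A) {e : M} (he : e ∈ em M A) (he1 : e ≠ 1) :
    ∃ h : H, ∃ a ∈ lam, h • a = e := by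
  obtain ⟨J, hJ, hlJ, ht⟩ := hs
  have huniq : ∀ J' ∈ Pi, ¬ lam ≤ zm M J' → J' = J := fun J' hJ' h' => by
    by_contra hne
    exact h' (hlJ.trans (hP.em_le J hJ J' hJ' fun h => hne h.symm))
  have hAJ : A ≤ J := le_of_uniq hP hA huniq
  have h1 : A ⊓ J ≠ ⊥ := by rw [inf_eq_left.2 hAJ]; exact hA.ne
  obtain ⟨a, ha, ha1⟩ := F.exists_ne
  obtain ⟨j, -, hj⟩ := hP.trans A hA J hJ h1 ht a (hlJ ha) e (cm_mono le_rfl hAJ he) ha1 he1
  exact ⟨j, a, ha, hj⟩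

/-- **(4.0), `|τ| ≥ 2`**: `(g, α)` of type A separates. -/
theorem sepA {A : Subgroup H} {J J' : Subgroup H} (hJ : J ∈ Pi) (hJl : ¬ lam ≤ zm M J)
    (hJ' : J' ∈ Pi) (hne : J' ≠ J) (hJl' : ¬ lam ≤ zm M J') {g α : H} (hg : g ∈ J) (hα : α ∈ J)
    (hgood : GoodA R lam A J g α) {a : M} (ha : a ∈ lam) (ha1 : a ≠ 1) :
    ∃ φ ∈ Kh, ∃ h ∈ oj lam A J, φ (g • a) = 1 ∧ φ ((α • g • a) * (g • a)⁻¹) = 1 ∧
      φ (((g * h * g⁻¹) • ((α • g • a) * (g • a)⁻¹)) * ((α • g • a) * (g • a)⁻¹)⁻¹) ≠ 1 := by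
  obtain ⟨φ, hφ, h, hh, h1, h2⟩ := hgood (kj Kh J) (kj_ne_bot F hP hJ hJ hJl) (fun φ hφ j hj => kj_inv F hφ hj)
    (fun φ hφ => hφ.2) a ha ha1
  -- `ψ ∈ Kh_{J'}` with `ψ a = φ (g a)`
  obtain ⟨χ, hχ, hχφ⟩ := kj_inv F hφ hg
  obtain ⟨ψ, hψ, hψa⟩ := kj_transfer F hP hJ hJl hJ' hJl' ha hχ
  rw [hχφ] at hψa
  have hJψ : ∀ x ∈ J, ∀ m : M, ψ (x • m) = ψ m := by
    intro x hx m
    have h3 := hψ.2 _ (hP.em_le J hJ J' hJ' hne.symm (comm_mem_em hx m))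
    rw [map_mul, map_inv, mul_inv_eq_one] at h3
    exact h3
  have hoj : oj lam A J ≤ J := by
    refine (closure_le _).2 ?_
    rintro x ⟨c, hc, y, hy, rfl⟩
    exact mul_mem (mul_mem hc.1 hy.2) (inv_mem hc.1)
  have hgh : g * h * g⁻¹ ∈ J := mul_mem (mul_mem hg (hoj hh)) (inv_mem hg)
  refine ⟨φ * ψ⁻¹, mul_mem hφ.1 (inv_mem hψ.1), h, hh, ?_, ?_, ?_⟩
  · rw [MonoidHom.mul_apply, MonoidHom.inv_apply, hJψ g hg, hψa, mul_inv_cancel]
  · rw [MonoidHom.mul_apply, MonoidHom.inv_apply, h1, map_mul, map_inv, hJψ α hα, mul_inv_cancel, one_mul, inv_one]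
  · rw [MonoidHom.mul_apply, MonoidHom.inv_apply]
    have h3 : ψ (((g * h * g⁻¹) • ((α • g • a) * (g • a)⁻¹)) * ((α • g • a) * (g • a)⁻¹)⁻¹) = 1 := by
      rw [map_mul, map_inv, hJψ _ hgh, mul_inv_cancel]
    rw [h3, inv_one, mul_one]
    exact h2

/-- **(4.0), `|τ| = 1`, nonsplit**: the hypotheses of `GoodB`. -/
theorem uniq_case {A : Subgroup H} (hA : Exact lam A) {J : Subgroup H} (hJ : J ∈ Pi) (hJl : ¬ lam ≤ zm M J)
    (huniq : ∀ J' ∈ Pi, ¬ lam ≤ zm M J' → J' = J) :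
    A ≤ J ∧ lam ≤ em M J ∧ ∀ t ∈ T, cj t J = J :=
  ⟨le_of_uniq hP hA huniq, le_em F hP hJ hJl huniq, cj_eq_of_uniq F hP hJ hJl huniq⟩

end PSq

end Cfsg.Agent.Omega.NO3S.FarQ
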