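import Cfsg.Agent.Omega.NO3S.FarQ.Abs
import Cfsg.Agent.Omega.NO3S.FarQ.Theta

/-!
# (F1) for `q ≥ 4`, abstract part (bb OMEGA #15867, proof with UNIQ)

`H` acts on `W = W_p` and on `M = W_p / R`, `R = p` (in the situation `¬ (F1)`: `K_p = C_G(W_p)`).

* `Dat T V R π` : the K-free data;
* `KDat T A J lam Pi` : the K-input for one exact offender `A` and one block `J` (fields of `PSq`, and `pf`, `cent`);
* `false_of` : the contradiction.
-/

set_option autoImplicit false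

namespace Cfsg.Agent.Omega.NO3S.FarQ.FOneAbs

open Subgroup Cfsg.Agent.ZN Cfsg.Agent.Omega.NO3S.PT Cfsg.Agent.Omega.NO3S.FarQ
open Cfsg.Agent.ClassTwoFusion.Quad (cv mem_cv cv_anti)
open scoped Pointwise

variable {H W M : Type*} [Group H] [CommGroup W] [MulDistribMulAction H W] [CommGroup M]
  [MulDistribMulAction H M]

/-- The K-free data. -/
structure Dat (T : Subgroup H) (V R : Subgroup W) (π : W →* M) : Prop where
  finH : Finite H
  ker : ∀ w, π w = 1 ↔ w ∈ R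
  equi : ∀ (h : H) (w : W), π (h • w) = h • π w
  fixR : ∀ (h : H), ∀ r ∈ R, h • r = r
  act : ∀ t ∈ T, ∀ v ∈ V, (t • v) * v⁻¹ ∈ R
  RV : R ≤ V
  free : ∀ t ∈ T, ∀ v ∈ V, v ∉ R → t • v = v → ∀ u ∈ V, t • u = u
  ne : ∃ t ∈ T, ∃ v ∈ V, t • v ≠ v
  /-- from UNIQ: `N_G(S) ≤ N_G(V)` -/
  norm : ∀ h ∈ normalizer (T : Set H), ∀ v ∈ V, h • v ∈ V

/-- The K-input for one exact offender `A` and one block `J`. -/
structure KDat (T A J : Subgroup H) (lam : Subgroup M) (Pi : Set (Subgroup H)) : Prop where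
  mem : J ∈ Pi
  conj : ∀ J ∈ Pi, ∀ h : H, cj h J ∈ Pi
  comm : ∀ J ∈ Pi, ∀ J' ∈ Pi, J ≠ J' → ∀ x ∈ J, ∀ y ∈ J', x * y = y * x
  em_le : ∀ J ∈ Pi, ∀ J' ∈ Pi, J ≠ J' → em M J ≤ zm M J'
  pf : J ≤ ⁅J, J⁆
  tor : ∃ θ ∈ J, (∀ t ∈ T, cj t J = J → t * θ * t⁻¹ * θ⁻¹ ∈ T ⊓ J) ∧
    ∀ a ∈ lam, (θ • a) * a⁻¹ ∈ zm M J → a = 1
  prod : A ≤ closure {x | ∃ J ∈ Pi, x ∈ A ⊓ J}
  cent : T ⊓ J ≤ A ∨ ∃ C ≤ J, T ⊓ J ≤ ⁅C, C⁆ ∧
    ∀ m ∈ em M J, (∀ t ∈ T ⊓ J, t • m = m) → ∀ c ∈ C, (c • m) * m⁻¹ ∈ zm M J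

/-- If `C` centralises `Y` and `[w, C] ≤ Y`, then `C'` centralises `w`. -/
theorem commutator_le_stabilizer {C : Subgroup H} {w : W} {Y : Subgroup W} (hY : ∀ c ∈ C, ∀ y ∈ Y, c • y = y)
    (h : ∀ c ∈ C, (c • w) * w⁻¹ ∈ Y) : ⁅C, C⁆ ≤ MulAction.stabilizer H w := by
  have key : ∀ c ∈ C, ∀ d ∈ C, (c * d) • w = (d * c) • w := by
    have h1 : ∀ c ∈ C, ∀ d ∈ C, (c * d) • w = ((d • w) * w⁻¹) * (c • w) := by
      intro c hc d hd
      have e : d • w = ((d • w) * w⁻¹) * w := by group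
      rw [mul_smul]
      nth_rewrite 1 [e]
      rw [smul_mul', hY c hc _ (h d hd)]
    intro c hc d hd
    rw [h1 c hc d hd, h1 d hd c hc, mul_right_comm, mul_right_comm (c • w), mul_comm (d • w)]
  rw [commutator_le]
  intro c hc d hd
  rw [MulAction.mem_stabilizer_iff, commutatorElement_def]
  have e1 : (c * d * c⁻¹ * d⁻¹) • w = (c * d) • ((c⁻¹ * d⁻¹) • w) := by rw [← mul_smul]; congr 1; group
  rw [e1, key c⁻¹ (C.inv_mem hc) d⁻¹ (C.inv_mem hd), ← mul_smul]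
  have e2 : c * d * (d⁻¹ * c⁻¹) = 1 := by group
  rw [e2, one_smul]

/-- `{h : [M, h] ≤ N}` -/
def kk (N : Subgroup M) : Subgroup H where
  carrier := {h | ∀ m : M, (h • m) * m⁻¹ ∈ N}
  one_mem' := fun m => by rw [one_smul, mul_inv_cancel]; exact one_mem _
  mul_mem' := by
    intro a b ha hb m
    have e : ((a * b) • m) * m⁻¹ = ((a • (b • m)) * (b • m)⁻¹) * ((b • m) * m⁻¹) := by
      rw [mul_smul]; group
    rw [e]
    exact mul_mem (ha _) (hb _)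
  inv_mem' := by
    intro a ha m
    have h1 := N.inv_mem (ha (a⁻¹ • m))
    rw [smul_inv_smul, mul_inv_rev, inv_inv] at h1
    exact h1

theorem mem_kk {N : Subgroup M} {h : H} : h ∈ kk N ↔ ∀ m : M, (h • m) * m⁻¹ ∈ N := Iff.rfl

theorem comm_mem_em {J : Subgroup H} {j : H} (hj : j ∈ J) (m : M) : (j • m) * m⁻¹ ∈ em M J :=
  subset_closure ⟨j, hj, m, mem_top m, rfl⟩

namespace Dat

variable {T A J : Subgroup H} {V R : Subgroup W} {π : W →* M} {Pi : Set (Subgroup H)}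
variable (D : Dat T V R π) (K : KDat T A J (V.map π) Pi)

include D

/-- a perfect `J` centralises the preimage of `C_M(J)` -/
theorem fix_of_zm {J : Subgroup H} (pf : J ≤ ⁅J, J⁆) {w : W} (hw : π w ∈ zm M J) {j : H} (hj : j ∈ J) :
    j • w = w := by
  refine (pf.trans (commutator_le_stabilizer (Y := R) (fun c _ y hy => D.fixR c y hy) fun c hc => ?_)) hj
  rw [← D.ker, map_mul, map_inv, D.equi, mem_cv.1 hw c hc, mul_inv_cancel]

theorem em_map {J : Subgroup H} {w : W} (hw : w ∈ em W J) : π w ∈ em M J := by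
  have h1 : em W J ≤ (em M J).comap π := by
    rw [em, cm, closure_le]
    rintro _ ⟨j, hj, m, -, rfl⟩
    show π ((j • m) * m⁻¹) ∈ em M J
    rw [map_mul, map_inv, D.equi]
    exact comm_mem_em hj _
  exact h1 hw

theorem smul_mem {t : H} (ht : t ∈ T) {v : W} (hv : v ∈ V) : t • v ∈ V := by
  have h1 := V.mul_mem (D.RV (D.act t ht v hv)) hv
  rwa [inv_mul_cancel_right] at h1

include K

/-- `T ∩ J` centralises the elements of `[W, J]` which it centralises modulo `R`. -/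
theorem claim (hAT : A ≤ T) (hex : ∀ w : W, (∀ a ∈ A, a • π w = π w) → ∀ a ∈ A, a • w = w) {u : W}
    (hu : u ∈ em W J) (huR : ∀ t ∈ T ⊓ J, (t • u) * u⁻¹ ∈ R) : ∀ t ∈ T ⊓ J, t • u = u := by
  have hπ : ∀ t ∈ T ⊓ J, t • π u = π u := by
    intro t ht
    have h1 := (D.ker _).2 (huR t ht)
    rwa [map_mul, map_inv, D.equi, mul_inv_eq_one] at h1
  rcases K.cent with h | ⟨C, hC, hTC, hm⟩
  · have h1 : A ≤ MulAction.stabilizer H (π u) := by
      refine K.prod.trans ?_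
      rw [closure_le]
      rintro x ⟨J', hJ', hx, hxJ⟩
      show x • π u = π u
      by_cases e : J' = J
      · rw [e] at hxJ
        exact hπ x ⟨hAT hx, hxJ⟩
      · exact mem_cv.1 (K.em_le J K.mem J' hJ' (Ne.symm e) (D.em_map hu)) x hxJ
    intro t ht
    exact hex u (fun a ha => h1 ha) t (h ht)
  · intro t ht
    refine commutator_le_stabilizer (Y := cv W (J : Set H)) (fun c hc y hy => mem_cv.1 hy c (hC hc))
      (fun c hc => ?_) (hTC ht)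
    rw [mem_cv]
    intro j hj
    refine D.fix_of_zm K.pf ?_ hj
    rw [map_mul, map_inv, D.equi]
    exact hm (π u) (D.em_map hu) hπ c hc

/-- **(F1) for `q ≥ 4`, the abstract contradiction.** -/
theorem false_of (hAT : A ≤ T) (hex : ∀ w : W, (∀ a ∈ A, a • π w = π w) → ∀ a ∈ A, a • w = w) : False := by
  have := D.finH
  obtain ⟨θ, hθ, hθT, hθl⟩ := K.tor
  obtain ⟨θ', hθ', hcomm⟩ := Theta.exists_theta hθ (fun s _ t _ hne x hx y hy =>
    K.comm _ (K.conj J K.mem s) _ (K.conj J K.mem t) hne x hx y hy) hθT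
  set T₀ : Subgroup H := closure {x : H | ∃ s ∈ T, x ∈ T ⊓ cj s J} with hT₀
  set Θ : H := θ * θ' with hΘ
  have hT₀T : T₀ ≤ T := by
    rw [hT₀, closure_le]
    rintro x ⟨s, -, hx⟩
    exact hx.1
  -- `Θ` normalises `T`
  have hΘN : Θ ∈ normalizer (T : Set H) := by
    have h1 : cj Θ T ≤ T := by
      intro x hx
      have hx' : Θ⁻¹ * x * Θ ∈ T := mem_cj.1 hx
      have h2 := hT₀T (hcomm _ (T.inv_mem hx'))
      have h3 := T.mul_mem hx' h2
      have e : Θ⁻¹ * x * Θ * ((Θ⁻¹ * x * Θ)⁻¹ * Θ * (Θ⁻¹ * x * Θ)⁻¹⁻¹ * Θ⁻¹) = x := by group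
      rwa [e] at h3
    exact cj_eq_iff.1 (eq_of_le_of_card_ge h1 (card_cj Θ T).ge)
  -- `θ'` is trivial modulo `C_M(J)`
  have hθ'k : θ' ∈ (kk (zm M J) : Subgroup H) := by
    have h1 : closure {x : H | ∃ t ∈ T, cj t J ≠ J ∧ x ∈ cj t J} ≤ kk (zm M J) := by
      rw [closure_le]
      rintro x ⟨t, -, hne, hx⟩
      exact fun m => K.em_le _ (K.conj J K.mem t) J K.mem hne (comm_mem_em hx m)
    exact h1 hθ'
  have hV : ∀ v ∈ V, Θ • v ∈ V := D.norm Θ hΘN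
  -- `Θ` has no fixed point on `V / R`
  have hfree : ∀ v ∈ V, (Θ • v) * v⁻¹ ∈ R → v ∈ R := by
    intro v hv hvR
    have h1 : Θ • π v = π v := by
      have := (D.ker _).2 hvR
      rwa [map_mul, map_inv, D.equi, mul_inv_eq_one] at this
    rw [← D.ker]
    refine hθl _ (mem_map_of_mem π hv) ?_
    have h2 : (θ' • π v) * (π v)⁻¹ ∈ zm M J := hθ'k (π v)
    set z := (θ' • π v) * (π v)⁻¹ with hz
    have e : θ' • π v = z * π v := by rw [hz, inv_mul_cancel_right]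
    rw [hΘ, mul_smul, e, smul_mul', mem_cv.1 h2 θ hθ] at h1
    have e2 : (θ • π v) * (π v)⁻¹ = z⁻¹ := by
      rw [mul_inv_eq_iff_eq_mul, eq_inv_mul_iff_mul_eq]
      exact h1
    rw [e2]
    exact inv_mem h2
  -- `T ∩ J` centralises `[V, Θ]`
  have hTJ : ∀ v ∈ V, ∀ t ∈ T ⊓ J, t • ((Θ • v) * v⁻¹) = (Θ • v) * v⁻¹ := by
    intro v hv t ht
    have huV : (Θ • v) * v⁻¹ ∈ V := V.mul_mem (hV v hv) (V.inv_mem hv)
    have e : (Θ • v) * v⁻¹ = ((θ • (θ' • v)) * (θ' • v)⁻¹) * ((θ' • v) * v⁻¹) := by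
      rw [hΘ, mul_smul]; group
    set a := (θ • (θ' • v)) * (θ' • v)⁻¹ with ha
    set b := (θ' • v) * v⁻¹ with hb
    have haJ : a ∈ em W J := comm_mem_em hθ _
    have hbJ : ∀ j ∈ J, j • b = b := by
      intro j hj
      refine D.fix_of_zm K.pf ?_ hj
      rw [hb, map_mul, map_inv, D.equi]
      exact hθ'k (π v)
    have h1 : ∀ t ∈ T ⊓ J, t • a = a := by
      refine D.claim K hAT hex haJ fun s hs => ?_
      have h2 := D.act s hs.1 _ huV
      have h3 : (s • ((Θ • v) * v⁻¹)) * ((Θ • v) * v⁻¹)⁻¹ = (s • a) * a⁻¹ := by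
        rw [e, smul_mul', hbJ s hs.2]
        rw [mul_inv_rev, mul_assoc, mul_inv_cancel_left]
      rwa [h3] at h2
    rw [e, smul_mul', hbJ t ht.2, h1 t ht]
  -- an element `u = [v, Θ]` not in `R`
  obtain ⟨t₀, ht₀, v, hv, htv⟩ := D.ne
  have hvR : v ∉ R := fun h => htv (D.fixR t₀ v h)
  set u := (Θ • v) * v⁻¹ with hu
  have huV : u ∈ V := V.mul_mem (hV v hv) (V.inv_mem hv)
  have huR : u ∉ R := fun h => hvR (hfree v hv h)
  have hTJV : ∀ t ∈ T ⊓ J, ∀ x ∈ V, t • x = x := fun t ht =>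
    D.free t ht.1 u huV huR (hTJ v hv t ht)
  -- `T₀` centralises `V`
  have hT₀V : T₀ ≤ (fixer V : Subgroup H) := by
    rw [hT₀, closure_le]
    rintro x ⟨s, hs, hxT, hxJ⟩
    intro y hy
    have h1 : s⁻¹ * x * s ∈ T ⊓ J := ⟨T.mul_mem (T.mul_mem (T.inv_mem hs) hxT) hs, mem_cj.1 hxJ⟩
    have h2 := hTJV _ h1 _ (D.smul_mem (T.inv_mem hs) hy)
    have h3 := congrArg (fun w => s • w) h2
    simp only [smul_inv_smul] at h3
    rw [← mul_smul, ← mul_smul] at h3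
    have e : s * (s⁻¹ * x * s) * s⁻¹ = x := by group
    rwa [e] at h3
  -- so `T` centralises `u`
  have hfin : ∀ t ∈ T, t • u = u := by
    intro t ht
    have h1 : (t * Θ * t⁻¹ * Θ⁻¹ * (Θ * t)) • v = (Θ * t) • v := by
      rw [mul_smul _ (Θ * t), mul_smul Θ t]
      exact hT₀V (hcomm t ht) (Θ • (t • v)) (hV _ (D.smul_mem ht hv))
    have e : t * Θ * t⁻¹ * Θ⁻¹ * (Θ * t) = t * Θ := by group
    rw [e] at h1
    have h2 : t • (Θ • v) = Θ • (t • v) := by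
      rw [← mul_smul, ← mul_smul]
      exact h1
    set ρ := (t • v) * v⁻¹ with hρ
    have hρR : ρ ∈ R := D.act t ht v hv
    have e3 : t • v = ρ * v := by rw [hρ, inv_mul_cancel_right]
    rw [hu, smul_mul', smul_inv', h2, e3, smul_mul', D.fixR Θ ρ hρR, mul_inv_rev]
    calc ρ * Θ • v * (v⁻¹ * ρ⁻¹) = (ρ * ρ⁻¹) * (Θ • v * v⁻¹) := by
          rw [mul_comm v⁻¹, ← mul_assoc, mul_assoc ρ, mul_comm (Θ • v), ← mul_assoc, mul_assoc]
      _ = Θ • v * v⁻¹ := by rw [mul_inv_cancel, one_mul]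
  exact htv (D.free t₀ ht₀ u huV huR (hfin t₀ ht₀) v hv)

end Dat

end Cfsg.Agent.Omega.NO3S.FarQ.FOneAbs
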