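import Cfsg.Agent.Omega.NOThree.LemmaM

/-!
# TEXT 263-Q, (4.0): the `G`-side

`Geom inc R W V s t` : points and lines (`NOThree/Pts.lean`); `p` a point, `M = W_p / R_p`, `H = C_G(R_p) / K_p`.

* `Real R W p ρ π` : `ρ : G → H` is multiplicative on `C_G(R_p)`, surjective, with kernel `K_p`; `π : G → M` is
  multiplicative on `W_p` with kernel `R_p`; `π (g w g⁻¹) = ρ g • π w`;
* `Flag D ..` : a point `x₁ ≠ p` of a line `l` on `p`, a point `q` whose `W_q` centralises `R_p` and `W_{x₁}`, `K_p`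
  transitive on the points `≠ p` of `l`; `V_l = R_p R_{x₁}`;
* `Real.cover` : every element of `⟨β^c : β ∈ ρ(W_q), c ∈ C_H(V_l / R_p)⟩` is induced by an element of `C_G(R_p)` which
  centralises `W_{x₁}`;
* **(4.0)** `Real.low` : `x = g x₁`, `f ∈ W_q`, `h` in the conjugate by `g` of this group, `g'` an element of `C_G(R_p)`
  which centralises the vectors over `w = g a`, `c = [w, f]`, but not those over `[c, h]` : `W_x ∩ W_{x^f} ≤ W_p`;
* **(4.0)(iii)(b)** `Real.exists_mov`.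
-/

set_option autoImplicit false

namespace Cfsg.Agent.Omega.NO3S.FarQ.Four

open Subgroup Cfsg Cfsg.Agent.ZN Cfsg.Agent.MinSimple.VModule Cfsg.Agent.Omega.NOThree.Pts

variable {G X L : Type*} [Group G] [MulAction G X] [MulAction G L]
variable {inc : X → L → Prop} {R W : X → Subgroup G} {V : L → Subgroup G} {s t n : ℕ}
variable {H M : Type*} [Group H] [CommGroup M] [MulDistribMulAction H M]

/-- The action of `C_G(R_p)` on `W_p / R_p`. -/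
structure Real (R W : X → Subgroup G) (p : X) (ρ : G → H) (π : G → M) : Prop where
  mul : ∀ g ∈ centralizer (R p : Set G), ∀ h ∈ centralizer (R p : Set G), ρ (g * h) = ρ g * ρ h
  surj : ∀ x : H, ∃ g ∈ centralizer (R p : Set G), ρ g = x
  ker : ∀ g ∈ centralizer (R p : Set G), ρ g = 1 ↔ ∀ w ∈ W p, g * w * g⁻¹ * w⁻¹ ∈ R p
  pmul : ∀ v ∈ W p, ∀ w ∈ W p, π (v * w) = π v * π w
  psurj : ∀ m : M, ∃ w ∈ W p, π w = m
  pker : ∀ w ∈ W p, π w = 1 ↔ w ∈ R p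
  act : ∀ g ∈ centralizer (R p : Set G), ∀ w ∈ W p, π (g * w * g⁻¹) = ρ g • π w

/-- The line `l` with its points `p`, `x₁` and the group `W_q`. -/
structure Flag (inc : X → L → Prop) (R W : X → Subgroup G) (V : L → Subgroup G) (p x₁ q : X) (l : L) : Prop where
  pl : inc p l
  xl : inc x₁ l
  ne : x₁ ≠ p
  cen : ∀ f ∈ W q, f ∈ centralizer (R p : Set G)
  com : ∀ f ∈ W q, ∀ w ∈ W x₁, f * w = w * f
  line : ∀ v ∈ V l, ∃ r ∈ R p, ∃ r' ∈ R x₁, v = r * r'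
  tr : ∀ y, inc y l → y ≠ p → ∃ k ∈ centralizer (R p : Set G), (∀ w ∈ W p, k * w * k⁻¹ * w⁻¹ ∈ R p) ∧ k • y = x₁

/-- `R_x ≤ W_p` for `x` on a line on `p`. -/
theorem R_le_Wp (D : Geom inc R W V s t) {p x : X} {m : L} (hx : inc x m) (hp : inc p m) : R x ≤ W p :=
  (D.R_le x m hx).trans (D.V_le p m hp)

/-- The image `lam` of `V_l`. -/
def Lam (π : G → M) (V : L → Subgroup G) (l : L) : Set M := π '' (V l : Set G)

theorem fix_p (D : Geom inc R W V s t) {p : X} {g : G} (hg : g ∈ centralizer (R p : Set G)) : g • p = p :=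
  D.fix_of_centralizes fun a ha => (mem_centralizer_iff.1 hg a ha).symm

theorem norm_p (D : Geom inc R W V s t) {p : X} {g w : G} (hg : g ∈ centralizer (R p : Set G)) (hw : w ∈ W p) :
    g * w * g⁻¹ ∈ W p :=
  D.norm_W (fix_p D hg) hw

namespace Real

variable {p : X} {ρ : G → H} {π : G → M} (Re : Real R W p ρ π)
include Re

theorem one : ρ 1 = 1 := by
  have h := Re.mul 1 (one_mem _) 1 (one_mem _)
  rw [mul_one] at h
  exact left_eq_mul.1 h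

theorem inv {g : G} (hg : g ∈ centralizer (R p : Set G)) : ρ g⁻¹ = (ρ g)⁻¹ := by
  have h := Re.mul g hg g⁻¹ (inv_mem hg)
  rw [mul_inv_cancel, Re.one] at h
  exact (inv_eq_of_mul_eq_one_right h.symm).symm

theorem conj {g h : G} (hg : g ∈ centralizer (R p : Set G)) (hh : h ∈ centralizer (R p : Set G)) :
    ρ (g * h * g⁻¹) = ρ g * ρ h * (ρ g)⁻¹ := by
  rw [Re.mul _ (mul_mem hg hh) _ (inv_mem hg), Re.mul g hg h hh, Re.inv hg]

variable (D : Geom inc R W V s t)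
include D

variable {x₁ q : X} {l : L} (F : Flag inc R W V p x₁ q l)
include F

/-- A vector of `lam` is the image of an element of `R_{x₁}`. -/
theorem exists_lift {a : M} (ha : a ∈ Lam π V l) : ∃ r ∈ R x₁, π r = a := by
  obtain ⟨v, hv, rfl⟩ := ha
  obtain ⟨r, hr, r', hr', rfl⟩ := F.line v hv
  refine ⟨r', hr', ?_⟩
  have h1 := D.R_le_W p hr
  have h2 := R_le_Wp D F.xl F.pl hr'
  rw [Re.pmul _ h1 _ h2, (Re.pker r h1).2 hr, one_mul]

/-- An element of `C_G(R_p)` inducing `c ∈ C_H(lam)` can be corrected by `K_p` to fix `x₁`. -/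
theorem exists_fix {c : H} (hc : ∀ a ∈ Lam π V l, c • a = a) :
    ∃ g ∈ centralizer (R p : Set G), ρ g = c ∧ g • x₁ = x₁ := by
  obtain ⟨g, hg, rfl⟩ := Re.surj c
  obtain ⟨a, ha, ha1⟩ := D.exists_ne x₁
  have haW := R_le_Wp D F.xl F.pl ha
  have haV := D.R_le x₁ l F.xl ha
  -- `g a g⁻¹ a⁻¹ ∈ R_p`
  have h1 : g * a * g⁻¹ * a⁻¹ ∈ R p := by
    have h2 := norm_p D hg haW
    refine (Re.pker _ (mul_mem h2 (inv_mem haW))).1 ?_
    have h3 := Re.pmul a haW a⁻¹ (inv_mem haW)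
    rw [mul_inv_cancel, (Re.pker 1 (one_mem _)).2 (one_mem _)] at h3
    rw [Re.pmul _ h2 _ (inv_mem haW), Re.act g hg a haW, hc _ ⟨a, haV, rfl⟩, ← h3]
  have h2 : g * a * g⁻¹ ∈ V l := by
    have h3 := mul_mem (D.R_le p l F.pl h1) haV
    rwa [inv_mul_cancel_right] at h3
  obtain ⟨y, hy, hay⟩ := D.cover l _ h2
  have h3 : g • x₁ = y := D.ti _ _ _ (D.R_smul g x₁ a ha) hay fun h0 => ha1 (conj_eq_one_iff.1 h0)
  have hyp : y ≠ p := by
    rintro rfl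
    apply F.ne
    have h4 : g • x₁ = g • y := by rw [h3, fix_p D hg]
    exact smul_left_cancel g h4
  obtain ⟨k, hk, hk1, hk2⟩ := F.tr y hy hyp
  refine ⟨k * g, mul_mem hk hg, ?_, by rw [mul_smul, h3, hk2]⟩
  rw [Re.mul k hk g hg, (Re.ker k hk).2 hk1, one_mul]

/-- **The group `Om_{x₁}`**: elements of `⟨β^c⟩` are induced by elements centralising `W_{x₁}`. -/
theorem cover {h : H} (hh : h ∈ Subgroup.closure {h : H | ∃ f ∈ W q, ∃ c : H, (∀ a ∈ Lam π V l, c • a = a) ∧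
    h = c * ρ f * c⁻¹}) : ∃ o ∈ centralizer (R p : Set G), ρ o = h ∧ ∀ w ∈ W x₁, o * w = w * o := by
  refine Subgroup.closure_induction (p := fun h _ => ∃ o ∈ centralizer (R p : Set G), ρ o = h ∧
    ∀ w ∈ W x₁, o * w = w * o) ?_ ?_ ?_ ?_ hh
  · rintro _ ⟨f, hf, c, hc, rfl⟩
    obtain ⟨g, hg, rfl, hgx⟩ := Re.exists_fix D F hc
    refine ⟨g * f * g⁻¹, mul_mem (mul_mem hg (F.cen f hf)) (inv_mem hg), Re.conj hg (F.cen f hf), fun w hw => ?_⟩
    have h1 : g⁻¹ * w * g ∈ W x₁ := by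
      rw [← D.W_smul_iff, hgx]
      exact hw
    have h2 := F.com f hf _ h1
    calc g * f * g⁻¹ * w = g * (f * (g⁻¹ * w * g)) * g⁻¹ := by group
      _ = g * ((g⁻¹ * w * g) * f) * g⁻¹ := by rw [h2]
      _ = w * (g * f * g⁻¹) := by group
  · exact ⟨1, one_mem _, Re.one, fun w _ => by rw [one_mul, mul_one]⟩
  · rintro _ _ _ _ ⟨o, ho, rfl, h1⟩ ⟨o', ho', rfl, h2⟩
    refine ⟨o * o', mul_mem ho ho', Re.mul o ho o' ho', fun w hw => ?_⟩
    rw [mul_assoc, h2 w hw, ← mul_assoc, h1 w hw, mul_assoc]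
  · rintro _ _ ⟨o, ho, rfl, h1⟩
    refine ⟨o⁻¹, inv_mem ho, Re.inv ho, fun w hw => ?_⟩
    have h2 := h1 w hw
    calc o⁻¹ * w = o⁻¹ * (w * o) * o⁻¹ := by group
      _ = o⁻¹ * (o * w) * o⁻¹ := by rw [h2]
      _ = w * o⁻¹ := by group

/-- **(4.0)** : `D = W_x ∩ W_{x^f} ≤ W_p` for `x = g x₁`. `g'` centralises the vectors over `w = ρ(g) a` and over
`c = (ρ(f) w) w⁻¹`, but not those over `(h c) c⁻¹`. -/
theorem low {a : M} (ha : a ∈ Lam π V l) (ha1 : a ≠ 1) {g f : G} (hg : g ∈ centralizer (R p : Set G))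
    (hf : f ∈ W q) {h : H} (hh : (ρ g)⁻¹ * h * ρ g ∈ Subgroup.closure {h : H | ∃ f ∈ W q, ∃ c : H,
      (∀ a ∈ Lam π V l, c • a = a) ∧ h = c * ρ f * c⁻¹})
    {w c : M} (hw : w = ρ g • a) (hc : c = (ρ f • w) * w⁻¹) {g' : G} (hg' : g' ∈ centralizer (R p : Set G))
    (h1 : ∀ u ∈ W p, π u = w → g' * u = u * g') (h2 : ∀ u ∈ W p, π u = c → g' * u = u * g')
    (h3 : ∀ u ∈ W p, π u = (h • c) * c⁻¹ → g' * u * g'⁻¹ * u⁻¹ ∈ R p ∧ g' * u ≠ u * g') :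
    inc (g • x₁) (g • l) ∧ inc p (g • l) ∧ g • x₁ ≠ p ∧
      W (g • x₁) ⊓ W (f • g • x₁) ≤ W p := by
  obtain ⟨r, hr, hra⟩ := Re.exists_lift D F ha
  have hr1 : r ≠ 1 := by
    rintro rfl
    exact ha1 (by rw [← hra, (Re.pker 1 (one_mem _)).2 (one_mem _)])
  have hgp := fix_p D hg
  have hfp := fix_p D (F.cen f hf)
  have i1 : inc (g • x₁) (g • l) := D.inc_smul g _ _ F.xl
  have i2 : inc p (g • l) := by
    have := D.inc_smul g _ _ F.pl
    rwa [hgp] at this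
  have hne : g • x₁ ≠ p := by
    intro h0
    apply F.ne
    have h4 : g • x₁ = g • p := by rw [h0, hgp]
    exact smul_left_cancel g h4
  refine ⟨i1, i2, hne, ?_⟩
  -- the vectors
  have hrW := R_le_Wp D F.xl F.pl hr
  set u := g * r * g⁻¹ with hu
  have huR : u ∈ R (g • x₁) := D.R_smul g x₁ r hr
  have huW : u ∈ W p := R_le_Wp D i1 i2 huR
  have hu1 : u ≠ 1 := fun h0 => hr1 (conj_eq_one_iff.1 h0)
  have huπ : π u = w := by rw [hu, Re.act g hg r hrW, hra, hw]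
  set u' := f * u * f⁻¹ with hu'
  have hu'R : u' ∈ R (f • g • x₁) := D.R_smul f _ u huR
  have hu'W : u' ∈ W p := norm_p D (F.cen f hf) huW
  have hu'π : π u' = ρ f • w := by rw [hu', Re.act f (F.cen f hf) u huW, huπ]
  have hd : u' * u⁻¹ ∈ W p := mul_mem hu'W (inv_mem huW)
  have hinv : ∀ {v : G}, v ∈ W p → π v⁻¹ = (π v)⁻¹ := by
    intro v hv
    have h4 := Re.pmul v hv v⁻¹ (inv_mem hv)
    rw [mul_inv_cancel, (Re.pker 1 (one_mem _)).2 (one_mem _)] at h4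
    exact (inv_eq_of_mul_eq_one_right h4.symm).symm
  have hdπ : π (u' * u⁻¹) = c := by rw [Re.pmul _ hu'W _ (inv_mem huW), hinv huW, hu'π, huπ, hc]
  -- `g'` fixes `x` and `x^f`
  have k1 : g' * u = u * g' := h1 u huW huπ
  have k2 : g' * (u' * u⁻¹) = u' * u⁻¹ * g' := h2 _ hd hdπ
  have k3 : g' * u' = u' * g' := by
    calc g' * u' = g' * (u' * u⁻¹) * u := by group
      _ = u' * u⁻¹ * (g' * u) := by rw [k2]; group
      _ = u' * g' := by rw [k1]; group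
  have f1 : g' • g • x₁ = g • x₁ := D.fix huR hu1 k1
  have hu'1 : u' ≠ 1 := fun h0 => hu1 (conj_eq_one_iff.1 h0)
  have f2 : g' • f • g • x₁ = f • g • x₁ := D.fix hu'R hu'1 k3
  -- the lift of `h`
  obtain ⟨o, ho, hoρ, hoc⟩ := Re.cover D F hh
  set o' := g * o * g⁻¹ with ho'
  have ho'C : o' ∈ centralizer (R p : Set G) := mul_mem (mul_mem hg ho) (inv_mem hg)
  have ho'ρ : ρ o' = h := by
    rw [ho', Re.conj hg ho, hoρ]
    group
  have ho'c : ∀ v ∈ W (g • x₁), o' * v = v * o' := by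
    intro v hv
    have h4 := hoc _ ((D.W_smul_iff g).1 hv)
    calc o' * v = g * (o * (g⁻¹ * v * g)) * g⁻¹ := by rw [ho']; group
      _ = g * ((g⁻¹ * v * g) * o) * g⁻¹ := by rw [h4]
      _ = v * o' := by rw [ho']; group
  -- `s = o' f x`
  set y := o' • f • g • x₁ with hy
  set l' := o' • f • g • l with hl'
  have j1 : inc y l' := D.inc_smul _ _ _ (D.inc_smul _ _ _ i1)
  have j2 : inc p l' := by
    have h4 := D.inc_smul o' _ _ (D.inc_smul f _ _ i2)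
    rwa [hfp, fix_p D ho'C] at h4
  have hyp : y ≠ p := by
    intro h0
    apply hne
    have h4 : o' • f • g • x₁ = o' • f • p := by rw [← hy, h0, hfp, fix_p D ho'C]
    exact smul_left_cancel _ (smul_left_cancel _ h4)
  set v := o' * u' * o'⁻¹ with hv
  have hvR : v ∈ R y := D.R_smul o' _ u' hu'R
  have hvW : v ∈ W p := R_le_Wp D j1 j2 hvR
  have hv1 : v ≠ 1 := fun h0 => hu'1 (conj_eq_one_iff.1 h0)
  -- `v = v₀ (u' u⁻¹) u` with `π v₀ = (h c) c⁻¹`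
  have e1 : v = (o' * (u' * u⁻¹) * o'⁻¹ * (u' * u⁻¹)⁻¹) * (u' * u⁻¹) * u := by
    have h4 := ho'c u (D.R_le_W _ huR)
    have h5 : o' * u * o'⁻¹ = u := by rw [h4]; group
    calc v = o' * (u' * u⁻¹) * o'⁻¹ * (o' * u * o'⁻¹) := by rw [hv]; group
      _ = o' * (u' * u⁻¹) * o'⁻¹ * u := by rw [h5]
      _ = _ := by group
  set v₀ := o' * (u' * u⁻¹) * o'⁻¹ * (u' * u⁻¹)⁻¹ with hv₀
  have hn0 : o' * (u' * u⁻¹) * o'⁻¹ ∈ W p := norm_p D ho'C hd
  have hv₀W : v₀ ∈ W p := mul_mem hn0 (inv_mem hd)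
  have hv₀π : π v₀ = (h • c) * c⁻¹ := by
    rw [hv₀, Re.pmul _ hn0 _ (inv_mem hd), hinv hd, Re.act o' ho'C _ hd, hdπ, ho'ρ]
  obtain ⟨m1, m2⟩ := h3 v₀ hv₀W hv₀π
  -- `g' v g'⁻¹ = r₀ v`
  set r₀ := g' * v₀ * g'⁻¹ * v₀⁻¹ with hr₀
  have e2 : g' * v * g'⁻¹ = r₀ * v := by
    calc g' * v * g'⁻¹ = (g' * v₀ * g'⁻¹) * (g' * (u' * u⁻¹) * g'⁻¹) * (g' * u * g'⁻¹) := by rw [e1]; group
      _ = (g' * v₀ * g'⁻¹) * (u' * u⁻¹) * u := by
          have h4 : g' * (u' * u⁻¹) * g'⁻¹ = u' * u⁻¹ := by rw [k2]; group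
          have h5 : g' * u * g'⁻¹ = u := by rw [k1]; group
          rw [h4, h5]
      _ = r₀ * v := by rw [e1, hr₀]; group
  have hr₀1 : r₀ ≠ 1 := by
    intro h0
    apply m2
    have h4 : g' * v₀ * g'⁻¹ = v₀ := mul_inv_eq_one.1 h0
    calc g' * v₀ = g' * v₀ * g'⁻¹ * g' := by group
      _ = v₀ * g' := by rw [h4]
  have hgv : g' * v * g'⁻¹ ∈ V l' := by
    rw [e2]
    exact mul_mem (D.R_le p l' j2 m1) (D.R_le y l' j1 hvR)
  obtain ⟨y', hy', hvy'⟩ := D.cover l' _ hgv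
  have hgy : g' • y = y' := D.ti _ _ _ (D.R_smul g' y v hvR) hvy' fun h0 => hv1 (conj_eq_one_iff.1 h0)
  have hyy' : y ≠ y' := by
    rintro rfl
    rw [e2] at hvy'
    have h4 : r₀ ∈ R y := by
      have h5 := mul_mem hvy' (inv_mem hvR)
      rwa [mul_inv_cancel_right] at h5
    exact hyp (D.ti _ _ _ h4 m1 hr₀1)
  intro b hb
  have hb1 : b ∈ W y := by
    rw [hy, D.W_smul_iff]
    have h4 := ho'c b hb.1
    have e3 : o'⁻¹ * b * o' = b := by rw [mul_assoc, ← h4]; group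
    rw [e3]
    exact hb.2
  have hb2 : b ∈ W y' := by
    rw [← hgy, D.W_smul_iff]
    have h4 : g'⁻¹ * b * g' ∈ W (g • x₁) := by
      rw [← D.W_smul_iff, f1]
      exact hb.1
    have h5 : g'⁻¹ * b * g' ∈ W (f • g • x₁) := by
      rw [← D.W_smul_iff, f2]
      exact hb.2
    rw [hy, D.W_smul_iff]
    have h6 := ho'c _ h4
    have e3 : o'⁻¹ * (g'⁻¹ * b * g') * o' = g'⁻¹ * b * g' := by rw [mul_assoc, ← h6]; group
    rw [e3]
    exact h5
  exact D.inf_le j1 hy' j2 hyy' ⟨hb1, hb2⟩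

omit F in
/-- `[w, f] ≠ 1` gives `f x ≠ x`. -/
theorem moved {x : X} {m : L} (hx : inc x m) (hp : inc p m) {f u : G} (hu : u ∈ R x)
    (hf : f ∈ centralizer (R p : Set G)) (hne : ρ f • π u ≠ π u) (hxp : x ≠ p)
    (hcl : ∀ k : G, k • x = x → k ∈ centralizer (R p : Set G) → ∀ u ∈ R x, k * u * k⁻¹ * u⁻¹ ∈ R p) :
    f • x ≠ x := by
  intro h0
  apply hne
  have huW := R_le_Wp D hx hp hu
  have h1 := hcl f h0 hf u hu
  have h2 : f * u * f⁻¹ ∈ R x := D.norm_R h0 hu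
  have h3 : f * u * f⁻¹ * u⁻¹ = 1 := by
    by_contra h4
    exact hxp (D.ti _ _ _ (mul_mem h2 (inv_mem hu)) h1 h4)
  rw [← Re.act f hf u huW, mul_inv_eq_one.1 h3]

end Real

/-! ### (4.0)(iii)(b) -/

namespace Real

variable {p q : X} {ρ : G → H} {π : G → M} (Re : Real R W p ρ π) (D : Geom inc R W V s t)
include Re D

/-- The elements of `J = ⟨β^j : β ∈ ρ(W_q), j ∈ J⟩` are induced by elements centralising the preimage of `C_M(J)`. -/
theorem cover' {J : Subgroup H} (hq : ∀ f ∈ W q, f ∈ centralizer (R p : Set G))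
    (hex : ∀ u ∈ W p, (∀ f ∈ W q, ρ f • π u = π u) → ∀ f ∈ W q, f * u = u * f)
    (hqJ : ∀ f ∈ W q, ρ f ∈ J) {j : H}
    (hj : j ∈ Subgroup.closure {h : H | ∃ f ∈ W q, ∃ c ∈ J, h = c * ρ f * c⁻¹}) :
    ∃ o ∈ centralizer (R p : Set G), ρ o = j ∧
      ∀ u ∈ W p, (∀ i ∈ J, i • π u = π u) → o * u = u * o := by
  refine Subgroup.closure_induction (p := fun j _ => ∃ o ∈ centralizer (R p : Set G), ρ o = j ∧
      ∀ u ∈ W p, (∀ i ∈ J, i • π u = π u) → o * u = u * o) ?_ ?_ ?_ ?_ hj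
  · rintro _ ⟨f, hf, c, hc, rfl⟩
    obtain ⟨g, hg, rfl⟩ := Re.surj c
    refine ⟨g * f * g⁻¹, mul_mem (mul_mem hg (hq f hf)) (inv_mem hg), Re.conj hg (hq f hf), fun u hu h1 => ?_⟩
    have hg' : g⁻¹ * u * g ∈ W p := by
      have := norm_p D (inv_mem hg) hu
      rwa [inv_inv] at this
    have h2 : π (g⁻¹ * u * g) = π u := by
      have h3 := Re.act g⁻¹ (inv_mem hg) u hu
      rw [inv_inv, Re.inv hg] at h3
      rw [h3]
      exact h1 _ (inv_mem hc)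
    have h4 := hex _ hg' (fun f' hf' => by rw [h2]; exact h1 _ (hqJ f' hf')) f hf
    calc g * f * g⁻¹ * u = g * (f * (g⁻¹ * u * g)) * g⁻¹ := by group
      _ = g * ((g⁻¹ * u * g) * f) * g⁻¹ := by rw [h4]
      _ = u * (g * f * g⁻¹) := by group
  · exact ⟨1, one_mem _, Re.one, fun u _ _ => by rw [one_mul, mul_one]⟩
  · rintro _ _ _ _ ⟨o, ho, rfl, h1⟩ ⟨o', ho', rfl, h2⟩
    refine ⟨o * o', mul_mem ho ho', Re.mul o ho o' ho', fun u hu h3 => ?_⟩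
    rw [mul_assoc, h2 u hu h3, ← mul_assoc, h1 u hu h3, mul_assoc]
  · rintro _ _ ⟨o, ho, rfl, h1⟩
    refine ⟨o⁻¹, inv_mem ho, Re.inv ho, fun u hu h3 => ?_⟩
    have h2 := h1 u hu h3
    calc o⁻¹ * u = o⁻¹ * (u * o) * o⁻¹ := by group
      _ = o⁻¹ * (o * u) * o⁻¹ := by rw [h2]
      _ = u * o⁻¹ := by group

/-- **(4.0)(iii)(b)** : if `u₀ ∈ W_p - R_p` lies over a vector fixed by `J` and every element of `T` is congruent to an
element acting trivially on `E` modulo `J`, then some `g₁ ∈ C_G(R_p)` acts trivially on `E` and does not centralise `u₀`. -/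
theorem exists_mov {J : Subgroup H} (hq : ∀ f ∈ W q, f ∈ centralizer (R p : Set G))
    (hex : ∀ u ∈ W p, (∀ f ∈ W q, ρ f • π u = π u) → ∀ f ∈ W q, f * u = u * f)
    (hqJ : ∀ f ∈ W q, ρ f ∈ J)
    (hgen : J ≤ Subgroup.closure {h : H | ∃ f ∈ W q, ∃ c ∈ J, h = c * ρ f * c⁻¹})
    {T : Subgroup G} (hT : T ≤ centralizer (R p : Set G))
    (hTW : ∀ u ∈ W p, (∀ g ∈ T, g * u = u * g) → u ∈ R p) {E : Set M}
    (hE : ∀ g ∈ T, ∃ j ∈ J, ∀ e ∈ E, (ρ g * j⁻¹) • e = e)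
    {u₀ : G} (hu₀ : u₀ ∈ W p) (hu₀' : u₀ ∉ R p) (hJ : ∀ i ∈ J, i • π u₀ = π u₀) :
    ∃ g₁ ∈ centralizer (R p : Set G), (∀ e ∈ E, ρ g₁ • e = e) ∧ g₁ * u₀ ≠ u₀ * g₁ := by
  obtain ⟨g, hg, hgu⟩ : ∃ g ∈ T, g * u₀ ≠ u₀ * g := by
    by_contra hcon
    push Not at hcon
    exact hu₀' (hTW u₀ hu₀ hcon)
  obtain ⟨j, hj, hjE⟩ := hE g hg
  obtain ⟨o, ho, rfl, hou⟩ := Re.cover' D hq hex hqJ (hgen hj)
  refine ⟨g * o⁻¹, mul_mem (hT hg) (inv_mem ho), fun e he => ?_, fun h0 => hgu ?_⟩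
  · rw [Re.mul g (hT hg) _ (inv_mem ho), Re.inv ho]
    exact hjE e he
  · have h1 := hou u₀ hu₀ hJ
    have h2 : o⁻¹ * u₀ = u₀ * o⁻¹ := by
      calc o⁻¹ * u₀ = o⁻¹ * (u₀ * o) * o⁻¹ := by group
        _ = o⁻¹ * (o * u₀) * o⁻¹ := by rw [h1]
        _ = u₀ * o⁻¹ := by group
    calc g * u₀ = g * (u₀ * o⁻¹) * o := by group
      _ = g * (o⁻¹ * u₀) * o := by rw [h2]
      _ = (g * o⁻¹ * u₀) * o := by group
      _ = (u₀ * (g * o⁻¹)) * o := by rw [h0]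
      _ = u₀ * g := by group

end Real

end Cfsg.Agent.Omega.NO3S.FarQ.Four
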