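import Cfsg.Agent.Omega.NO3S.FarQ.RD
import Cfsg.Agent.Omega.NO3S.PtGeom
import Cfsg.Agent.Omega.NO3S.Lin

/-!
# NO-3S, `q ≥ 4`: the instance of `RD` (helper263 #15995, helper238)

* `exists_mod` : `C` acts on `W / R` by conjugation;
* `exists_rd` : `PL S P V Z`, (F1), (T6), `N_G(S) ≤ N_G(V)` and `|Z| ≥ 4` give `RD` at the base flag `(Z, V)`;
* `exists_rd_flag` : all the flags are realised by the same `H`, `M`.
-/

set_option autoImplicit false
set_option linter.unusedSectionVars false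

namespace Cfsg.Agent.Omega.NO3S.FarQ

open Subgroup Cfsg Cfsg.Agent.ZN Cfsg.Agent.MinSimple.VModule Cfsg.Agent.Omega.NOThree.Pts
open Cfsg.Agent.Omega.NO3S.FarQ.Glue Cfsg.Agent.Omega.NO3S.PT Cfsg.Agent.Omega.NO3S.PtGeom
open scoped Pointwise

universe u

variable {G : Type u} [Group G]

theorem exists_mod {C W R : Subgroup G} (hCW : ∀ c ∈ C, ∀ w ∈ W, c * w * c⁻¹ ∈ W)
    (hCR : ∀ c ∈ C, ∀ w ∈ R, c * w * c⁻¹ ∈ R) (hWc : ∀ a ∈ W, ∀ b ∈ W, a * b = b * a) :
    ∃ (H M : Type u) (_ : Group H) (_ : CommGroup M) (_ : MulDistribMulAction H M) (ρ : G → H) (π : G → M),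
      (∀ a ∈ C, ∀ b ∈ C, ρ (a * b) = ρ a * ρ b) ∧ (∀ h, ∃ a ∈ C, ρ a = h) ∧
      (∀ a ∈ C, ρ a = 1 ↔ ∀ w ∈ W, a * w * a⁻¹ * w⁻¹ ∈ R) ∧
      (∀ a ∈ W, ∀ b ∈ W, π (a * b) = π a * π b) ∧ (∀ m, ∃ a ∈ W, π a = m) ∧ (∀ a ∈ W, π a = 1 ↔ a ∈ R) ∧
      (∀ g ∈ C, ∀ w ∈ W, π (g * w * g⁻¹) = ρ g • π w) := by
  classical
  let _ : CommGroup W := { (inferInstance : Group W) with mul_comm := fun a b => Subtype.ext (hWc a a.2 b b.2) }
  let R' : Subgroup W := R.subgroupOf W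
  let α : C → (W →* W) := fun c =>
    { toFun := fun w => ⟨(c : G) * w * (c : G)⁻¹, hCW c c.2 w w.2⟩
      map_one' := Subtype.ext (by
        show (c : G) * (1 : G) * (c : G)⁻¹ = 1
        group)
      map_mul' := fun a b => Subtype.ext (by
        show (c : G) * ((a : G) * b) * (c : G)⁻¹ = (c : G) * a * (c : G)⁻¹ * ((c : G) * b * (c : G)⁻¹)
        group) }
  have hα : ∀ c : C, R' ≤ R'.comap (α c) := by
    intro c w hw
    exact mem_subgroupOf.2 (hCR c c.2 w (mem_subgroupOf.1 hw))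
  let act : MulDistribMulAction C (W ⧸ R') :=
    { smul := fun c m => QuotientGroup.map R' R' (α c) (hα c) m
      one_smul := fun m => by
        induction m using QuotientGroup.induction_on with
        | H w =>
          change (QuotientGroup.mk (α 1 w) : W ⧸ R') = QuotientGroup.mk w
          congr 1
          refine Subtype.ext ?_
          show (1 : G) * w * (1 : G)⁻¹ = w
          group
      mul_smul := fun c d m => by
        induction m using QuotientGroup.induction_on with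
        | H w =>
          change (QuotientGroup.mk (α (c * d) w) : W ⧸ R') = QuotientGroup.mk (α c (α d w))
          congr 1
          refine Subtype.ext ?_
          show (c : G) * d * w * ((c : G) * d)⁻¹ = (c : G) * ((d : G) * w * (d : G)⁻¹) * (c : G)⁻¹
          group
      smul_one := fun c => map_one _
      smul_mul := fun c m n => map_mul _ m n }
  let β : C →* MulAut (W ⧸ R') := MulDistribMulAction.toMulAut C (W ⧸ R')
  let ρ : G → β.range := fun g => if hg : g ∈ C then β.rangeRestrict ⟨g, hg⟩ else 1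
  let π : G → W ⧸ R' := fun w => if hw : w ∈ W then QuotientGroup.mk ⟨w, hw⟩ else 1
  have hρ : ∀ g (hg : g ∈ C), ρ g = β.rangeRestrict ⟨g, hg⟩ := fun g hg => dif_pos hg
  have hπ : ∀ w (hw : w ∈ W), π w = QuotientGroup.mk ⟨w, hw⟩ := fun w hw => dif_pos hw
  have hact : ∀ g ∈ C, ∀ w ∈ W, π (g * w * g⁻¹) = ρ g • π w := by
    intro g hg w hw
    rw [hρ g hg, hπ w hw, hπ _ (hCW g hg w hw)]
    rfl
  have hπker : ∀ a ∈ W, π a = 1 ↔ a ∈ R := by
    intro a ha
    rw [hπ a ha, QuotientGroup.eq_one_iff]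
    exact mem_subgroupOf
  have hπmul : ∀ a ∈ W, ∀ b ∈ W, π (a * b) = π a * π b := by
    intro a ha b hb
    rw [hπ a ha, hπ b hb, hπ _ (mul_mem ha hb)]
    rfl
  have hπsurj : ∀ m, ∃ a ∈ W, π a = m := by
    intro m
    induction m using QuotientGroup.induction_on with
    | H w => exact ⟨w, w.2, hπ w w.2⟩
  refine ⟨β.range, W ⧸ R', inferInstance, inferInstance, inferInstance, ρ, π, ?_, ?_, ?_, hπmul, hπsurj, hπker, hact⟩
  · intro a ha b hb
    rw [hρ a ha, hρ b hb, hρ _ (mul_mem ha hb), ← map_mul]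
    rfl
  · intro h
    obtain ⟨⟨c, hc⟩, hc'⟩ := β.rangeRestrict_surjective h
    exact ⟨c, hc, by rw [hρ c hc, hc']⟩
  · intro a ha
    have h1 : ρ a = 1 ↔ ∀ m : W ⧸ R', ρ a • m = m := by
      constructor
      · intro h m
        rw [h, one_smul]
      · intro h
        refine Subtype.ext (MulEquiv.ext fun m => ?_)
        exact h m
    rw [h1]
    constructor
    · intro h w hw
      rw [← hπker _ (mul_mem (hCW a ha w hw) (inv_mem hw)), hπmul _ (hCW a ha w hw) _ (inv_mem hw), hact a ha w hw, h]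
      rw [← hπmul w hw _ (inv_mem hw), mul_inv_cancel]
      exact (hπker 1 (one_mem _)).2 (one_mem _)
    · intro h m
      obtain ⟨w, hw, rfl⟩ := hπsurj m
      have h2 := (hπker _ (mul_mem (hCW a ha w hw) (inv_mem hw))).2 (h w hw)
      rw [← hact a ha w hw]
      have h3 := hπmul _ (mul_mem (hCW a ha w hw) (inv_mem hw)) w hw
      rw [inv_mul_cancel_right, h2, one_mul] at h3
      exact h3

section

variable [Finite G] {S : Sylow 2 G} {P V Z : Subgroup G} (h : PL S P V Z)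
include h

theorem line_base {X : Subgroup G} (hX : IsCj Z X) (hXV : X ≤ V) (hne : X ≠ Z) {v : G} (hv : v ∈ V) :
    ∃ r ∈ Z, ∃ r' ∈ X, v = r * r' := h.exists_mul h.isCj_self h.ZV hX hXV hne.symm hv

/-- `N_G(Z)` = `C_G(Z) N_G(S)`: all lines on `Z` are conjugate in `C_G(Z)`. -/
theorem exists_cent_line (hns : normalizer ((S : Subgroup G) : Set G) ≤ normalizer (V : Set G)) {M : Subgroup G}
    (hM : IsCj V M) (hZM : Z ≤ M) : ∃ c ∈ centralizer (Z : Set G), M = cj c V := by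
  obtain ⟨g, hg, rfl⟩ := exists_conj_flag h h.isCj_self hM hZM
  have hgN : g ∈ normalizer (Z : Set G) := cj_eq_iff.1 hg.symm
  have h1 : cj g (S : Subgroup G) ≤ centralizer (Z : Set G) := by
    have h2 : cj g (S : Subgroup G) ≤ cj g (centralizer (Z : Set G)) := cj_le_cj.2 h.S_le
    rwa [cj_centralizer, ← hg] at h2
  obtain ⟨c, hc, hcS⟩ := exists_conj (S := S) (T := g • S) h.S_le h1
  refine ⟨c, hc, ?_⟩
  have h2 : c⁻¹ * g ∈ normalizer ((S : Subgroup G) : Set G) := by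
    have h3 : cj c (S : Subgroup G) = cj g (S : Subgroup G) := hcS
    rw [← cj_eq_iff, ← cj_cj, ← h3, cj_cj, inv_mul_cancel, cj_one]
  have h5 := cj_eq_iff.2 (hns h2)
  rw [← cj_cj] at h5
  have h6 := congrArg (cj c) h5
  rwa [cj_cj, mul_inv_cancel, cj_one] at h6

end

/-- `Z` as an abstract commutative group -/
theorem exists_group {Z : Subgroup G} (hc : ∀ a ∈ Z, ∀ b ∈ Z, a * b = b * a) :
    ∃ (K : Type u) (_ : CommGroup K) (ζ : K →* G), Function.Injective ζ ∧ ∀ g, g ∈ Z ↔ ∃ r, ζ r = g := by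
  let _ : CommGroup Z := { (inferInstance : Group Z) with mul_comm := fun a b => Subtype.ext (hc a a.2 b b.2) }
  refine ⟨Z, inferInstance, Z.subtype, Z.subtype_injective, fun g => ?_⟩
  constructor
  · intro hg
    exact ⟨⟨g, hg⟩, rfl⟩
  · rintro ⟨r, rfl⟩
    exact r.2

/-! ### Subgroups of `M` and of `M →* K` from a realisation -/

section geo

variable {X L : Type*} [MulAction G X] [MulAction G L]
variable {inc : X → L → Prop} {R W : X → Subgroup G} {V : L → Subgroup G} {s t n : ℕ}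
variable {H M K : Type*} [Group H] [CommGroup M] [MulDistribMulAction H M] [CommGroup K]
variable {p : X} {ρ : G → H} {π : G → M} (Re : Four.Real R W p ρ π)

/-- `π(B)` -/
def pim (B : Subgroup G) (hB : B ≤ W p) : Subgroup M where
  carrier := {m | ∃ b ∈ B, π b = m}
  one_mem' := ⟨1, one_mem _, π_one Re⟩
  mul_mem' := by
    rintro _ _ ⟨a, ha, rfl⟩ ⟨b, hb, rfl⟩
    exact ⟨a * b, mul_mem ha hb, Re.pmul a (hB ha) b (hB hb)⟩
  inv_mem' := by
    rintro _ ⟨a, ha, rfl⟩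
    exact ⟨a⁻¹, inv_mem ha, π_inv Re (hB ha)⟩

theorem mem_pim {B : Subgroup G} {hB : B ≤ W p} {m : M} : m ∈ pim Re B hB ↔ ∃ b ∈ B, π b = m := Iff.rfl

variable {ζ : K →* G} (hran : ∀ g, g ∈ R p ↔ ∃ r, ζ r = g)

/-- the homomorphisms `m ↦ [k, m]`, `k ∈ K_p` -/
def khat (π : G → M) (hran : ∀ g, g ∈ R p ↔ ∃ r, ζ r = g) : Subgroup (M →* K) where
  carrier := {φ | ∃ k ∈ centralizer (R p : Set G), ∀ w ∈ W p, k * w * k⁻¹ * w⁻¹ = ζ (φ (π w))}
  one_mem' := ⟨1, one_mem _, fun w _ => by rw [MonoidHom.one_apply, map_one]; group⟩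
  mul_mem' := by
    rintro φ ψ ⟨a, ha, ha'⟩ ⟨b, hb, hb'⟩
    refine ⟨a * b, mul_mem ha hb, fun w hw => ?_⟩
    have h1 : ζ (ψ (π w)) ∈ R p := (hran _).2 ⟨_, rfl⟩
    have h2 := mem_centralizer_iff.1 ha _ h1
    calc a * b * w * (a * b)⁻¹ * w⁻¹ = a * (b * w * b⁻¹ * w⁻¹) * a⁻¹ * (a * w * a⁻¹ * w⁻¹) := by group
      _ = ζ (ψ (π w)) * ζ (φ (π w)) := by rw [hb' w hw, ha' w hw, ← h2, mul_inv_cancel_right]
      _ = ζ ((φ * ψ) (π w)) := by rw [MonoidHom.mul_apply, mul_comm, map_mul]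
  inv_mem' := by
    rintro φ ⟨a, ha, ha'⟩
    refine ⟨a⁻¹, inv_mem ha, fun w hw => ?_⟩
    have h1 : (ζ (φ (π w)))⁻¹ ∈ R p := inv_mem ((hran _).2 ⟨_, rfl⟩)
    have h2 := mem_centralizer_iff.1 ha _ h1
    calc a⁻¹ * w * a⁻¹⁻¹ * w⁻¹ = a⁻¹ * (a * w * a⁻¹ * w⁻¹)⁻¹ * a := by group
      _ = a⁻¹ * ((ζ (φ (π w)))⁻¹ * a) := by rw [ha' w hw]; group
      _ = (ζ (φ (π w)))⁻¹ := by rw [h2, inv_mul_cancel_left]
      _ = ζ (φ⁻¹ (π w)) := by rw [MonoidHom.inv_apply, map_inv]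

theorem mem_khat {φ : M →* K} : φ ∈ khat (W := W) π hran ↔ ∃ k ∈ centralizer (R p : Set G),
    ∀ w ∈ W p, k * w * k⁻¹ * w⁻¹ = ζ (φ (π w)) := Iff.rfl

include Re in
/-- every element of `K_p` gives an element of `khat` -/
theorem exists_khat (D : Geom inc R W V s t) (hinj : Function.Injective ζ) (hRW : R p ≤ W p) {k : G}
    (hk : k ∈ centralizer (R p : Set G)) (hk' : ∀ w ∈ W p, k * w * k⁻¹ * w⁻¹ ∈ R p) :
    ∃ φ ∈ khat (W := W) π hran, ∀ w ∈ W p, k * w * k⁻¹ * w⁻¹ = ζ (φ (π w)) := by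
  have hc : ∀ a ∈ W p, ∀ b ∈ W p, a * b = b * a := D.comm p
  have key : ∀ v ∈ W p, ∀ w ∈ W p, π v = π w → k * v * k⁻¹ * v⁻¹ = k * w * k⁻¹ * w⁻¹ := by
    intro v hv w hw hvw
    have h1 := mem_mul_R Re hv hw hvw
    have h2 := mem_centralizer_iff.1 hk _ h1
    have h3 := hc _ (hRW h1) _ (hRW (hk' w hw))
    have h4 : v = v * w⁻¹ * w := by group
    calc k * v * k⁻¹ * v⁻¹ = k * (v * w⁻¹) * k⁻¹ * (k * w * k⁻¹ * w⁻¹) * (v * w⁻¹)⁻¹ := by group
      _ = (v * w⁻¹) * (k * w * k⁻¹ * w⁻¹) * (v * w⁻¹)⁻¹ := by rw [← h2, mul_inv_cancel_right]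
      _ = k * w * k⁻¹ * w⁻¹ := by rw [h3, mul_inv_cancel_right]
  have hmul : ∀ v ∈ W p, ∀ w ∈ W p, k * (v * w) * k⁻¹ * (v * w)⁻¹ = (k * v * k⁻¹ * v⁻¹) * (k * w * k⁻¹ * w⁻¹) := by
    intro v hv w hw
    have h3 := hc _ hv _ (hRW (hk' w hw))
    calc k * (v * w) * k⁻¹ * (v * w)⁻¹ = (k * v * k⁻¹ * v⁻¹) * (v * (k * w * k⁻¹ * w⁻¹) * v⁻¹) := by group
      _ = _ := by rw [h3, mul_inv_cancel_right]
  choose r hr1 hr2 using Re.psurj
  have hz : ∀ m : M, ∃ z : K, ζ z = k * r m * k⁻¹ * (r m)⁻¹ := fun m => (hran _).1 (hk' _ (hr1 m))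
  choose f hf using hz
  have hf' : ∀ w ∈ W p, k * w * k⁻¹ * w⁻¹ = ζ (f (π w)) := by
    intro w hw
    rw [hf]
    exact key w hw _ (hr1 _) (hr2 _).symm
  let φ : M →* K := MonoidHom.mk' f (by
    intro a b
    obtain ⟨v, hv, rfl⟩ := Re.psurj a
    obtain ⟨w, hw, rfl⟩ := Re.psurj b
    apply hinj
    rw [map_mul, ← hf' v hv, ← hf' w hw, ← Re.pmul v hv w hw, ← hf' _ (mul_mem hv hw), hmul v hv w hw])
  exact ⟨φ, ⟨k, hk, hf'⟩, hf'⟩

end geo

section

variable [Finite G] {S : Sylow 2 G} {P V Z : Subgroup G} (h : PL S P V Z)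
include h

set_option maxHeartbeats 1000000 in
/-- **The instance.** -/
theorem exists_rd (hf : ¬ kx V Z ≤ centralizer (V : Set G)) (hO : OmQ S V)
    (hns : normalizer ((S : Subgroup G) : Set G) ≤ normalizer (V : Set G)) (hq : 4 ≤ Nat.card Z) :
    ∃ (H M K : Type u) (_ : Group H) (_ : CommGroup M) (_ : MulDistribMulAction H M) (_ : CommGroup K)
      (ρ : G → H) (π : G → M) (ζ : K →* G) (T : Subgroup H) (lam U : Subgroup M) (Kh : Subgroup (M →* K)),
      RD (inc (Z := Z) (V := V)) (fun x => x.sg) (fun x => ws V x.sg) (fun l => l.sg) (Pt.base Z) (Pt.base V)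
        (S : Subgroup G) ρ π ζ T lam U Kh := by
  have D := geom h hf hO
  have hWn := normalizer_le_ws V Z
  have hCn : centralizer (Z : Set G) ≤ normalizer (Z : Set G) := centralizer_le_normalizer _
  have hWcomm : ∀ a ∈ ws V Z, ∀ b ∈ ws V Z, a * b = b * a := fun a ha b hb =>
    (mem_centralizer_iff.1 (h.Wcomm ha) b hb).symm
  obtain ⟨H, M, iH, iM, iA, ρ, π, hρm, hρs, hρk, hπm, hπs, hπk, hact⟩ := exists_mod (C := centralizer (Z : Set G))
    (W := ws V Z) (R := Z) (fun c hc w hw => (mem_normalizer_iff.1 (hWn (hCn hc)) w).1 hw)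
    (fun c hc w hw => (mem_normalizer_iff.1 (hCn hc) w).1 hw) hWcomm
  obtain ⟨K, iK, ζ, hinj, hran⟩ := exists_group (Z := Z) fun a ha b hb => h.Vcomm (h.ZV ha) (h.ZV hb)
  have Re : Four.Real (fun x : Pt Z => x.sg) (fun x => ws V x.sg) (Pt.base Z) ρ π :=
    ⟨hρm, hρs, hρk, hπm, hπs, hπk, hact⟩
  have hran' : ∀ g, g ∈ (fun x : Pt Z => x.sg) (Pt.base Z) ↔ ∃ r, ζ r = g := hran
  have hVW : V ≤ ws V Z := h.V_le_ws h.ZV
  have hS : (S : Subgroup G) ≤ centralizer (Z : Set G) := h.S_le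
  have hcen : ∀ {k}, k ∈ centralizer (Z : Set G) → ∀ z ∈ Z, k * z = z * k := fun hk z hz =>
    (mem_centralizer_iff.1 hk z hz).symm
  have hcm : ∀ {g w : G}, g ∈ centralizer (Z : Set G) → w ∈ ws V Z →
      (g * w * g⁻¹ * w⁻¹ ∈ Z ↔ ρ g • π w = π w) := fun hg hw => comm_mem_iff Re D hg hw
  let T : Subgroup H := im Re (S : Subgroup G) hS
  let lam : Subgroup M := pim Re V hVW
  let U : Subgroup M := pim Re (IV V Z) h.IV_le_ws
  let Kh : Subgroup (M →* K) := khat (W := fun x : Pt Z => ws V x.sg) π hran'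
  have hlam : ∀ m, m ∈ lam ↔ ∃ v ∈ V, π v = m := fun m => Iff.rfl
  have hlam1 : ∀ v ∈ V, π v ≠ 1 → v ∉ Z := fun v hv hv1 hvZ => hv1 ((hπk v (hVW hv)).2 hvZ)
  have hKx : ∀ k ∈ kx V Z, k ∈ centralizer (Z : Set G) ∧ ∀ w ∈ ws V Z, k * w * k⁻¹ * w⁻¹ ∈ Z := fun k hk =>
    ⟨kx_le_cent hk, (mem_kx.1 hk).2⟩
  have hexK : ∀ k ∈ kx V Z, ∃ φ ∈ Kh, ∀ w ∈ ws V Z, k * w * k⁻¹ * w⁻¹ = ζ (φ (π w)) := fun k hk =>
    exists_khat Re hran' D hinj h.Z_le_ws (hKx k hk).1 (hKx k hk).2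
  have hfinH : Finite H := Finite.of_surjective ρ fun x => by
    obtain ⟨g, -, hg⟩ := hρs x
    exact ⟨g, hg⟩
  have hfinM : Finite M := Finite.of_surjective π fun x => by
    obtain ⟨g, -, hg⟩ := hπs x
    exact ⟨g, hg⟩
  -- cardinality of `lam`
  have hcard : Nat.card lam = Nat.card Z := by
    let φ : V →* M := MonoidHom.mk' (fun a => π a) (fun a b => hπm a (hVW a.2) b (hVW b.2))
    have h1 := Subgroup.card_mul_index φ.ker
    rw [Subgroup.index_ker] at h1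
    have h2 : φ.range = lam := by
      ext m
      constructor
      · rintro ⟨a, rfl⟩
        exact ⟨a, a.2, rfl⟩
      · rintro ⟨a, ha, rfl⟩
        exact ⟨⟨a, ha⟩, rfl⟩
    have h3 : Nat.card φ.ker = Nat.card Z := by
      refine Nat.card_congr ⟨fun x => ⟨x, ?_⟩, fun x => ⟨⟨x, h.ZV x.2⟩, ?_⟩, fun x => rfl, fun x => rfl⟩
      · exact (hπk _ (hVW x.1.2)).1 x.2
      · exact (hπk _ (hVW (h.ZV x.2))).2 x.2
    rw [h2, h3, h.card] at h1
    exact Nat.eq_of_mul_eq_mul_left Nat.card_pos h1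
  have hcardK : Nat.card K = Nat.card Z := by
    refine Nat.card_congr ⟨fun x => ⟨ζ x, (hran _).2 ⟨x, rfl⟩⟩, fun x => ((hran _).1 x.2).choose,
      fun x => ?_, fun x => ?_⟩
    · exact hinj ((hran (ζ x)).1 ((hran _).2 ⟨x, rfl⟩)).choose_spec
    · exact Subtype.ext ((hran _).1 x.2).choose_spec
  have hflag : Flag T lam U Kh := by
    refine ⟨hfinH, hfinM, ?_, ?_, hcardK.trans hcard.symm, ?_, ?_, ?_, hcard.symm ▸ hq, ?_, ?_, ?_, ?_, ?_, ?_,
      ?_, ?_, ?_⟩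
    · -- sq
      intro m
      obtain ⟨w, hw, rfl⟩ := hπs m
      rw [← hπm w hw w hw, h.ws_sq w hw]
      exact π_one Re
    · -- sqR
      intro r
      apply hinj
      rw [map_mul, map_one]
      exact h.Vsq _ (h.ZV ((hran _).2 ⟨r, rfl⟩))
    · -- faith
      intro x hx
      obtain ⟨g, hg, rfl⟩ := hρs x
      exact (hρk g hg).2 fun w hw => (hcm hg hw).2 (hx _)
    · -- two
      rintro ⟨_, s, hs, rfl⟩
      obtain ⟨k, hk⟩ := S.isPGroup' ⟨s, hs⟩
      have hk' : s ^ 2 ^ k = 1 := congrArg Subtype.val hk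
      refine ⟨k, Subtype.ext ?_⟩
      show ρ s ^ 2 ^ k = 1
      have hpow : ∀ j : ℕ, ρ (s ^ j) = ρ s ^ j := by
        intro j
        induction j with
        | zero => rw [pow_zero, pow_zero, Re.one]
        | succ j ih => rw [pow_succ, pow_succ, hρm _ (pow_mem (hS hs) j) _ (hS hs), ih]
      rw [← hpow, hk', Re.one]
    · -- ndvd
      have : Fact (Nat.Prime 2) := ⟨Nat.prime_two⟩
      let f : centralizer (Z : Set G) →* H := MonoidHom.mk' (fun a => ρ a) (fun a b => hρm a a.2 b b.2)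
      have hfs : Function.Surjective f := fun x => by
        obtain ⟨g, hg, rfl⟩ := hρs x
        exact ⟨⟨g, hg⟩, rfl⟩
      let T' : Sylow 2 H := (S.subtype hS).mapSurjective hfs
      have hT' : (T' : Subgroup H) = T := by
        ext x
        constructor
        · rintro ⟨g, hg, rfl⟩
          exact ⟨g, mem_subgroupOf.1 hg, rfl⟩
        · rintro ⟨g, hg, rfl⟩
          exact ⟨⟨g, hS hg⟩, mem_subgroupOf.2 hg, rfl⟩
      rw [← hT']
      exact T'.not_dvd_index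
    · -- fix
      rintro _ ⟨s, hs, rfl⟩ _ ⟨v, hv, rfl⟩
      exact (hcm (hS hs) (hVW hv)).1 (h.act s hs v hv)
    · -- norm
      rintro x hx _ ⟨v, hv, rfl⟩
      obtain ⟨g, hg, rfl⟩ := hρs x
      have hSK : (S : Subgroup G) ≤ normalizer ((kx V Z : Subgroup G) : Set G) :=
        h.S_le_N.trans (normalizer_le_kx V Z)
      have h1 : ((g • S : Sylow 2 G) : Subgroup G) ≤ kx V Z ⊔ S := by
        intro y hy
        rw [coe_smul, mem_cj] at hy
        have hyC : y ∈ centralizer (Z : Set G) := by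
          have := mul_mem (mul_mem hg (hS hy)) (inv_mem hg)
          have e : g * (g⁻¹ * y * g) * g⁻¹ = y := by group
          rwa [e] at this
        have h2 : ρ g * ρ (g⁻¹ * y * g) * (ρ g)⁻¹ ∈ T := (mem_normalizer_iff.1 hx _).1 ⟨_, hy, rfl⟩
        have h3 : ρ g * ρ (g⁻¹ * y * g) * (ρ g)⁻¹ = ρ y := by
          have h4 := Re.conj hg (hS hy)
          rw [← h4]
          congr 1; group
        rw [h3] at h2
        obtain ⟨s, hs, hs'⟩ := h2
        have h5 : y * s⁻¹ ∈ kx V Z := by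
          have h6 : ρ (y * s⁻¹) = 1 := by
            rw [hρm y hyC s⁻¹ (inv_mem (hS hs)), Re.inv (hS hs), hs', mul_inv_cancel]
          have h7 := (hρk _ (mul_mem hyC (inv_mem (hS hs)))).1 h6
          exact mem_kx.2 ⟨fun z hz => hcen (mul_mem hyC (inv_mem (hS hs))) z hz, h7⟩
        have h8 : y = y * s⁻¹ * s := by group
        rw [h8]
        exact mul_mem (mem_sup_left h5) (mem_sup_right hs)
      obtain ⟨b, hb, hbS⟩ := exists_conj (S := S) (T := g • S) (H := kx V Z ⊔ S) le_sup_right h1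
      rw [← SetLike.mem_coe, coe_mul_of_right_le_normalizer_left _ _ hSK] at hb
      obtain ⟨k, hk, s, hs, rfl⟩ := hb
      have h2 : k⁻¹ * g ∈ normalizer ((S : Subgroup G) : Set G) := by
        have h3 : cj (k * s) (S : Subgroup G) = cj g (S : Subgroup G) := hbS
        rw [← cj_cj, cj_eq_iff.2 (le_normalizer hs)] at h3
        rw [← cj_eq_iff, ← cj_cj, ← h3, cj_cj, inv_mul_cancel, cj_one]
      have hkC := (hKx k hk).1
      have h4 : ρ (k⁻¹ * g) = ρ g := by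
        rw [hρm _ (inv_mem hkC) g hg, Re.inv hkC, (hρk k hkC).2 (hKx k hk).2, inv_one, one_mul]
      have h5 := (mem_normalizer_iff.1 (hns h2) v).1 hv
      refine ⟨_, h5, ?_⟩
      rw [hact _ (mul_mem (inv_mem hkC) hg) v (hVW hv), h4]
    · -- lin
      rintro _ ⟨v, hv, rfl⟩ hv1 x hx _ ⟨u, hu, rfl⟩
      obtain ⟨g, hg, rfl⟩ := hρs x
      have hvZ := hlam1 v hv hv1
      rw [← hcm hg (hVW hv)] at hx
      rw [← hcm hg (hVW hu)]
      exact h.lin (hcen hg) hv hvZ hx u hu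
    · -- gen
      intro N hN
      let E : Subgroup G :=
        { carrier := {w | w ∈ ws V Z ∧ π w ∈ N}
          one_mem' := ⟨one_mem _, by
            have e : π 1 = 1 := π_one Re
            rw [e]; exact one_mem _⟩
          mul_mem' := by
            rintro a b ⟨ha, ha'⟩ ⟨hb, hb'⟩
            exact ⟨mul_mem ha hb, by rw [hπm a ha b hb]; exact mul_mem ha' hb'⟩
          inv_mem' := by
            rintro a ⟨ha, ha'⟩
            refine ⟨inv_mem ha, ?_⟩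
            have e : π a⁻¹ = (π a)⁻¹ := π_inv Re ha
            rw [e]; exact inv_mem ha' }
      have hE : ws V Z ≤ E := by
        refine ws_le fun L hL hZL => ?_
        obtain ⟨c, hc, rfl⟩ := exists_cent_line h hns hL hZL
        intro w hw
        refine ⟨le_ws hL hZL hw, ?_⟩
        have hw' := mem_cj.1 hw
        have e : c * (c⁻¹ * w * c) * c⁻¹ = w := by group
        have h1 := hact c hc _ (hVW hw')
        rw [e] at h1
        rw [h1]
        exact hN _ _ ⟨_, hw', rfl⟩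
      rw [eq_top_iff]
      intro m _
      obtain ⟨w, hw, rfl⟩ := hπs m
      exact (hE hw).2
    · -- le
      rintro _ ⟨v, hv, rfl⟩
      exact ⟨v, h.V_le_IV hv, rfl⟩
    · -- uu
      rintro _ ⟨u, hu, rfl⟩ huV _ ⟨v, hv, rfl⟩
      have huV' : u ∉ V := fun e => huV ⟨u, e, rfl⟩
      obtain ⟨c, -, hcV, hcu⟩ := h.F2 hf hO hu huV' hv
      have hcC : c ∈ centralizer (Z : Set G) := centralizer_le h.ZV hcV
      refine ⟨ρ c, ?_⟩
      rw [← hact c hcC u (h.IV_le_ws hu)]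
      have e : c * u * c⁻¹ = v * u := by rw [← hcu]; group
      rw [e, hπm v (hVW hv) u (h.IV_le_ws hu), mul_comm]
    · -- kh
      rintro φ ⟨k, hk, hk'⟩ x
      obtain ⟨g, hg, rfl⟩ := hρs x
      refine ⟨φ.comp (MulDistribMulAction.toMonoidHom M (ρ g)), ⟨g⁻¹ * k * g, mul_mem (mul_mem (inv_mem hg) hk) hg,
        fun w hw => ?_⟩, fun m => rfl⟩
      have h1 := hk' (g * w * g⁻¹) ((mem_normalizer_iff.1 (hWn (hCn hg)) w).1 hw)
      have h2 : ζ (φ (π (g * w * g⁻¹))) ∈ Z := (hran _).2 ⟨_, rfl⟩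
      have h3 := mem_centralizer_iff.1 (inv_mem hg) _ h2
      calc g⁻¹ * k * g * w * (g⁻¹ * k * g)⁻¹ * w⁻¹
          = g⁻¹ * (k * (g * w * g⁻¹) * k⁻¹ * (g * w * g⁻¹)⁻¹) * g := by group
        _ = ζ (φ (π (g * w * g⁻¹))) := by rw [h1, ← h3, inv_mul_cancel_right]
        _ = ζ ((φ.comp (MulDistribMulAction.toMonoidHom M (ρ g))) (π w)) := by
            rw [hact g hg w hw]; rfl
    · -- f1
      rintro _ ⟨v, hv, rfl⟩ hv1
      have hvZ := hlam1 v hv hv1
      obtain ⟨z, hz, hz1⟩ := h.pt_ne_bot h.isCj_self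
      obtain ⟨k, hk, -, hkv⟩ := h.K_act hf hv hvZ hz
      obtain ⟨φ, hφ, hφk⟩ := hexK k hk
      refine ⟨φ, hφ, fun e => hz1 ?_⟩
      rw [← hkv, hφk v (hVW hv), e, map_one]
    · -- ti
      rintro φ ⟨k, hk, hk'⟩ _ ⟨v, hv, rfl⟩ hv1 hφ _ ⟨u, hu, rfl⟩
      have hvZ := hlam1 v hv hv1
      have h1 := hk' v (hVW hv)
      rw [hφ, map_one, mul_inv_eq_one, mul_inv_eq_iff_eq_mul] at h1
      have h2 := h.mem_centralizer_of_fix (hcen hk) hv hvZ h1
      apply hinj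
      rw [← hk' u (hVW hu), map_one, mul_inv_eq_one, mul_inv_eq_iff_eq_mul]
      exact (mem_centralizer_iff.1 h2 u hu).symm
  refine ⟨H, M, K, iH, iM, iA, iK, ρ, π, ζ, T, lam, U, Kh, ?_⟩
  refine { re := Re, pl := h.ZV, mlam := fun m => Iff.rfl, mU := ?_, cov := ?_, flag := hflag, sy := hS,
           mT := fun t => Iff.rfl, cen := ?_, inj := hinj, ran := hran, kh := fun φ hφ => hφ,
           kh' := ?_, line := ?_, tr := ?_ }
  · -- mU
    intro m
    constructor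
    · rintro ⟨u, hu, rfl⟩
      exact ⟨u, h.IV_le_ws hu, fun y hy => IV_le y.isCj hy hu, rfl⟩
    · rintro ⟨u, -, hu', rfl⟩
      refine ⟨u, ?_, rfl⟩
      rw [IV, Subgroup.mem_sInf]
      rintro _ ⟨Y, hY, hYV, rfl⟩
      exact hu' (Pt.mk hY) hYV
  · -- cov
    intro c hc
    obtain ⟨g, hg, rfl⟩ := hρs c
    obtain ⟨v, hv, hvZ⟩ := h.exists_out
    have h1 : g * v * g⁻¹ * v⁻¹ ∈ Z := (hcm hg (hVW hv)).2 (hc _ ⟨v, hv, rfl⟩)
    obtain ⟨k, hk, -, hkv⟩ := h.K_act hf hv hvZ (Z.inv_mem h1)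
    have hkC := (hKx k hk).1
    have h2 : k * g * v = v * (k * g) := by
      have e1 : g * v * g⁻¹ = (g * v * g⁻¹ * v⁻¹) * v := by group
      have e2 : k * v * k⁻¹ = (g * v * g⁻¹ * v⁻¹)⁻¹ * v := by rw [← hkv]; group
      have e3 := hcen hkC _ h1
      rw [← mul_inv_eq_iff_eq_mul]
      calc k * g * v * (k * g)⁻¹ = k * (g * v * g⁻¹) * k⁻¹ := by group
        _ = k * (g * v * g⁻¹ * v⁻¹) * v * k⁻¹ := by rw [e1]; group
        _ = (g * v * g⁻¹ * v⁻¹) * (k * v * k⁻¹) := by rw [e3]; group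
        _ = v := by rw [e2]; group
    refine ⟨k * g, h.mem_centralizer_of_fix (hcen (mul_mem hkC hg)) hv hvZ h2, ?_⟩
    rw [hρm k hkC g hg, (hρk k hkC).2 (hKx k hk).2, one_mul]
  · -- cen
    intro w hw hws
    exact h.omega w (h.ws_le_S hw) (h.ws_sq w hw) hws
  · -- kh'
    intro k hk hk'
    exact exists_khat Re hran' D hinj h.Z_le_ws hk hk'
  · -- line
    intro x hx hxp v hv
    exact line_base h x.isCj hx (fun e => hxp (Pt.ext e)) hv
  · -- tr
    intro x y hx hxp hy hyp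
    obtain ⟨k, hk, -, hk'⟩ := h.K_trans hf y.isCj hy x.isCj hx (fun e => hyp (Pt.ext e)) (fun e => hxp (Pt.ext e))
    exact ⟨k, (hKx k hk).1, (hKx k hk).2, Pt.ext hk'⟩

/-- every flag of `PtGeom` is conjugate to the base flag -/
theorem exists_smul_flag {x : Pt Z} {l : Pt V} (hxl : inc x l) : ∃ g : G, x = g • Pt.base Z ∧ l = g • Pt.base V := by
  obtain ⟨g, h1, h2⟩ := exists_conj_flag h x.isCj l.isCj hxl
  exact ⟨g, Pt.ext h1, Pt.ext h2⟩

end

end Cfsg.Agent.Omega.NO3S.FarQ
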