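import Cfsg.Agent.Omega.NO3S.FarQ.Asm
import Cfsg.Agent.Omega.NO3S.FarQ.Ends
import Cfsg.Agent.Omega.NO3S.FarQ.Four

/-!
# NO-3S, `q ≥ 4`: the module facts (6.1), (6.2) on the `G`-side (helper263 #15995)

* `RF inc R W V p l ρ π lam U` : the flag `(p, l)` is realised by `(H, M)`, `lam = V_l / R_p`, `U = I_l / R_p`;
  `RF.smul` : transport;
* `RF.exact` : `Ex p l A` gives `Exact lam (ρ A)`;
* `RF.k1`, `RF.k2` : (6.1) (α), (β) if not `Single`; `RF.sp` : (6.2) if `Single`.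
-/

set_option autoImplicit false
set_option linter.unusedSectionVars false

namespace Cfsg.Agent.Omega.NO3S.FarQ.Glue

open Subgroup Cfsg Cfsg.Agent.ZN Cfsg.Agent.MinSimple.VModule Cfsg.Agent.Omega.NOThree.Pts
open Cfsg.Agent.Omega.NOThree.LemmaM (NoOver)
open Cfsg.Agent.Omega.NO3S.FarQ.Asm

variable {G X L : Type*} [Group G] [MulAction G X] [MulAction G L]
variable {inc : X → L → Prop} {R W : X → Subgroup G} {V : L → Subgroup G} {s t n : ℕ}
variable {H M : Type*} [Group H] [CommGroup M] [MulDistribMulAction H M]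

/-- **A realised flag.** -/
structure RF (inc : X → L → Prop) (R W : X → Subgroup G) (V : L → Subgroup G) (p : X) (l : L)
    (ρ : G → H) (π : G → M) (lam U : Subgroup M) : Prop where
  re : Four.Real R W p ρ π
  pl : inc p l
  mlam : ∀ m, m ∈ lam ↔ ∃ v ∈ V l, π v = m
  mU : ∀ m, m ∈ U ↔ ∃ u ∈ W p, (∀ y, inc y l → u ∈ W y) ∧ π u = m
  cov : ∀ c ∈ fixer lam, ∃ g ∈ centralizer (V l : Set G), ρ g = c

/-- `ρ(A)` -/
def im {p : X} {ρ : G → H} {π : G → M} (Re : Four.Real R W p ρ π) (A : Subgroup G)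
    (hA : A ≤ centralizer (R p : Set G)) : Subgroup H where
  carrier := {h | ∃ a ∈ A, ρ a = h}
  one_mem' := ⟨1, one_mem _, Re.one⟩
  mul_mem' := by
    rintro _ _ ⟨a, ha, rfl⟩ ⟨b, hb, rfl⟩
    exact ⟨a * b, mul_mem ha hb, Re.mul a (hA ha) b (hA hb)⟩
  inv_mem' := by
    rintro _ ⟨a, ha, rfl⟩
    exact ⟨a⁻¹, inv_mem ha, Re.inv (hA ha)⟩

theorem mem_im {p : X} {ρ : G → H} {π : G → M} {Re : Four.Real R W p ρ π} {A : Subgroup G}
    {hA : A ≤ centralizer (R p : Set G)} {h : H} : h ∈ im Re A hA ↔ ∃ a ∈ A, ρ a = h := Iff.rfl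

section real

variable {p : X} {ρ : G → H} {π : G → M} (Re : Four.Real R W p ρ π)
include Re

theorem π_one : π 1 = 1 := (Re.pker 1 (one_mem _)).2 (one_mem _)

theorem π_inv {v : G} (hv : v ∈ W p) : π v⁻¹ = (π v)⁻¹ := by
  have h4 := Re.pmul v hv v⁻¹ (inv_mem hv)
  rw [mul_inv_cancel, π_one Re] at h4
  exact (inv_eq_of_mul_eq_one_right h4.symm).symm

/-- `π [g, w] = (ρ g • π w) (π w)⁻¹` -/
theorem π_comm (D : Geom inc R W V s t) {g w : G} (hg : g ∈ centralizer (R p : Set G)) (hw : w ∈ W p) :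
    π (g * w * g⁻¹ * w⁻¹) = (ρ g • π w) * (π w)⁻¹ := by
  rw [Re.pmul _ (Four.norm_p D hg hw) _ (inv_mem hw), Re.act g hg w hw, π_inv Re hw]

theorem comm_mem_iff (D : Geom inc R W V s t) {g w : G} (hg : g ∈ centralizer (R p : Set G)) (hw : w ∈ W p) :
    g * w * g⁻¹ * w⁻¹ ∈ R p ↔ ρ g • π w = π w := by
  rw [← Re.pker _ (mul_mem (Four.norm_p D hg hw) (inv_mem hw)), π_comm Re D hg hw, mul_inv_eq_one]

/-- the fibres of `π` -/
theorem mem_mul_R {v w : G} (hv : v ∈ W p) (hw : w ∈ W p) (h : π v = π w) : v * w⁻¹ ∈ R p := by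
  rw [← Re.pker _ (mul_mem hv (inv_mem hw)), Re.pmul _ hv _ (inv_mem hw), π_inv Re hw, h, mul_inv_cancel]

end real

namespace RF

variable {p : X} {l : L} {ρ : G → H} {π : G → M} {lam U : Subgroup M}

/-- Transport. -/
theorem smul (D : Geom inc R W V s t) (F : RF inc R W V p l ρ π lam U) (g : G) :
    RF inc R W V (g • p) (g • l) (fun a => ρ (g⁻¹ * a * g)) (fun w => π (g⁻¹ * w * g)) lam U := by
  have mR : ∀ {x : X} {a : G}, a ∈ R (g • x) ↔ g⁻¹ * a * g ∈ R x := D.R_smul_iff g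
  have mW : ∀ {x : X} {a : G}, a ∈ W (g • x) ↔ g⁻¹ * a * g ∈ W x := D.W_smul_iff g
  have mV : ∀ {x : L} {a : G}, a ∈ V (g • x) ↔ g⁻¹ * a * g ∈ V x := by
    intro x a
    constructor
    · intro h
      have := D.V_smul g⁻¹ _ a h
      rwa [inv_smul_smul, inv_inv] at this
    · intro h
      have := D.V_smul g _ _ h
      have e : g * (g⁻¹ * a * g) * g⁻¹ = a := by group
      rwa [e] at this
  have hc : ∀ {a}, a ∈ centralizer (R (g • p) : Set G) → g⁻¹ * a * g ∈ centralizer (R p : Set G) := by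
    intro a ha
    rw [mem_centralizer_iff] at ha ⊢
    intro r hr
    have h1 := ha (g * r * g⁻¹) (D.R_smul g p r hr)
    calc r * (g⁻¹ * a * g) = g⁻¹ * ((g * r * g⁻¹) * a) * g := by group
      _ = g⁻¹ * (a * (g * r * g⁻¹)) * g := by rw [h1]
      _ = g⁻¹ * a * g * r := by group
  have hc' : ∀ {a}, a ∈ centralizer (R p : Set G) → g * a * g⁻¹ ∈ centralizer (R (g • p) : Set G) := by
    intro a ha
    rw [mem_centralizer_iff] at ha ⊢
    intro r hr
    have h1 := ha _ (mR.1 hr)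
    calc r * (g * a * g⁻¹) = g * ((g⁻¹ * r * g) * a) * g⁻¹ := by group
      _ = g * (a * (g⁻¹ * r * g)) * g⁻¹ := by rw [h1]
      _ = g * a * g⁻¹ * r := by group
  refine ⟨⟨?_, ?_, ?_, ?_, ?_, ?_, ?_⟩, D.inc_smul g _ _ F.pl, ?_, ?_, ?_⟩
  · intro a ha b hb
    have e : g⁻¹ * (a * b) * g = (g⁻¹ * a * g) * (g⁻¹ * b * g) := by group
    show ρ (g⁻¹ * (a * b) * g) = _
    rw [e, F.re.mul _ (hc ha) _ (hc hb)]
  · intro h
    obtain ⟨a, ha, rfl⟩ := F.re.surj h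
    refine ⟨g * a * g⁻¹, hc' ha, ?_⟩
    show ρ (g⁻¹ * (g * a * g⁻¹) * g) = ρ a
    congr 1; group
  · intro a ha
    show ρ (g⁻¹ * a * g) = 1 ↔ _
    rw [F.re.ker _ (hc ha)]
    constructor
    · intro h w hw
      rw [mR]
      have h1 := h _ (mW.1 hw)
      have e : g⁻¹ * (a * w * a⁻¹ * w⁻¹) * g = g⁻¹ * a * g * (g⁻¹ * w * g) * (g⁻¹ * a * g)⁻¹ * (g⁻¹ * w * g)⁻¹ := by
        group
      rwa [e]
    · intro h w hw
      have h1 := h (g * w * g⁻¹) (D.W_smul g p w hw)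
      rw [mR] at h1
      have e : g⁻¹ * (a * (g * w * g⁻¹) * a⁻¹ * (g * w * g⁻¹)⁻¹) * g =
          g⁻¹ * a * g * w * (g⁻¹ * a * g)⁻¹ * w⁻¹ := by group
      rwa [e] at h1
  · intro a ha b hb
    have e : g⁻¹ * (a * b) * g = (g⁻¹ * a * g) * (g⁻¹ * b * g) := by group
    show π (g⁻¹ * (a * b) * g) = _
    rw [e, F.re.pmul _ (mW.1 ha) _ (mW.1 hb)]
  · intro m
    obtain ⟨a, ha, rfl⟩ := F.re.psurj m
    refine ⟨g * a * g⁻¹, D.W_smul g p a ha, ?_⟩
    show π (g⁻¹ * (g * a * g⁻¹) * g) = π a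
    congr 1; group
  · intro a ha
    show π (g⁻¹ * a * g) = 1 ↔ _
    rw [F.re.pker _ (mW.1 ha), mR]
  · intro a ha w hw
    have e : g⁻¹ * (a * w * a⁻¹) * g = (g⁻¹ * a * g) * (g⁻¹ * w * g) * (g⁻¹ * a * g)⁻¹ := by group
    show π (g⁻¹ * (a * w * a⁻¹) * g) = _
    rw [e, F.re.act _ (hc ha) _ (mW.1 hw)]
  · intro m
    rw [F.mlam]
    constructor
    · rintro ⟨v, hv, rfl⟩
      refine ⟨g * v * g⁻¹, D.V_smul g l v hv, ?_⟩
      show π (g⁻¹ * (g * v * g⁻¹) * g) = π v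
      congr 1; group
    · rintro ⟨v, hv, rfl⟩
      exact ⟨_, mV.1 hv, rfl⟩
  · intro m
    rw [F.mU]
    constructor
    · rintro ⟨u, hu, hu', rfl⟩
      refine ⟨g * u * g⁻¹, D.W_smul g p u hu, fun y hy => ?_, ?_⟩
      · have h1 := D.inc_smul g⁻¹ _ _ hy
        rw [inv_smul_smul] at h1
        have h2 := D.W_smul g _ _ (hu' _ h1)
        rwa [smul_inv_smul] at h2
      · show π (g⁻¹ * (g * u * g⁻¹) * g) = π u
        congr 1; group
    · rintro ⟨u, hu, hu', rfl⟩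
      exact ⟨_, mW.1 hu, fun y hy => mW.1 (hu' _ (D.inc_smul g _ _ hy)), rfl⟩
  · intro c hcf
    obtain ⟨a, ha, rfl⟩ := F.cov c hcf
    refine ⟨g * a * g⁻¹, ?_, ?_⟩
    · rw [mem_centralizer_iff] at ha ⊢
      intro v hv
      have h1 := ha _ (mV.1 hv)
      calc v * (g * a * g⁻¹) = g * ((g⁻¹ * v * g) * a) * g⁻¹ := by group
        _ = g * (a * (g⁻¹ * v * g)) * g⁻¹ := by rw [h1]
        _ = g * a * g⁻¹ * v := by group
    · show ρ (g⁻¹ * (g * a * g⁻¹) * g) = ρ a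
      congr 1; group

variable (D : Geom inc R W V s t) (F : RF inc R W V p l ρ π lam U)
include D F

theorem cent_V_le : centralizer (V l : Set G) ≤ centralizer (R p : Set G) := centralizer_le (D.R_le p l F.pl)

omit F in
theorem A_le {A : Subgroup G} (hE : Ex inc R W V p l A) : A ≤ centralizer (R p : Set G) :=
  hE.le.trans ((o2_le _).trans (centralizer_le (D.R_le p l hE.ql)))

variable [Finite G]

/-- `ρ(O₂(C_G(V_l))) ≤ O₂(C_H(lam))` -/
theorem im_le {A : Subgroup G} (hA : A ≤ o2 (centralizer (V l : Set G))) (hA' : A ≤ centralizer (R p : Set G)) :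
    im F.re A hA' ≤ o2 (fixer lam) := by
  set Q := o2 (centralizer (V l : Set G)) with hQ
  have hQC : Q ≤ centralizer (V l : Set G) := o2_le _
  have hQR : Q ≤ centralizer (R p : Set G) := hQC.trans (cent_V_le D F)
  have h1 : im F.re Q hQR ≤ o2 (fixer lam) := by
    refine le_o2 ?_ ?_ ?_
    · rintro _ ⟨a, ha, rfl⟩
      intro m hm
      obtain ⟨v, hv, rfl⟩ := (F.mlam m).1 hm
      have hvW : v ∈ W p := D.V_le p l F.pl hv
      rw [← F.re.act a (hQR ha) v hvW]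
      congr 1
      have h2 := mem_centralizer_iff.1 (hQC ha) v hv
      rw [← h2]; group
    · rintro ⟨_, a, ha, rfl⟩
      obtain ⟨k, hk⟩ := o2_isPGroup (centralizer (V l : Set G)) ⟨a, ha⟩
      have hk' : a ^ 2 ^ k = 1 := congrArg Subtype.val hk
      refine ⟨k, Subtype.ext ?_⟩
      show ρ a ^ 2 ^ k = 1
      have hpow : ∀ j : ℕ, ρ (a ^ j) = ρ a ^ j := by
        intro j
        induction j with
        | zero => rw [pow_zero, pow_zero, F.re.one]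
        | succ j ih => rw [pow_succ, pow_succ, F.re.mul _ (pow_mem (hQR ha) j) _ (hQR ha), ih]
      rw [← hpow, hk', F.re.one]
    · refine mem_normalizer_of_conj ?_
      rintro c hc _ ⟨a, ha, rfl⟩
      obtain ⟨g, hg, rfl⟩ := F.cov c hc
      refine ⟨g * a * g⁻¹, conj_mem_of_le_normalizer (le_normalizer_o2 _) hg ha, ?_⟩
      exact F.re.conj (cent_V_le D F hg) (hQR ha)
  refine le_trans ?_ h1
  rintro _ ⟨a, ha, rfl⟩
  exact ⟨a, hA ha, rfl⟩

/-- **The image of an exact group is exact.** -/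
theorem exact {A : Subgroup G} (hE : Ex inc R W V p l A) : Exact lam (im F.re A (A_le D hE)) := by
  have hAR := A_le D hE
  have hcomm : ∀ a ∈ A, ∀ u ∈ W p, π (a * u * a⁻¹ * u⁻¹) = (ρ a • π u) * (π u)⁻¹ :=
    fun a ha u hu => π_comm F.re D (hAR ha) hu
  refine ⟨?_, im_le D F hE.le _, ?_, ?_, ?_, ?_⟩
  · intro h0
    obtain ⟨a, ha, u, hu, hne⟩ := hE.ne
    apply hne
    have h1 : ρ a ∈ im F.re A hAR := ⟨a, ha, rfl⟩
    rw [h0, mem_bot] at h1
    rw [comm_mem_iff F.re D (hAR ha) hu, h1, one_smul]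
  · rintro _ ⟨a, ha, rfl⟩ _ ⟨b, hb, rfl⟩
    rw [← F.re.mul a (hAR ha) b (hAR hb), hE.comm a ha b hb, F.re.mul b (hAR hb) a (hAR ha)]
  · rintro _ ⟨a, ha, rfl⟩
    rw [← F.re.mul a (hAR ha) a (hAR ha), hE.sq a ha, F.re.one]
  · rintro _ ⟨a, ha, rfl⟩ _ ⟨b, hb, rfl⟩ m
    obtain ⟨u, hu, rfl⟩ := F.re.psurj m
    rw [← hcomm a ha u hu, ← F.re.act b (hAR hb) _ (mul_mem (Four.norm_p D (hAR ha) hu) (inv_mem hu))]
    congr 1
    rw [hE.quad a ha b hb u hu, mul_inv_cancel_right]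
  · -- cardinalities
    let φ : A →* H := MonoidHom.mk' (fun a => ρ a) (fun a b => F.re.mul a (hAR a.2) b (hAR b.2))
    let ψ : W p →* M := MonoidHom.mk' (fun a => π a) (fun a b => F.re.pmul a a.2 b b.2)
    have hψ : Function.Surjective ψ := fun m => by
      obtain ⟨u, hu, rfl⟩ := F.re.psurj m
      exact ⟨⟨u, hu⟩, rfl⟩
    have hrange : φ.range = im F.re A hAR := by
      ext h
      constructor
      · rintro ⟨a, rfl⟩
        exact ⟨a, a.2, rfl⟩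
      · rintro ⟨a, ha, rfl⟩
        exact ⟨⟨a, ha⟩, rfl⟩
    set C' := (zm M (im F.re A hAR)).comap ψ with hC'
    have h1 := hE.eq (φ.ker.map A.subtype) (C'.map (W p).subtype) ?_ ?_
    · have e0 : Nat.card (im F.re A hAR) = φ.ker.index := by rw [← hrange, index_ker]
      rw [e0, ← index_comap_of_surjective _ hψ, ← hC']
      have e1 : (φ.ker.map A.subtype).relIndex A = φ.ker.index := by
        unfold relIndex
        rw [subgroupOf, comap_map_eq_self_of_injective A.subtype_injective]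
      have e2 : (C'.map (W p).subtype).relIndex (W p) = C'.index := by
        unfold relIndex
        rw [subgroupOf, comap_map_eq_self_of_injective (W p).subtype_injective]
      rw [e1, e2] at h1
      exact h1
    · intro a
      constructor
      · rintro ⟨⟨b, hb⟩, hb1, rfl⟩
        refine ⟨hb, fun u hu => ?_⟩
        have hb1' : ρ b = 1 := hb1
        show b * u * b⁻¹ * u⁻¹ ∈ R p
        rw [comm_mem_iff F.re D (hAR hb) hu, hb1', one_smul]
      · rintro ⟨ha, ha'⟩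
        refine ⟨⟨a, ha⟩, ?_, rfl⟩
        show ρ a = 1
        exact (F.re.ker a (hAR ha)).2 ha'
    · intro u
      constructor
      · rintro ⟨⟨v, hv⟩, hv1, rfl⟩
        refine ⟨hv, fun a ha => ?_⟩
        have hv1' : π v ∈ zm M (im F.re A hAR) := hv1
        show a * v * a⁻¹ * v⁻¹ ∈ R p
        rw [comm_mem_iff F.re D (hAR ha) hv]
        exact hv1' _ ⟨a, ha, rfl⟩
      · rintro ⟨hu, hu'⟩
        refine ⟨⟨u, hu⟩, ?_, rfl⟩
        show π u ∈ zm M (im F.re A hAR)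
        rintro _ ⟨a, ha, rfl⟩
        exact (comm_mem_iff F.re D (hAR ha) hu).1 (hu' a ha)

variable {K : Type*} [CommGroup K] {T : Subgroup H} {Kh : Subgroup (M →* K)} {Pi : Set (Subgroup H)}
  (hF : Flag T lam U Kh) (hP : PSq K T lam Pi)
include hF hP

/-- **(6.1)(α)** -/
theorem k1 (hns : ¬ Single Pi lam) {A : Subgroup G} (hE : Ex inc R W V p l A) {y : X} (hy : inc y l)
    (hyp : y ≠ p) : ¬ ∀ a ∈ A, ∀ u ∈ W p, a * u * a⁻¹ * u⁻¹ ∈ W y := by
  intro h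
  have hAR := A_le D hE
  refine PSq.no_alpha hF hP (exact D F hE) hns (em_le_iff.2 ?_)
  rintro _ ⟨a, ha, rfl⟩ m
  obtain ⟨u, hu, rfl⟩ := F.re.psurj m
  have h1 : a * u * a⁻¹ * u⁻¹ ∈ W p := mul_mem (Four.norm_p D (hAR ha) hu) (inv_mem hu)
  rw [← π_comm F.re D (hAR ha) hu, F.mU]
  exact ⟨_, h1, fun z hz => D.inf_le F.pl hy hz hyp.symm ⟨h1, h a ha u hu⟩, rfl⟩

/-- **(6.1)(β)** -/
theorem k2 (hns : ¬ Single Pi lam) {A : Subgroup G} (hE : Ex inc R W V p l A) {y : X} (hy : inc y l)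
    (hyp : y ≠ p) : ¬ ∀ u ∈ W p, (∀ a ∈ A, a * u * a⁻¹ * u⁻¹ ∈ R p) → u ∈ W y := by
  intro h
  have hAR := A_le D hE
  refine PSq.no_beta hF hP (exact D F hE) hns ?_
  intro m hm
  obtain ⟨u, hu, rfl⟩ := F.re.psurj m
  have h1 : u ∈ W y := h u hu fun a ha =>
    (comm_mem_iff F.re D (hAR ha) hu).2 (hm _ (show ρ a ∈ im F.re A hAR from ⟨a, ha, rfl⟩))
  refine (F.mU _).2 ⟨u, hu, fun z hz => D.inf_le F.pl hy hz hyp.symm (mem_inf.2 ⟨hu, h1⟩), rfl⟩

/-- **(6.2)** -/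
theorem sp (hs : Single Pi lam) {A : Subgroup G} (hE : Ex inc R W V p l A) {a u : G} (ha : a ∈ A)
    (hu : u ∈ W p) : ∃ m, inc p m ∧ a * u * a⁻¹ * u⁻¹ ∈ V m := by
  have hAR := A_le D hE
  have h1 : a * u * a⁻¹ * u⁻¹ ∈ W p := mul_mem (Four.norm_p D (hAR ha) hu) (inv_mem hu)
  by_cases h0 : π (a * u * a⁻¹ * u⁻¹) = 1
  · exact ⟨l, F.pl, D.R_le p l F.pl ((F.re.pker _ h1).1 h0)⟩
  have he : π (a * u * a⁻¹ * u⁻¹) ∈ em M (im F.re A hAR) := by
    rw [π_comm F.re D (hAR ha) hu]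
    exact comm_mem_em (show ρ a ∈ im F.re A hAR from ⟨a, ha, rfl⟩) _
  obtain ⟨h, b, hb, hhb⟩ := PSq.single hF hP hs (exact D F hE) he h0
  obtain ⟨g, hg, rfl⟩ := F.re.surj h
  obtain ⟨v, hv, rfl⟩ := (F.mlam b).1 hb
  have hvW : v ∈ W p := D.V_le p l F.pl hv
  rw [← F.re.act g hg v hvW] at hhb
  have h2 := mem_mul_R F.re h1 (Four.norm_p D hg hvW) hhb.symm
  have h3 : inc p (g • l) := by
    have := D.inc_smul g _ _ F.pl
    rwa [Four.fix_p D hg] at this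
  refine ⟨g • l, h3, ?_⟩
  have h4 := mul_mem (D.R_le p _ h3 h2) (D.V_smul g l v hv)
  rwa [inv_mul_cancel_right] at h4

end RF

end Cfsg.Agent.Omega.NO3S.FarQ.Glue
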