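import Cfsg.Agent.Omega.NO3S.FarQ.Nat

/-!
# FarQ: the K-facts, the part common to all types

`Lin F B J π` : `J` acts `F`-linearly on `B = M / C_M(J)` and transitively on the nonzero vectors.

* `exists_act` : the normalizer of `J` acts additively on `B`;
* `cent` : `C_J(π a) = C_J(a)` for `a ∈ lam`;
* `tor_of` : `KTor`, by one application of Sylow's theorem in `N_T(J) J`;
* `trans_of` : `KTrans`;
* `em_le_closure` : `[M, J] = ⟨lam^J⟩`;
* `act_eq` : an element of `N_H(J)` which acts on `B` as `j ∈ J` acts on `[M, J]` as `j`;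
* `exists_zero` : `Φ₀ ≠ 1` (for `GoodB`).
-/

set_option autoImplicit false

namespace Cfsg.Agent.Omega.NO3S.FarQ.KCom

open Subgroup Cfsg.Agent.ZN Cfsg.Agent.Omega.NO3S.PT
open Cfsg.Agent.ClassTwoFusion.Quad (cv mem_cv cv_anti)
open scoped Pointwise

section syl

variable {G : Type*} [Group G]

/-- Sylow's theorem in `N`, for a subgroup `T` with `|N : T|` odd. -/
theorem exists_conj_le [Finite G] {N T X : Subgroup G} (hT : IsPGroup 2 T) (hd : ¬ 2 ∣ T.relIndex N)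
    (hX : IsPGroup 2 X) (hXN : X ≤ N) : ∃ c ∈ N, ∀ x ∈ X, c * x * c⁻¹ ∈ T := by
  have : Fact (Nat.Prime 2) := ⟨Nat.prime_two⟩
  have hX' : IsPGroup 2 (X.subgroupOf N) := hX.comap_subtype
  obtain ⟨S2, hS2⟩ := hX'.exists_le_sylow
  obtain ⟨c, hc⟩ := MulAction.exists_smul_eq N S2
    ((hT.comap_of_injective _ N.subtype_injective).toSylow hd)
  refine ⟨c, c.2, fun x hx => ?_⟩
  have h1 : (⟨x, hXN hx⟩ : N) ∈ (S2 : Subgroup N) := hS2 (Subgroup.mem_subgroupOf.mpr hx)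
  have h2 : c * ⟨x, hXN hx⟩ * c⁻¹ ∈ ((c • S2 : Sylow 2 N) : Subgroup N) := by
    rw [Sylow.coe_subgroup_smul]
    exact Subgroup.smul_mem_pointwise_smul _ (MulAut.conj c) _ h1
  rw [hc] at h2
  exact mem_subgroupOf.1 h2

theorem card_mul_relIndex {A C : Subgroup G} (h : A ≤ C) : Nat.card A * A.relIndex C = Nat.card C := by
  rw [Subgroup.relIndex, ← Nat.card_congr (Subgroup.subgroupOfEquivOfLe h).toEquiv]
  exact Subgroup.card_mul_index _

/-- `|K L| |K ∩ L| = |K| |L|` -/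
theorem card_sup_mul {K L : Subgroup G} (h : L ≤ normalizer (K : Set G)) :
    Nat.card (K ⊔ L : Subgroup G) * Nat.card (K ⊓ L : Subgroup G) = Nat.card K * Nat.card L := by
  have hKn : (K.subgroupOf (K ⊔ L)).Normal :=
    normal_subgroupOf_of_le_normalizer (sup_le le_normalizer h)
  have h1 := relIndex_sup_left (L.subgroupOf (K ⊔ L)) (K.subgroupOf (K ⊔ L))
  rw [← Subgroup.subgroupOf_sup le_sup_left le_sup_right, Subgroup.subgroupOf_self,
    Subgroup.relIndex_subgroupOf le_sup_right, relIndex_top_right] at h1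
  have h2 : Nat.card K * K.relIndex L = Nat.card (K ⊔ L : Subgroup G) := by
    rw [← h1]
    exact card_mul_relIndex le_sup_left
  have h3 : Nat.card (K ⊓ L : Subgroup G) * K.relIndex L = Nat.card L := by
    rw [← Subgroup.inf_relIndex_right K L]
    exact card_mul_relIndex inf_le_right
  calc _ = Nat.card (K ⊔ L : Subgroup G) * Nat.card (K ⊓ L : Subgroup G) := rfl
    _ = Nat.card K * (Nat.card (K ⊓ L : Subgroup G) * K.relIndex L) := by rw [← h2]; ring
    _ = _ := by rw [h3]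

/-- `|J T : T| = |J : T ∩ J|` -/
theorem relIndex_sup [Finite G] {T J : Subgroup G} (hn : T ≤ normalizer (J : Set G)) :
    T.relIndex (J ⊔ T) = (J ⊓ T).relIndex J := by
  have h1 := card_sup_mul hn
  have h2 := card_mul_relIndex (le_sup_right : T ≤ J ⊔ T)
  have h3 := card_mul_relIndex (inf_le_left : J ⊓ T ≤ J)
  have h4 : 0 < Nat.card T := Nat.card_pos
  have h5 : 0 < Nat.card (J ⊓ T : Subgroup G) := Nat.card_pos
  rw [← h2, ← h3] at h1
  have h6 : (Nat.card T * Nat.card (J ⊓ T : Subgroup G)) * T.relIndex (J ⊔ T) =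
      (Nat.card T * Nat.card (J ⊓ T : Subgroup G)) * (J ⊓ T).relIndex J := by
    calc _ = Nat.card T * T.relIndex (J ⊔ T) * Nat.card (J ⊓ T : Subgroup G) := by ring
      _ = _ := by rw [h1]; ring
  exact Nat.eq_of_mul_eq_mul_left (Nat.mul_pos h4 h5) h6

/-- elements of `J T`, `T ≤ N(J)` -/
theorem mem_sup_of {T J : Subgroup G} (hn : T ≤ normalizer (J : Set G)) {x : G} (hx : x ∈ J ⊔ T) :
    ∃ j ∈ J, ∃ t ∈ T, x = t * j := by
  have h1 : ((T ⊔ J : Subgroup G) : Set G) = (T : Set G) * J := coe_mul_of_left_le_normalizer_right T J hn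
  rw [sup_comm] at hx
  have h2 : x ∈ (T : Set G) * J := by rw [← h1]; exact hx
  obtain ⟨t, ht, j, hj, e⟩ := Set.mem_mul.1 h2
  exact ⟨j, hj, t, ht, e.symm⟩

end syl

variable {H M : Type*} [Group H] [CommGroup M] [MulDistribMulAction H M]
variable {F B : Type*} [Field F] [AddCommGroup B] [Module F B]
variable {T J : Subgroup H} {lam : Subgroup M} {π : M → B}

/-- `J` acts `F`-linearly on `B` and transitively on the nonzero vectors -/
structure Lin (F B : Type*) [Field F] [AddCommGroup B] [Module F B] (J : Subgroup H) (π : M → B) : Prop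
    extends Proj F B J π where
  lin : ∀ j ∈ J, ∃ f : B ≃ₗ[F] B, ∀ m : M, π (j • m) = f (π m)
  tr : ∀ x y : B, x ≠ 0 → y ≠ 0 → ∃ j ∈ J, ∀ m : M, π m = x → π (j • m) = y

section proj

theorem pi_one (hP : Proj F B J π) : π 1 = 0 := (hP.ker 1).2 (one_mem _)

theorem pi_inv (hP : Proj F B J π) (m : M) : π m⁻¹ = -π m := by
  have h := hP.add m m⁻¹
  rw [mul_inv_cancel, pi_one hP] at h
  exact (neg_eq_of_add_eq_zero_right h.symm).symm

theorem pi_eq (hP : Proj F B J π) {m n : M} : π m = π n ↔ m * n⁻¹ ∈ zm M J := by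
  rw [← hP.ker, hP.add, pi_inv hP, ← sub_eq_add_neg, sub_eq_zero]

theorem smul_zm {h : H} (hn : h ∈ normalizer (J : Set H)) {m : M} (hm : m ∈ zm M J) : h • m ∈ zm M J := by
  intro j hj
  have h1 : h⁻¹ * j * h ∈ J := by
    have h2 := (mem_normalizer_iff.1 (inv_mem hn) j).1 hj
    rwa [inv_inv] at h2
  have h2 : (h⁻¹ * j * h) • m = m := hm _ h1
  calc j • h • m = h • ((h⁻¹ * j * h) • m) := by simp only [smul_smul]; congr 1; group
    _ = h • m := by rw [h2]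

theorem pi_congr (hP : Proj F B J π) {h : H} (hn : h ∈ normalizer (J : Set H)) {m n : M} (e : π m = π n) :
    π (h • m) = π (h • n) := by
  rw [pi_eq hP] at e ⊢
  rw [← smul_inv', ← smul_mul']
  exact smul_zm hn e

theorem pi_congr_J (hP : Proj F B J π) {h : H} (hn : h ∈ J) {m n : M} (e : π m = π n) :
    π (h • m) = π (h • n) := pi_congr hP (le_normalizer hn) e

/-- the normalizer of `J` acts on `B` -/
theorem exists_act (hP : Proj F B J π) {h : H} (hn : h ∈ normalizer (J : Set H)) :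
    ∃ τ : B ≃+ B, ∀ m : M, π (h • m) = τ (π m) := by
  choose s hs using hP.surj
  refine ⟨{ toFun := fun b => π (h • s b), invFun := fun b => π (h⁻¹ • s b), left_inv := fun b => ?_,
            right_inv := fun b => ?_, map_add' := fun b c => ?_ }, fun m => ?_⟩
  · show π (h⁻¹ • s (π (h • s b))) = b
    rw [pi_congr hP (inv_mem hn) (hs (π (h • s b))), inv_smul_smul, hs]
  · show π (h • s (π (h⁻¹ • s b))) = b
    rw [pi_congr hP hn (hs (π (h⁻¹ • s b))), smul_inv_smul, hs]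
  · show π (h • s (b + c)) = π (h • s b) + π (h • s c)
    rw [← hP.add, ← smul_mul']
    exact pi_congr hP hn (by rw [hs, hP.add, hs, hs])
  · show π (h • m) = π (h • s (π m))
    exact pi_congr hP hn (hs _).symm

end proj

/-! ### `C_J(π a) = C_J(a)` -/

/-- `{h ∈ N_H(J) | h (π a) = π a}` -/
def stab (hP : Proj F B J π) (a : M) : Subgroup H where
  carrier := {h | h ∈ normalizer (J : Set H) ∧ π (h • a) = π a}
  one_mem' := ⟨one_mem _, by rw [one_smul]⟩
  mul_mem' := by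
    rintro x y ⟨hx, ex⟩ ⟨hy, ey⟩
    exact ⟨mul_mem hx hy, by rw [mul_smul, pi_congr hP hx ey, ex]⟩
  inv_mem' := by
    rintro x ⟨hx, ex⟩
    refine ⟨inv_mem hx, ?_⟩
    have h := pi_congr hP (inv_mem hx) ex
    rw [inv_smul_smul] at h
    exact h.symm

theorem mem_stab (hP : Proj F B J π) {a : M} {h : H} :
    h ∈ stab hP a ↔ h ∈ normalizer (J : Set H) ∧ π (h • a) = π a := Iff.rfl

theorem isPGroup_of_sq (hsq : ∀ m : M, m * m = 1) (N : Subgroup M) : IsPGroup 2 N := by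
  intro m
  refine ⟨1, ?_⟩
  rw [pow_one, pow_two]
  exact Subtype.ext (hsq m)

/-- **`C_J(π a) = C_J(a)`** for `a` fixed by a Sylow 2-subgroup of `J`. -/
theorem cent_of (hP : Proj F B J π) (finM : Finite M) (hsq : ∀ m : M, m * m = 1) {S : Subgroup H}
    (hSJ : S ≤ J) (syl : ¬ 2 ∣ S.relIndex J) {a : M} (ha : ∀ s ∈ S, s • a = a) {j : H} (hj : j ∈ J)
    (h : π (j • a) = π a) : j • a = a := by
  have hf : Fact (Nat.Prime 2) := ⟨Nat.prime_two⟩
  set C : Subgroup H := stab hP a ⊓ J with hC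
  have hz : ∀ k ∈ C, (k • a) * a⁻¹ ∈ zm M J := fun k hk => (pi_eq hP).1 hk.1.2
  let δ : ↥C →* M :=
    { toFun := fun k => ((k : H) • a) * a⁻¹
      map_one' := by rw [coe_one, one_smul, mul_inv_cancel]
      map_mul' := by
        intro k l
        have h1 : (k : H) • (((l : H) • a) * a⁻¹) = ((l : H) • a) * a⁻¹ := hz l l.2 k k.2.2
        rw [smul_mul', smul_inv'] at h1
        rw [coe_mul, mul_smul]
        have h2 : (k : H) • (l : H) • a = (((l : H) • a) * a⁻¹) * ((k : H) • a) := by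
          rw [← h1, inv_mul_cancel_right]
        rw [h2, mul_assoc]
        exact mul_comm _ _ }
  have hSC : S ≤ C := fun s hs => ⟨⟨le_normalizer (hSJ hs), by rw [ha s hs]⟩, hSJ hs⟩
  have h1 : S.subgroupOf C ≤ δ.ker := by
    intro k hk
    rw [MonoidHom.mem_ker]
    change ((k : H) • a) * a⁻¹ = 1
    rw [ha _ (mem_subgroupOf.1 hk), mul_inv_cancel]
  have h2 : δ.ker.index ∣ S.relIndex J := by
    refine (index_dvd_of_le h1).trans ?_
    exact Dvd.intro _ (relIndex_mul_relIndex S C J hSC inf_le_right)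
  rw [index_ker] at h2
  obtain ⟨n, hn⟩ := IsPGroup.iff_card.1 (isPGroup_of_sq hsq δ.range)
  rw [hn] at h2
  have h3 : n = 0 := by
    by_contra h0
    exact syl ((dvd_pow_self 2 h0).trans h2)
  rw [h3, pow_zero] at hn
  have h4 : δ.range = ⊥ := card_eq_one.1 hn
  have h5 : δ ⟨j, ⟨le_normalizer hj, h⟩, hj⟩ ∈ δ.range := ⟨_, rfl⟩
  rw [h4, mem_bot] at h5
  exact mul_inv_eq_one.1 h5

/-- `C_J(π a) = C_J(lam)` for `1 ≠ a ∈ lam` -/
theorem cent (hK : Blk T lam J) (hP : Proj F B J π) {a : M} (ha : a ∈ lam) (h1 : a ≠ 1) {j : H} (hj : j ∈ J)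
    (h : π (j • a) = π a) : ∀ b ∈ lam, j • b = b :=
  hK.lin a ha h1 j (cent_of hP hK.finM hK.sq inf_le_right hK.syl (fun s hs => hK.fix s hs.1 a ha) hj h)

/-! ### The torus element -/

theorem exists_ne (h4 : 4 ≤ Nat.card lam) (x y : M) : ∃ a ∈ lam, a ≠ x ∧ a ≠ y := by
  classical
  by_contra hcon
  push Not at hcon
  have h1 : Function.Injective (fun a : ↥lam => decide ((a : M) = x)) := by
    intro a b e
    have e' : decide ((a : M) = x) = decide ((b : M) = x) := e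
    by_cases ha : (a : M) = x
    · by_cases hb : (b : M) = x
      · exact Subtype.ext (ha.trans hb.symm)
      · rw [decide_eq_true ha, decide_eq_false hb] at e'
        exact absurd e' (by decide)
    · by_cases hb : (b : M) = x
      · rw [decide_eq_false ha, decide_eq_true hb] at e'
        exact absurd e' (by decide)
      · exact Subtype.ext ((hcon a a.2 ha).trans (hcon b b.2 hb).symm)
  have h2 := Nat.card_le_card_of_injective _ h1
  rw [Nat.card_eq_fintype_card (α := Bool), Fintype.card_bool] at h2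
  omega

theorem clin_J (hL : Lin F B J π) (c : F) {j : H} (hj : j ∈ J) {m n : M} (e : π n = c • π m) :
    π (j • n) = c • π (j • m) := by
  obtain ⟨f, hf⟩ := hL.lin j hj
  rw [hf, hf, e, map_smul]

/-- an element of `N_H(J)` fixing `a₁`, `a₂`, where `π a₂ = c π a₁ ≠ 0`, is `c`-linear on `B` -/
theorem clin_T (hL : Lin F B J π)
    (schur : ∀ f : B →+ B, (∀ j ∈ J, ∀ m n : M, f (π m) = π n → f (π (j • m)) = π (j • n)) → ∃ c : F, ∀ b, f b = c • b)
    {c : F} {a₁ a₂ : M} (h1 : π a₁ ≠ 0) (h2 : π a₂ = c • π a₁) {t : H} (ht : t ∈ normalizer (J : Set H))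
    (e1 : t • a₁ = a₁) (e2 : t • a₂ = a₂) {m n : M} (e : π n = c • π m) : π (t • n) = c • π (t • m) := by
  have hP := hL.toProj
  obtain ⟨τ, hτ⟩ := exists_act hP ht
  obtain ⟨s, hs⟩ := schur
    { toFun := fun b => τ (c • τ.symm b)
      map_zero' := by rw [map_zero, smul_zero, map_zero]
      map_add' := fun b b' => by rw [map_add, smul_add, map_add] }
    (by
      intro j hj m n hf
      have hf' : τ (c • τ.symm (π m)) = π n := hf
      show τ (c • τ.symm (π (j • m))) = π (j • n)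
      have hj' : t⁻¹ * j * t ∈ J := by
        have h := (mem_normalizer_iff.1 (inv_mem ht) j).1 hj
        rwa [inv_inv] at h
      obtain ⟨f', hf'⟩ := hL.lin _ hj'
      have hsym : ∀ x : M, τ.symm (π x) = π (t⁻¹ • x) := by
        intro x
        rw [AddEquiv.symm_apply_eq, ← hτ, smul_inv_smul]
      have h3 : τ.symm (π (j • m)) = f' (τ.symm (π m)) := by
        rw [hsym, hsym, ← hf']
        congr 1
        simp only [smul_smul]
        congr 1
        group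
      obtain ⟨n', hn'⟩ := hP.surj (c • τ.symm (π m))
      have h4 : π (t • n') = π n := by
        rw [hτ, hn']
        exact hf
      rw [h3, ← map_smul, ← hn', ← hf', ← hτ]
      have h5 : t • (t⁻¹ * j * t) • n' = j • t • n' := by
        simp only [smul_smul]
        congr 1
        group
      rw [h5]
      exact pi_congr_J hP hj h4)
  have hs' : ∀ b, τ (c • τ.symm b) = s • b := hs
  have h3 : τ (π a₁) = π a₁ := by rw [← hτ, e1]
  have h4 : s = c := by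
    have h5 := hs' (π a₁)
    have h6 : τ.symm (π a₁) = π a₁ := by rw [AddEquiv.symm_apply_eq, h3]
    rw [h6, ← h2, ← hτ, e2, h2] at h5
    exact (smul_left_injective F h1 h5).symm
  have h5 := hs' (τ (π m))
  rw [AddEquiv.symm_apply_apply, h4] at h5
  rw [hτ, hτ, e, h5]

/-- all of `π lam` lies in one line -/
theorem exists_scal (hK : Blk T lam J) (hP : Proj F B J π)
    (line : ∀ v w : B, v ≠ 0 → (∀ t ∈ T ⊓ J, ∀ m, π m = v → π (t • m) = v) →
      (∀ t ∈ T ⊓ J, ∀ m, π m = w → π (t • m) = w) → ∃ c : F, w = c • v)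
    {a₁ a : M} (ha₁ : a₁ ∈ lam) (h11 : a₁ ≠ 1) (ha : a ∈ lam) : ∃ c : F, π a = c • π a₁ := by
  have hfix : ∀ a ∈ lam, ∀ t ∈ T ⊓ J, ∀ m, π m = π a → π (t • m) = π a := by
    intro a ha t ht m hm
    rw [pi_congr_J hP ht.2 hm, hK.fix t ht.1 a ha]
  exact line (π a₁) (π a) (fun h => h11 (hK.inf a₁ ha₁ ((hP.ker a₁).1 h))) (hfix a₁ ha₁) (hfix a ha)

/-- **an element of `J` normalising `N_T(J)` and moving `π a₁` to `π a₂`** -/
theorem exists_theta (hK : Blk T lam J) (hL : Lin F B J π)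
    (line : ∀ v w : B, v ≠ 0 → (∀ t ∈ T ⊓ J, ∀ m, π m = v → π (t • m) = v) →
      (∀ t ∈ T ⊓ J, ∀ m, π m = w → π (t • m) = w) → ∃ c : F, w = c • v)
    (schur : ∀ f : B →+ B, (∀ j ∈ J, ∀ m n : M, f (π m) = π n → f (π (j • m)) = π (j • n)) →
      ∃ c : F, ∀ b, f b = c • b)
    {a₁ a₂ : M} (ha₁ : a₁ ∈ lam) (h11 : a₁ ≠ 1) (ha₂ : a₂ ∈ lam) (h21 : a₂ ≠ 1) :
    ∃ θ ∈ J, (∀ t ∈ T ⊓ normalizer (J : Set H), θ * t * θ⁻¹ ∈ T ⊓ normalizer (J : Set H)) ∧ π (θ • a₁) = π a₂ := by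
  have := hK.finH
  have hP := hL.toProj
  have hv : π a₁ ≠ 0 := fun h => h11 (hK.inf a₁ ha₁ ((hP.ker a₁).1 h))
  obtain ⟨c, hc⟩ := exists_scal hK hP line ha₁ h11 ha₂
  have hc0 : c ≠ 0 := by
    rintro rfl
    rw [zero_smul] at hc
    exact h21 (hK.inf a₂ ha₂ ((hP.ker a₂).1 hc))
  set TJ : Subgroup H := T ⊓ normalizer (J : Set H) with hTJ
  have hn : TJ ≤ normalizer (J : Set H) := inf_le_right
  set D : Subgroup H := J ⊔ TJ with hD
  have hDn : D ≤ normalizer (J : Set H) := sup_le le_normalizer hn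
  -- elements of `D` are `c`-linear
  have clin : ∀ h ∈ D, ∀ m n : M, π n = c • π m → π (h • n) = c • π (h • m) := by
    intro h hh m n e
    obtain ⟨j, hj, t, ht, rfl⟩ := mem_sup_of hn hh
    rw [mul_smul, mul_smul]
    exact clin_T hL schur hv hc ht.2 (hK.fix t ht.1 a₁ ha₁) (hK.fix t ht.1 a₂ ha₂) (clin_J hL c hj e)
  set C : Subgroup H := stab hP a₁ ⊓ D with hC
  have hTC : TJ ≤ C := fun t ht => ⟨⟨ht.2, by rw [hK.fix t ht.1 a₁ ha₁]⟩, (le_sup_right : TJ ≤ D) ht⟩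
  have hinf : J ⊓ TJ = T ⊓ J := by
    ext x
    constructor
    · rintro ⟨h1, h2⟩
      exact ⟨h2.1, h1⟩
    · rintro ⟨h1, h2⟩
      exact ⟨h2, h1, le_normalizer h2⟩
  have hsyl : ¬ 2 ∣ TJ.relIndex C := by
    intro h
    apply hK.syl
    rw [← hinf, ← relIndex_sup hn]
    exact h.trans (Dvd.intro _ (relIndex_mul_relIndex TJ C D hTC inf_le_right))
  have hp : IsPGroup 2 TJ := hK.two.to_le inf_le_left
  obtain ⟨j, hj, hjv⟩ := hL.tr (π a₁) (π a₂) hv (by rw [hc]; exact smul_ne_zero hc0 hv)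
  have hja : π (j • a₁) = π a₂ := hjv a₁ rfl
  -- the conjugate of `TJ`
  have hX : IsPGroup 2 (cj j TJ) := by
    rw [cj, pointwise_smul_def]
    exact hp.map _
  have hXC : cj j TJ ≤ C := by
    intro x hx
    rw [mem_cj] at hx
    set t := j⁻¹ * x * j with ht
    have hxe : x = j * t * j⁻¹ := by rw [ht]; group
    have hxD : x ∈ D := by
      rw [hxe]
      exact mul_mem (mul_mem ((le_sup_left : J ≤ D) hj) ((le_sup_right : TJ ≤ D) hx))
        (inv_mem ((le_sup_left : J ≤ D) hj))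
    refine ⟨⟨hDn hxD, ?_⟩, hxD⟩
    have h1 : π (j⁻¹ • a₂) = π a₁ := by
      rw [pi_congr_J hP (inv_mem hj) hja.symm, inv_smul_smul]
    have h2 : π (t • j⁻¹ • a₂) = π a₁ := by
      rw [pi_congr hP hx.2 h1, hK.fix t hx.1 a₁ ha₁]
    have h3 : π (x • a₂) = π a₂ := by
      have h4 : x • a₂ = j • t • j⁻¹ • a₂ := by rw [hxe, mul_smul, mul_smul]
      rw [h4, pi_congr_J hP hj h2, hja]
    have h4 := clin x hxD a₁ a₂ hc
    rw [h3, hc] at h4
    exact ((smul_right_injective B hc0) h4).symm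
  obtain ⟨k, hk, hkX⟩ := exists_conj_le hp hsyl hX hXC
  obtain ⟨j₁, hj₁, t₁, ht₁, hk'⟩ := mem_sup_of hn hk.2
  have hj₁a : π (j₁ • a₁) = π a₁ := by
    have h1 : j₁ • a₁ = t₁⁻¹ • k • a₁ := by rw [hk', mul_smul, inv_smul_smul]
    rw [h1, pi_congr hP (inv_mem (hn ht₁)) hk.1.2]
    have h2 : t₁⁻¹ • a₁ = a₁ := hK.fix _ (inv_mem ht₁.1) a₁ ha₁
    rw [h2]
  refine ⟨j₁ * j, mul_mem hj₁ hj, ?_, ?_⟩
  · intro t ht
    have h1 := hkX (j * t * j⁻¹) (conj_mem_cj ht)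
    have h2 := mul_mem (mul_mem (inv_mem ht₁) h1) ht₁
    have h3 : t₁⁻¹ * (k * (j * t * j⁻¹) * k⁻¹) * t₁ = (j₁ * j) * t * (j₁ * j)⁻¹ := by
      rw [hk']; group
    rwa [h3] at h2
  · rw [mul_smul, pi_congr_J hP hj₁ hja, clin_J hL c hj₁ hc, hj₁a, hc]

/-- **`KTor`** -/
theorem tor_of (hK : Blk T lam J) (hL : Lin F B J π)
    (line : ∀ v w : B, v ≠ 0 → (∀ t ∈ T ⊓ J, ∀ m, π m = v → π (t • m) = v) →
      (∀ t ∈ T ⊓ J, ∀ m, π m = w → π (t • m) = w) → ∃ c : F, w = c • v)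
    (schur : ∀ f : B →+ B, (∀ j ∈ J, ∀ m n : M, f (π m) = π n → f (π (j • m)) = π (j • n)) →
      ∃ c : F, ∀ b, f b = c • b) : KTor T lam J := by
  have hP := hL.toProj
  obtain ⟨a₁, ha₁, h11, -⟩ := exists_ne hK.four 1 1
  obtain ⟨a₂, ha₂, h21, h22⟩ := exists_ne hK.four 1 a₁
  have hv : π a₁ ≠ 0 := fun h => h11 (hK.inf a₁ ha₁ ((hP.ker a₁).1 h))
  obtain ⟨c, hc⟩ := exists_scal hK hP line ha₁ h11 ha₂
  have hc1 : c ≠ 1 := by
    rintro rfl
    rw [one_smul, pi_eq hP] at hc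
    exact h22 (mul_inv_eq_one.1 (hK.inf _ (mul_mem ha₂ (inv_mem ha₁)) hc))
  obtain ⟨θ, hθJ, hθ, hθa⟩ := exists_theta hK hL line schur ha₁ h11 ha₂ h21
  refine ⟨θ, hθJ, ?_, ?_⟩
  · intro t ht htJ
    have htJ' : t ∈ T ⊓ normalizer (J : Set H) := ⟨ht, cj_eq_iff.1 htJ⟩
    constructor
    · have h1 := hθ t⁻¹ (inv_mem htJ')
      have h2 : t * θ * t⁻¹ * θ⁻¹ = t * (θ * t⁻¹ * θ⁻¹) := by group
      rw [h2]
      exact mul_mem ht h1.1
    · exact J.mul_mem ((mem_normalizer_iff.1 htJ'.2 _).1 hθJ) (J.inv_mem hθJ)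
  · intro a ha h
    have h1 : π (θ • a) = π a := (pi_eq hP).2 h
    obtain ⟨x, hx⟩ := exists_scal hK hP line ha₁ h11 ha
    have h2 : π (θ • a) = x • π (θ • a₁) := clin_J hL x hθJ hx
    rw [h1, hx, hθa, hc, smul_smul] at h2
    have h4 : x = x * c := smul_left_injective F hv h2
    have h5 : x = 0 := by
      by_contra h0
      exact hc1 (mul_left_cancel₀ h0 (by rw [mul_one]; exact h4)).symm
    rw [h5, zero_smul] at hx
    exact hK.inf a ha ((hP.ker a).1 hx)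

/-- if all of `T` normalises `J`: every `a₂ ∈ lam` is `θ a₁`, `θ ∈ J ∩ N_H(T)` -/
theorem exists_theta' (hK : Blk T lam J) (hL : Lin F B J π)
    (line : ∀ v w : B, v ≠ 0 → (∀ t ∈ T ⊓ J, ∀ m, π m = v → π (t • m) = v) →
      (∀ t ∈ T ⊓ J, ∀ m, π m = w → π (t • m) = w) → ∃ c : F, w = c • v)
    (schur : ∀ f : B →+ B, (∀ j ∈ J, ∀ m n : M, f (π m) = π n → f (π (j • m)) = π (j • n)) →
      ∃ c : F, ∀ b, f b = c • b)
    (hT : ∀ t ∈ T, cj t J = J) {a₁ a₂ : M} (ha₁ : a₁ ∈ lam) (h11 : a₁ ≠ 1) (ha₂ : a₂ ∈ lam) (h21 : a₂ ≠ 1) :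
    ∃ θ ∈ J, (∀ a ∈ lam, θ • a ∈ lam) ∧ θ • a₁ = a₂ := by
  have := hK.finH
  obtain ⟨θ, hθJ, hθ, hθa⟩ := exists_theta hK hL line schur ha₁ h11 ha₂ h21
  have h1 : ∀ t ∈ T, θ * t * θ⁻¹ ∈ T := fun t ht => (hθ t ⟨ht, cj_eq_iff.1 (hT t ht)⟩).1
  have h2 : θ ∈ normalizer (T : Set H) := by
    have h3 : cj θ T = T := by
      have h4 : cj θ T ≤ T := by
        intro x hx
        rw [mem_cj] at hx
        have h5 := h1 _ hx
        have h6 : θ * (θ⁻¹ * x * θ) * θ⁻¹ = x := by group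
        rwa [h6] at h5
      exact Subgroup.eq_of_le_of_card_ge h4 (card_cj θ T).ge
    exact cj_eq_iff.1 h3
  have h3 := hK.norm θ h2
  refine ⟨θ, hθJ, h3, ?_⟩
  have h4 : (θ • a₁) * a₂⁻¹ ∈ zm M J := (pi_eq hL.toProj).1 hθa
  exact mul_inv_eq_one.1 (hK.inf _ (mul_mem (h3 a₁ ha₁) (inv_mem ha₂)) h4)

/-! ### The other fields -/

theorem smul_mem_em {j : H} (hj : j ∈ J) {e : M} (he : e ∈ em M J) : j • e ∈ em M J := by
  have h1 : (j • e) * e⁻¹ ∈ em M J := subset_closure ⟨j, hj, e, mem_top e, rfl⟩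
  have h2 := mul_mem h1 he
  rwa [inv_mul_cancel_right] at h2

/-- **`KTrans`** -/
theorem trans_of (hL : Lin F B J π) : KTrans M J := by
  intro ht x hx y hy hx1 hy1
  have hP := hL.toProj
  have h0 : ∀ z ∈ em M J, z ≠ 1 → π z ≠ 0 := by
    intro z hz hz1 h
    have h1 : z ∈ tm M J := ⟨hz, (hP.ker z).1 h⟩
    rw [ht, mem_bot] at h1
    exact hz1 h1
  obtain ⟨j, hj, hjx⟩ := hL.tr (π x) (π y) (h0 x hx hx1) (h0 y hy hy1)
  refine ⟨j, hj, ?_⟩
  have h1 : (j • x) * y⁻¹ ∈ tm M J := ⟨(em M J).mul_mem (smul_mem_em hj hx) ((em M J).inv_mem hy), (pi_eq hP).1 (hjx x rfl)⟩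
  rw [ht, mem_bot] at h1
  exact mul_inv_eq_one.1 h1

/-- `[M, J] ≤ ⟨X^J⟩` for every `X` meeting all the cosets of `C_M(J)` -/
theorem em_le_of_cover (hP : Proj F B J π) (perf : cm (em M J) J = em M J) {L : Subgroup M}
    (hLJ : ∀ j ∈ J, ∀ x ∈ L, j • x ∈ L) (hc : ∀ b : B, ∃ x ∈ L, π x = b) : em M J ≤ L := by
  rw [← perf, cm, closure_le]
  rintro _ ⟨j, hj, m, -, rfl⟩
  obtain ⟨x, hx, e⟩ := hc (π m)
  have h1 : m * x⁻¹ ∈ zm M J := (pi_eq hP).1 e.symm
  have h2 : j • (m * x⁻¹) = m * x⁻¹ := h1 j hj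
  rw [smul_mul', smul_inv'] at h2
  have h3 : (j • m) * m⁻¹ = (j • x) * x⁻¹ := by
    have h4 : j • m = m * x⁻¹ * (j • x) := by rw [← h2, inv_mul_cancel_right]
    rw [h4, mul_inv_eq_iff_eq_mul]
    have h5 : (j • x) * x⁻¹ * m = m * x⁻¹ * (j • x) := by
      rw [mul_assoc, mul_comm]
      congr 1
      exact mul_comm _ _
    rw [h5]
  show (j • m) * m⁻¹ ∈ L
  rw [h3]
  exact mul_mem (hLJ j hj x hx) (inv_mem hx)

/-- the subgroup `⟨X^J⟩` -/
def jcl (J : Subgroup H) (X : Set M) : Subgroup M := closure {x | ∃ j ∈ J, ∃ a ∈ X, x = j • a}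

theorem smul_mem_jcl {X : Set M} {j : H} (hj : j ∈ J) {x : M} (hx : x ∈ jcl J X) : j • x ∈ jcl J X := by
  have h1 : jcl J X ≤ (jcl J X).comap (MulDistribMulAction.toMonoidHom M j) := by
    rw [jcl, closure_le]
    rintro _ ⟨k, hk, a, ha, rfl⟩
    refine subset_closure ⟨j * k, mul_mem hj hk, a, ha, ?_⟩
    show j • k • a = _
    rw [mul_smul]
  exact h1 hx

/-- **`[M, J] ≤ ⟨a^J⟩`** for `a ∉ C_M(J)` -/
theorem em_le_jcl (hK : Blk T lam J) (hL : Lin F B J π) {a : M} (ha : π a ≠ 0) {X : Set M} (haX : a ∈ X) :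
    em M J ≤ jcl J X := by
  refine em_le_of_cover hL.toProj hK.perf (fun j hj x hx => smul_mem_jcl hj hx) (fun b => ?_)
  by_cases hb : b = 0
  · exact ⟨1, one_mem _, by rw [pi_one hL.toProj, hb]⟩
  · obtain ⟨j, hj, h⟩ := hL.tr (π a) b ha hb
    exact ⟨j • a, subset_closure ⟨j, hj, a, haX, rfl⟩, h a rfl⟩

/-- an element of `N_H(J)` acting on `B` as `j ∈ J` acts on `[M, J]` as `j` -/
theorem act_eq (hK : Blk T lam J) (hP : Proj F B J π) {t j : H} (ht : t ∈ normalizer (J : Set H)) (hj : j ∈ J)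
    (h : ∀ m : M, π (t • m) = π (j • m)) : ∀ e ∈ em M J, t • e = j • e := by
  set u := j⁻¹ * t with hu
  have hun : u ∈ normalizer (J : Set H) := mul_mem (inv_mem (le_normalizer hj)) ht
  have huπ : ∀ m : M, π (u • m) = π m := by
    intro m
    rw [hu, mul_smul, pi_congr_J hP (inv_mem hj) (h m), inv_smul_smul]
  have huJ : ∀ k ∈ J, u * k * u⁻¹ = k := by
    intro k hk
    have h1 : u * k * u⁻¹ ∈ J := (mem_normalizer_iff.1 hun k).1 hk
    have h2 : u * k * u⁻¹ * k⁻¹ = 1 := by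
      refine hK.faith _ (mul_mem h1 (inv_mem hk)) (fun m => (pi_eq hP).1 ?_)
      rw [show (u * k * u⁻¹ * k⁻¹) • m = u • k • u⁻¹ • k⁻¹ • m by simp only [mul_smul], huπ]
      have h3 : π (u⁻¹ • k⁻¹ • m) = π (k⁻¹ • m) := by
        have h4 := huπ (u⁻¹ • k⁻¹ • m)
        rw [smul_inv_smul] at h4
        exact h4.symm
      rw [pi_congr_J hP hk h3, smul_inv_smul]
    exact mul_inv_eq_one.1 h2
  have hfix : ∀ e ∈ em M J, u • e = e := by
    have h1 : em M J ≤ (MulDistribMulAction.toMonoidHom M u).eqLocus (MonoidHom.id M) := by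
      rw [em, cm, closure_le]
      rintro _ ⟨k, hk, m, -, rfl⟩
      show u • ((k • m) * m⁻¹) = (k • m) * m⁻¹
      have hz : (u • m) * m⁻¹ ∈ zm M J := (pi_eq hP).1 (huπ m)
      have hkz : k • ((u • m) * m⁻¹) = (u • m) * m⁻¹ := hz k hk
      rw [smul_mul', smul_inv'] at hkz
      have h2 : u • k • m = k • u • m := by
        rw [smul_smul, smul_smul]
        congr 1
        exact mul_inv_eq_iff_eq_mul.1 (huJ k hk)
      rw [smul_mul', smul_inv', h2]
      have h3 : k • u • m = (u • m) * m⁻¹ * (k • m) := by rw [← hkz, inv_mul_cancel_right]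
      rw [h3, mul_assoc (u • m), mul_right_comm, mul_inv_cancel, one_mul, mul_comm]
    exact fun e he => h1 he
  intro e he
  have h1 := hfix e he
  rw [hu, mul_smul, inv_smul_eq_iff] at h1
  exact h1

/-- `Φ₀ ≠ 1` -/
theorem exists_zero {R : Type*} [CommGroup R] (hK : Blk T lam J) {Φ : Subgroup (M → R)}
    (hm : ∀ φ ∈ Φ, ∀ x ∈ em M J, ∀ y ∈ em M J, φ (x * y) = φ x * φ y)
    (hi : ∀ φ ∈ Φ, ∀ j ∈ J, ∃ ψ ∈ Φ, ∀ x ∈ em M J, ψ x = φ (j • x))
    {φ : M → R} (hφ : φ ∈ Φ) {a : M} (ha : a ∈ em M J) (hφa : φ a ≠ 1) :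
    ∃ ψ ∈ Φ, (∀ z ∈ em M J, z ∈ zm M J → ψ z = 1) ∧ ∃ e ∈ em M J, ψ e ≠ 1 := by
  have hone : φ 1 = 1 := by
    have h := hm φ hφ 1 (one_mem _) 1 (one_mem _)
    rw [mul_one] at h
    exact (mul_eq_left.1 h.symm)
  have hinv : ∀ x ∈ em M J, φ x⁻¹ = (φ x)⁻¹ := by
    intro x hx
    have h := hm φ hφ x hx x⁻¹ (inv_mem hx)
    rw [mul_inv_cancel, hone] at h
    exact (inv_eq_of_mul_eq_one_right h.symm).symm
  have h1 : ∃ j ∈ J, ∃ e ∈ em M J, φ (j • e) ≠ φ e := by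
    by_contra hcon
    push Not at hcon
    let K : Subgroup M :=
      { carrier := {x | x ∈ em M J ∧ φ x = 1}
        one_mem' := ⟨one_mem _, hone⟩
        mul_mem' := by
          rintro x y ⟨hx, ex⟩ ⟨hy, ey⟩
          exact ⟨mul_mem hx hy, by rw [hm φ hφ x hx y hy, ex, ey, one_mul]⟩
        inv_mem' := by
          rintro x ⟨hx, ex⟩
          exact ⟨inv_mem hx, by rw [hinv x hx, ex, inv_one]⟩ }
    have h2 : em M J ≤ K := by
      conv_lhs => rw [← hK.perf]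
      rw [cm, closure_le]
      rintro _ ⟨j, hj, m, hm', rfl⟩
      refine ⟨mul_mem (smul_mem_em hj hm') (inv_mem hm'), ?_⟩
      rw [hm φ hφ _ (smul_mem_em hj hm') _ (inv_mem hm'), hinv m hm', hcon j hj m hm', mul_inv_cancel]
    exact hφa (h2 ha).2
  obtain ⟨j, hj, e, he, hne⟩ := h1
  obtain ⟨ψ, hψ, hψe⟩ := hi φ hφ j hj
  refine ⟨ψ * φ⁻¹, mul_mem hψ (inv_mem hφ), ?_, e, he, ?_⟩
  · intro z hz hz'
    have h2 : j • z = z := hz' j hj
    rw [Pi.mul_apply, Pi.inv_apply, hψe z hz, h2, mul_inv_cancel]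
  · rw [Pi.mul_apply, Pi.inv_apply, hψe e he]
    exact fun h => hne (mul_inv_eq_one.1 h)

end Cfsg.Agent.Omega.NO3S.FarQ.KCom
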