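import Cfsg.Agent.Omega.NO3S.FarQ.KG2Card

/-!
# `G₂(q)`, `q` even: the exact quadratic offenders in the radical of the stabiliser of `e0`

`OffHyp A` : `A ≠ 1` consists of elements `nn s t u y z`, is quadratic and `r ^ 6 ≤ |A| |C_V(A)|`. Then `A` is the group
of all `nn 0 0 u y z` (`OffHyp.form`, `OffHyp.all`).
-/

set_option autoImplicit false
set_option linter.unusedSectionVars false

namespace Cfsg.Agent.Omega.NO3S.FarQ.KG2

variable {F : Type*} [Field F] [CharP F 2]

/-- the fixed vectors -/
abbrev Fixed (A : Subgroup (V F ≃ₗ[F] V F)) := {x : V F // ∀ g ∈ A, g x = x}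

/-- An exact quadratic offender in the radical of the stabiliser of `e0`. -/
structure OffHyp (A : Subgroup (V F ≃ₗ[F] V F)) : Prop where
  nn : ∀ g ∈ A, ∃ s t u y z : F, ∀ x, g x = nn s t u y z x
  quad : ∀ g ∈ A, ∀ h ∈ A, ∀ x, h (g x - x) = g x - x
  card : Nat.card F ^ 6 ≤ Nat.card A * Nat.card (Fixed A)
  ne : A ≠ ⊥

/-- what quadratic action means -/
theorem quad_eqs {g h : V F ≃ₗ[F] V F} {s t u y z s' t' u' y' z' : F} (hg : ∀ x, g x = nn s t u y z x)
    (hh : ∀ x, h x = nn s' t' u' y' z' x) (hq : ∀ x, h (g x - x) = g x - x) :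
    s' * u + t' * s ^ 2 = 0 ∧ s' * t ^ 2 + t' * u = 0 ∧ u' * t + t' ^ 2 * s = 0 ∧ s' ^ 2 * t + u' * s = 0 ∧
      s' * (y + t * u) + t' * (z + s * u + s ^ 2 * t) + z' * t + (y' + s' * t' ^ 2) * s = 0 := by
  have a3 := hq e3
  have a4 := hq e4
  have a5 := hq e5
  rw [hh, hg, nn_apply, nn_apply] at a3 a4 a5
  have b3 := congrFun a3 0
  have b4 := congrFun a4 0
  have b50 := congrFun a5 0
  have b51 := congrFun a5 1
  have b52 := congrFun a5 2
  simp [e3, e4, e5] at b3 b4 b50 b51 b52
  refine ⟨?_, ?_, ?_, ?_, ?_⟩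
  · linear_combination b3
  · linear_combination b4
  · linear_combination b51
  · linear_combination b52
  · linear_combination b50

/-- fixed vectors -/
theorem fixed_eqs {g : V F ≃ₗ[F] V F} {s t u y z : F} (hg : ∀ x, g x = nn s t u y z x) {x : V F} (hx : g x = x) :
    s * x 1 + t * x 2 + z * x 3 + (y + s * t ^ 2) * x 4 + (u ^ 2 + s * y + t * z) * x 5 = 0 ∧
    u * x 3 + t ^ 2 * x 4 + (y + t * u) * x 5 = 0 ∧ s ^ 2 * x 3 + u * x 4 + (z + s * u + s ^ 2 * t) * x 5 = 0 ∧
    t * x 5 = 0 ∧ s * x 5 = 0 := by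
  rw [hg, nn_apply] at hx
  have b0 := congrFun hx 0
  have b1 := congrFun hx 1
  have b2 := congrFun hx 2
  have b3 := congrFun hx 3
  have b4 := congrFun hx 4
  simp at b0 b1 b2 b3 b4
  refine ⟨?_, ?_, ?_, ?_, ?_⟩
  · linear_combination b0
  · linear_combination b1
  · linear_combination b2
  · rcases b3 with h | h <;> simp [h]
  · rcases b4 with h | h <;> simp [h]

variable [Finite F] {A : Subgroup (V F ≃ₗ[F] V F)}

theorem one_lt_card : 1 < Nat.card F := Finite.one_lt_card

/-- Case 1: no element has `(s, t) ≠ 0`. -/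
theorem OffHyp.st_zero (hA : OffHyp A) {g : V F ≃ₗ[F] V F} (hgA : g ∈ A) {s t u y z : F}
    (hg : ∀ x, g x = KG2.nn s t u y z x) : s = 0 ∧ t = 0 := by
  have h2 := two_zero (F := F)
  by_contra hst
  have hr := one_lt_card (F := F)
  choose P hP using fun k : A => hA.nn k.1 k.2
  choose P1 hP1 using hP
  choose P2 hP2 using hP1
  choose P3 hP3 using hP2
  choose P4 hP4 using hP3
  have hext : ∀ k k' : A, P k = P k' → P1 k = P1 k' → P2 k = P2 k' → P3 k = P3 k' → P4 k = P4 k' → k = k' := by
    intro k k' q0 q1 q2 q3 q4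
    refine Subtype.ext (LinearEquiv.ext fun x => ?_)
    rw [hP4, hP4, q0, q1, q2, q3, q4]
  have hself := quad_eqs hg hg fun x => hA.quad g hgA g hgA x
  obtain ⟨w1, w2, w3, w4, w5⟩ := hself
  have hu : u = s * t := by
    have hs : s * (u + s * t) = 0 := by linear_combination w1
    have ht : t * (u + s * t) = 0 := by linear_combination w2
    have h0 : u + s * t = 0 := by
      rcases mul_eq_zero.1 hs with h | h
      · rcases mul_eq_zero.1 ht with h' | h'
        · exact absurd ⟨h, h'⟩ hst
        · exact h'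
      · exact h
    exact CharTwo.add_eq_zero.1 h0
  have hcardA : Nat.card A ≤ Nat.card F * Nat.card F := by
    rw [← Nat.card_prod]
    by_cases hs : s = 0
    · have ht : t ≠ 0 := fun ht => hst ⟨hs, ht⟩
      refine Nat.card_le_card_of_injective (fun k : A => (P1 k, P3 k)) fun k k' e => ?_
      have e1 : P1 k = P1 k' := congrArg Prod.fst e
      have e3 : P3 k = P3 k' := congrArg Prod.snd e
      have fact : ∀ k : A, P k = 0 ∧ P2 k = 0 ∧ P4 k * t = - (P1 k * z) := fun k => by
        obtain ⟨v1, v2, v3, v4, v5⟩ := quad_eqs hg (hP4 k) fun x => hA.quad g hgA k.1 k.2 x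
        have k0 : P k = 0 := by
          have : P k * t ^ 2 = 0 := by rw [hu, hs] at v2; linear_combination v2
          rcases mul_eq_zero.1 this with h | h
          · exact h
          · exact absurd (pow_eq_zero_iff two_ne_zero |>.1 h) ht
        have k2 : P2 k = 0 := by
          have : P2 k * t = 0 := by rw [hs] at v3; linear_combination v3
          exact (mul_eq_zero.1 this).resolve_right ht
        refine ⟨k0, k2, ?_⟩
        rw [k0, hs] at v5
        linear_combination v5
      obtain ⟨a0, a2, a4⟩ := fact k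
      obtain ⟨b0, b2, b4⟩ := fact k'
      refine hext k k' (a0.trans b0.symm) e1 (a2.trans b2.symm) e3 ?_
      exact mul_right_cancel₀ ht (by rw [a4, b4, e1])
    · refine Nat.card_le_card_of_injective (fun k : A => (P k, P4 k)) fun k k' e => ?_
      have e0' : P k = P k' := congrArg Prod.fst e
      have e4' : P4 k = P4 k' := congrArg Prod.snd e
      have fact : ∀ k : A, P1 k * s = P k * t ∧ P2 k * s = P k ^ 2 * t ∧
          P3 k * s = P k * (y + t * u) + P1 k * (z + s * u + s ^ 2 * t) + P4 k * t + P k * P1 k ^ 2 * s := fun k => by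
        obtain ⟨v1, v2, v3, v4, v5⟩ := quad_eqs hg (hP4 k) fun x => hA.quad g hgA k.1 k.2 x
        refine ⟨?_, ?_, ?_⟩
        · rw [hu] at v1
          have : s * (P1 k * s + P k * t) = 0 := by linear_combination v1
          exact CharTwo.add_eq_zero.1 ((mul_eq_zero.1 this).resolve_left hs)
        · refine CharTwo.add_eq_zero.1 ?_
          linear_combination v4
        · refine CharTwo.add_eq_zero.1 ?_
          linear_combination v5
      obtain ⟨a1, a2, a3⟩ := fact k
      obtain ⟨b1, b2, b3⟩ := fact k'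
      have q1 : P1 k = P1 k' := mul_right_cancel₀ hs (by rw [a1, b1, e0'])
      refine hext k k' e0' q1 ?_ ?_ e4'
      · exact mul_right_cancel₀ hs (by rw [a2, b2, e0'])
      · exact mul_right_cancel₀ hs (by rw [a3, b3, e0', q1, e4'])
  have hcardC : Nat.card (Fixed A) ≤ Nat.card F * (Nat.card F * Nat.card F) := by
    rw [← Nat.card_prod, ← Nat.card_prod]
    have fact : ∀ x : Fixed A, x.1 5 = 0 ∧ s * x.1 3 = t * x.1 4 ∧
        s * x.1 1 + t * x.1 2 + z * x.1 3 + (y + s * t ^ 2) * x.1 4 = 0 := fun x => by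
      obtain ⟨v0, v1, v2, v3, v4⟩ := fixed_eqs hg (x.2 g hgA)
      have k5 : x.1 5 = 0 := by
        by_contra h5
        exact hst ⟨(mul_eq_zero.1 v4).resolve_right h5, (mul_eq_zero.1 v3).resolve_right h5⟩
      rw [k5] at v0 v1 v2
      refine ⟨k5, ?_, by linear_combination v0⟩
      rw [hu] at v1 v2
      have c1 : t * (s * x.1 3 + t * x.1 4) = 0 := by linear_combination v1
      have c2 : s * (s * x.1 3 + t * x.1 4) = 0 := by linear_combination v2
      refine CharTwo.add_eq_zero.1 ?_
      rcases mul_eq_zero.1 c1 with h | h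
      · rcases mul_eq_zero.1 c2 with h' | h'
        · exact absurd ⟨h', h⟩ hst
        · exact h'
      · exact h
    by_cases hs : s = 0
    · have ht : t ≠ 0 := fun ht => hst ⟨hs, ht⟩
      refine Nat.card_le_card_of_injective (fun x : Fixed A => (x.1 0, x.1 1, x.1 3)) fun x x' e => ?_
      simp only [Prod.mk.injEq] at e
      obtain ⟨q0, q1, q3⟩ := e
      obtain ⟨a5, a4, a0⟩ := fact x
      obtain ⟨b5, b4, b0⟩ := fact x'
      rw [hs] at a4 b4 a0 b0
      have c4 : x.1 4 = 0 := (mul_eq_zero.1 (by linear_combination -a4 : t * x.1 4 = 0)).resolve_left ht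
      have d4 : x'.1 4 = 0 := (mul_eq_zero.1 (by linear_combination -b4 : t * x'.1 4 = 0)).resolve_left ht
      have q2 : x.1 2 = x'.1 2 := by
        rw [c4] at a0; rw [d4, ← q3] at b0
        exact mul_left_cancel₀ ht (by linear_combination a0 - b0)
      refine Subtype.ext (funext fun i => ?_)
      fin_cases i
      · exact q0
      · exact q1
      · exact q2
      · exact q3
      · exact c4.trans d4.symm
      · exact a5.trans b5.symm
    · refine Nat.card_le_card_of_injective (fun x : Fixed A => (x.1 0, x.1 2, x.1 4)) fun x x' e => ?_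
      simp only [Prod.mk.injEq] at e
      obtain ⟨q0, q2, q4⟩ := e
      obtain ⟨a5, a4, a0⟩ := fact x
      obtain ⟨b5, b4, b0⟩ := fact x'
      have q3 : x.1 3 = x'.1 3 := mul_left_cancel₀ hs (by rw [a4, b4, q4])
      have q1 : x.1 1 = x'.1 1 := by
        rw [← q2, ← q3, ← q4] at b0
        exact mul_left_cancel₀ hs (by linear_combination a0 - b0)
      refine Subtype.ext (funext fun i => ?_)
      fin_cases i
      · exact q0
      · exact q1
      · exact q2
      · exact q3
      · exact q4
      · exact a5.trans b5.symm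
  have hfin := hA.card.trans (Nat.mul_le_mul hcardA hcardC)
  have : Nat.card F * Nat.card F * (Nat.card F * (Nat.card F * Nat.card F)) = Nat.card F ^ 5 := by ring
  rw [this] at hfin
  exact absurd hfin (not_le.2 (Nat.pow_lt_pow_right hr (by norm_num)))

theorem OffHyp.form (hA : OffHyp A) {g : V F ≃ₗ[F] V F} (hgA : g ∈ A) : ∃ u y z : F, ∀ x, g x = KG2.nn 0 0 u y z x := by
  obtain ⟨s, t, u, y, z, hg⟩ := hA.nn g hgA
  obtain ⟨rfl, rfl⟩ := hA.st_zero hgA hg
  exact ⟨u, y, z, hg⟩

/-- **`A` is the group of all `nn 0 0 u y z`.** -/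
theorem OffHyp.all (hA : OffHyp A) (u y z : F) : In A (KG2.nn 0 0 u y z) := by
  have hr := one_lt_card (F := F)
  have hr0 : 0 < Nat.card F := by omega
  choose P2 hP2 using fun k : A => hA.form k.2
  choose P3 hP3 using hP2
  choose P4 hP4 using hP3
  have hext : ∀ k k' : A, P2 k = P2 k' → P3 k = P3 k' → P4 k = P4 k' → k = k' := by
    intro k k' q2 q3 q4
    refine Subtype.ext (LinearEquiv.ext fun x => ?_)
    rw [hP4, hP4, q2, q3, q4]
  have heq : ∀ (k : A) (x : Fixed A), P4 k * x.1 3 + P3 k * x.1 4 + P2 k ^ 2 * x.1 5 = 0 ∧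
      P2 k * x.1 3 + P3 k * x.1 5 = 0 ∧ P2 k * x.1 4 + P4 k * x.1 5 = 0 := fun k x => by
    obtain ⟨v0, v1, v2, -, -⟩ := fixed_eqs (hP4 k) (x.2 k.1 k.2)
    exact ⟨by linear_combination v0, by linear_combination v1, by linear_combination v2⟩
  have hC3 : (∀ x : Fixed A, x.1 3 = 0 ∧ x.1 4 = 0 ∧ x.1 5 = 0) →
      Nat.card (Fixed A) ≤ Nat.card F * (Nat.card F * Nat.card F) := fun h => by
    rw [← Nat.card_prod, ← Nat.card_prod]
    refine Nat.card_le_card_of_injective (fun x : Fixed A => (x.1 0, x.1 1, x.1 2)) fun x x' e => ?_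
    simp only [Prod.mk.injEq] at e
    obtain ⟨q0, q1, q2⟩ := e
    obtain ⟨a3, a4, a5⟩ := h x
    obtain ⟨b3, b4, b5⟩ := h x'
    refine Subtype.ext (funext fun i => ?_)
    fin_cases i
    · exact q0
    · exact q1
    · exact q2
    · exact a3.trans b3.symm
    · exact a4.trans b4.symm
    · exact a5.trans b5.symm
  by_cases hu0 : ∀ k : A, P2 k = 0
  · exfalso
    have hinj : Function.Injective fun k : A => (P3 k, P4 k) := fun k k' e => by
      simp only [Prod.mk.injEq] at e
      exact hext k k' ((hu0 k).trans (hu0 k').symm) e.1 e.2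
    have hcA := Nat.card_le_card_of_injective _ hinj
    rw [Nat.card_prod] at hcA
    obtain ⟨k0, hk0⟩ : ∃ k : A, ¬ (P3 k = 0 ∧ P4 k = 0) := by
      by_contra hc
      push Not at hc
      apply hA.ne
      rw [Subgroup.eq_bot_iff_forall]
      intro g hg
      refine LinearEquiv.ext fun x => ?_
      obtain ⟨h3, h4⟩ : P3 ⟨g, hg⟩ = 0 ∧ P4 ⟨g, hg⟩ = 0 := by
        by_contra h
        exact h ⟨by_contra fun h3 => by
          have := hc ⟨g, hg⟩; tauto, by_contra fun h4 => by have := hc ⟨g, hg⟩; tauto⟩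
      have := hP4 ⟨g, hg⟩ x
      rw [show ((⟨g, hg⟩ : A) : V F ≃ₗ[F] V F) = g from rfl, hu0, h3, h4, nn_apply] at this
      rw [this]
      funext i; fin_cases i <;> simp
    have hC5 : ∀ x : Fixed A, x.1 5 = 0 := fun x => by
      obtain ⟨v0, v1, v2⟩ := heq k0 x
      rw [hu0] at v1 v2
      by_contra h5
      exact hk0 ⟨(mul_eq_zero.1 (by linear_combination v1 : P3 k0 * x.1 5 = 0)).resolve_right h5,
        (mul_eq_zero.1 (by linear_combination v2 : P4 k0 * x.1 5 = 0)).resolve_right h5⟩
    have hC34 : ∀ (k : A) (x : Fixed A), P4 k * x.1 3 + P3 k * x.1 4 = 0 := fun k x => by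
      obtain ⟨v0, v1, v2⟩ := heq k x
      rw [hu0] at v0
      linear_combination v0
    have hC4 : Nat.card (Fixed A) ≤ Nat.card F * (Nat.card F * (Nat.card F * Nat.card F)) := by
      rw [← Nat.card_prod, ← Nat.card_prod, ← Nat.card_prod]
      by_cases h3 : P3 k0 = 0
      · have h4 : P4 k0 ≠ 0 := fun h4 => hk0 ⟨h3, h4⟩
        refine Nat.card_le_card_of_injective (fun x : Fixed A => (x.1 0, x.1 1, x.1 2, x.1 4)) fun x x' e => ?_
        simp only [Prod.mk.injEq] at e
        obtain ⟨q0, q1, q2, q4⟩ := e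
        have a := hC34 k0 x
        have b := hC34 k0 x'
        have q3 : x.1 3 = x'.1 3 := by
          rw [← q4] at b
          exact mul_left_cancel₀ h4 (by linear_combination a - b)
        refine Subtype.ext (funext fun i => ?_)
        fin_cases i
        · exact q0
        · exact q1
        · exact q2
        · exact q3
        · exact q4
        · exact (hC5 x).trans (hC5 x').symm
      · refine Nat.card_le_card_of_injective (fun x : Fixed A => (x.1 0, x.1 1, x.1 2, x.1 3)) fun x x' e => ?_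
        simp only [Prod.mk.injEq] at e
        obtain ⟨q0, q1, q2, q3⟩ := e
        have a := hC34 k0 x
        have b := hC34 k0 x'
        have q4 : x.1 4 = x'.1 4 := by
          rw [← q3] at b
          exact mul_left_cancel₀ h3 (by linear_combination a - b)
        refine Subtype.ext (funext fun i => ?_)
        fin_cases i
        · exact q0
        · exact q1
        · exact q2
        · exact q3
        · exact q4
        · exact (hC5 x).trans (hC5 x').symm
    have hge : Nat.card F * Nat.card F ≤ Nat.card A := by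
      have h1 := hA.card.trans (Nat.mul_le_mul_left _ hC4)
      have h2 : Nat.card F ^ 6 = Nat.card F * Nat.card F * Nat.card F ^ 4 := by ring
      have h3 : Nat.card A * (Nat.card F * (Nat.card F * (Nat.card F * Nat.card F))) =
        Nat.card A * Nat.card F ^ 4 := by ring
      rw [h2, h3] at h1
      exact Nat.le_of_mul_le_mul_right h1 (pow_pos hr0 4)
    have hbij := hinj.bijective_of_nat_card_le (by rw [Nat.card_prod]; exact hge)
    obtain ⟨k1, hk1⟩ := hbij.2 (1, 0)
    obtain ⟨k2, hk2⟩ := hbij.2 (0, 1)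
    simp only [Prod.mk.injEq] at hk1 hk2
    have hC := hC3 fun x => by
      have a := hC34 k1 x
      have b := hC34 k2 x
      rw [hk1.1, hk1.2] at a
      rw [hk2.1, hk2.2] at b
      exact ⟨by linear_combination b, by linear_combination a, hC5 x⟩
    have hfin := hA.card.trans (Nat.mul_le_mul hcA hC)
    have : Nat.card F * Nat.card F * (Nat.card F * (Nat.card F * Nat.card F)) = Nat.card F ^ 5 := by ring
    rw [this] at hfin
    exact absurd hfin (not_le.2 (Nat.pow_lt_pow_right hr (by norm_num)))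
  · push Not at hu0
    obtain ⟨k, hk⟩ := hu0
    have hC := hC3 fun x => by
      obtain ⟨v0, v1, v2⟩ := heq k x
      have h2 := two_zero (F := F)
      have h5 : x.1 5 = 0 := by
        have : P2 k ^ 3 * x.1 5 = 0 := by
          linear_combination P2 k * v0 + P4 k * v1 + P3 k * v2 - (P4 k * P2 k * x.1 3 + P3 k * P2 k * x.1 4 +
            P3 k * P4 k * x.1 5) * h2
        exact (mul_eq_zero.1 this).resolve_left (pow_ne_zero _ hk)
      rw [h5] at v1 v2
      exact ⟨(mul_eq_zero.1 (by linear_combination v1 : P2 k * x.1 3 = 0)).resolve_left hk,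
        (mul_eq_zero.1 (by linear_combination v2 : P2 k * x.1 4 = 0)).resolve_left hk, h5⟩
    have hge : Nat.card F * (Nat.card F * Nat.card F) ≤ Nat.card A := by
      have h1 := hA.card.trans (Nat.mul_le_mul_left _ hC)
      have h2 : Nat.card F ^ 6 = Nat.card F * (Nat.card F * Nat.card F) * Nat.card F ^ 3 := by ring
      have h3 : Nat.card A * (Nat.card F * (Nat.card F * Nat.card F)) = Nat.card A * Nat.card F ^ 3 := by ring
      rw [h2, h3] at h1
      exact Nat.le_of_mul_le_mul_right h1 (pow_pos hr0 3)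
    have hinj : Function.Injective fun k : A => (P2 k, P3 k, P4 k) := fun k k' e => by
      simp only [Prod.mk.injEq] at e
      exact hext k k' e.1 e.2.1 e.2.2
    have hbij := hinj.bijective_of_nat_card_le (by rw [Nat.card_prod, Nat.card_prod]; exact hge)
    obtain ⟨k1, hk1⟩ := hbij.2 (u, y, z)
    simp only [Prod.mk.injEq] at hk1
    refine ⟨k1.1, k1.2, fun x => ?_⟩
    rw [hP4, hk1.1, hk1.2.1, hk1.2.2]

end Cfsg.Agent.Omega.NO3S.FarQ.KG2
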