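import Cfsg.Agent.Omega.NO3S.FarQ.KCom
import Cfsg.Agent.Omega.NO3S.FarQ.KG2Off

/-!
# FarQ: the K-facts for `J = G₂(r)` on its natural 6-dimensional module

`IsG2 F J π` : `π : M → F⁶` is the projection onto `M / C_M(J)`, `J` acts `F`-linearly, contains the explicit root
elements `xa, xb, ya, yb` of `KG2Lin`, and has the order of `G₂(r)`. Nothing else is assumed.

* `IsG2.rep : J →* GL(F⁶)`, `IsG2.full` : its image is `Full`;
* `Ad` : moreover `T ∩ J` is unitriangular (`exists_ad`, by Sylow);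
* `kfacts_g2 : IsG2 F J π → KFacts R T lam J`.
-/

set_option autoImplicit false
set_option linter.unusedSectionVars false

namespace Cfsg.Agent.Omega.NO3S.FarQ.KG2

open Subgroup Cfsg.Agent.ZN Cfsg.Agent.Omega.NO3S.PT
open Cfsg.Agent.ClassTwoFusion.Quad (cv mem_cv cv_anti)
open KCom (pi_one pi_inv pi_eq pi_congr pi_congr_J smul_mem_em)
open scoped Pointwise

variable {H M : Type*} [Group H] [CommGroup M] [MulDistribMulAction H M]
variable {F : Type*} [Field F]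

/-- `M / C_M(J)` is the natural 6-dimensional module of `J = G₂(r)`. -/
structure IsG2 (F : Type*) [Field F] (J : Subgroup H) (π : M → Fin 6 → F) : Prop
    extends Proj F (Fin 6 → F) J π where
  lin : ∀ j ∈ J, ∃ f : (Fin 6 → F) ≃ₗ[F] (Fin 6 → F), ∀ m : M, π (j • m) = f (π m)
  xa : ∀ t : F, ∃ j ∈ J, ∀ m : M, π (j • m) = KG2.xa t (π m)
  xb : ∀ t : F, ∃ j ∈ J, ∀ m : M, π (j • m) = KG2.xb t (π m)
  ya : ∀ t : F, ∃ j ∈ J, ∀ m : M, π (j • m) = KG2.ya t (π m)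
  yb : ∀ t : F, ∃ j ∈ J, ∀ m : M, π (j • m) = KG2.yb t (π m)
  card : Nat.card J = Nat.card F ^ 6 * (Nat.card F ^ 6 - 1) * (Nat.card F ^ 2 - 1)

variable {T J A : Subgroup H} {lam : Subgroup M} {π : M → Fin 6 → F}

theorem finite_of (hK : Blk T lam J) (h : IsG2 F J π) : Finite F := by
  have := hK.finM
  have : Finite (Fin 6 → F) := Finite.of_surjective π h.surj
  exact Finite.of_injective (fun c : F => (fun _ => c : Fin 6 → F)) fun a b e => congrFun e 0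

theorem char_of (hK : Blk T lam J) (h : IsG2 F J π) : CharP F 2 := by
  obtain ⟨m, hm⟩ := h.surj (fun _ => 1)
  have h1 := h.add m m
  rw [hK.sq, pi_one h.toProj, hm] at h1
  have h2 := congrFun h1 0
  refine CharTwo.of_one_ne_zero_of_two_eq_zero one_ne_zero ?_
  have h3 : (0 : F) = 1 + 1 := h2
  rw [← one_add_one_eq_two, ← h3]

/-- the representation of `J` -/
noncomputable def IsG2.rep (h : IsG2 F J π) : J →* (V F ≃ₗ[F] V F) where
  toFun j := (h.lin j j.2).choose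
  map_one' := by
    refine LinearEquiv.ext fun x => ?_
    obtain ⟨m, rfl⟩ := h.surj x
    rw [← (h.lin _ (1 : J).2).choose_spec m, coe_one, one_smul]; rfl
  map_mul' j k := by
    refine LinearEquiv.ext fun x => ?_
    obtain ⟨m, rfl⟩ := h.surj x
    rw [← (h.lin _ (j * k : J).2).choose_spec m, coe_mul, mul_smul, (h.lin j j.2).choose_spec,
      (h.lin k k.2).choose_spec]; rfl

theorem IsG2.rep_spec (h : IsG2 F J π) (j : J) (m : M) : π ((j : H) • m) = h.rep j (π m) :=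
  (h.lin j j.2).choose_spec m

theorem IsG2.rep_eq (h : IsG2 F J π) {j : J} {f : V F → V F} (e : ∀ m, π ((j : H) • m) = f (π m)) (x : V F) :
    h.rep j x = f x := by
  obtain ⟨m, rfl⟩ := h.surj x
  rw [← h.rep_spec, e]

theorem IsG2.rep_inj (hK : Blk T lam J) (h : IsG2 F J π) : Function.Injective h.rep := by
  rw [injective_iff_map_eq_one]
  intro j hj
  refine Subtype.ext (hK.faith j j.2 fun m => ?_)
  rw [← pi_eq h.toProj, h.rep_spec, hj]; rfl

theorem in_range (h : IsG2 F J π) {f : V F → V F} (e : ∃ j ∈ J, ∀ m : M, π (j • m) = f (π m)) :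
    In h.rep.range f := by
  obtain ⟨j, hj, e⟩ := e
  exact ⟨h.rep ⟨j, hj⟩, ⟨_, rfl⟩, h.rep_eq e⟩

theorem IsG2.full (hK : Blk T lam J) (h : IsG2 F J π) : Full h.rep.range where
  xa t := in_range h (h.xa t)
  xb t := in_range h (h.xb t)
  ya t := in_range h (h.ya t)
  yb t := in_range h (h.yb t)
  card := by
    rw [← h.card]
    exact (Nat.card_congr (MonoidHom.ofInjective (h.rep_inj hK)).toEquiv).symm

theorem exists_of_in (h : IsG2 F J π) {f : V F → V F} (e : In h.rep.range f) :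
    ∃ j ∈ J, ∀ m : M, π (j • m) = f (π m) := by
  obtain ⟨_, ⟨j, rfl⟩, e⟩ := e
  exact ⟨j, j.2, fun m => by rw [h.rep_spec, e]⟩

/-- The unitriangular elements, as a subgroup of `H`. -/
noncomputable def usub [CharP F 2] (h : IsG2 F J π) : Subgroup H :=
  ((Uni h.rep.range).comap h.rep).map J.subtype

theorem mem_usub [CharP F 2] (h : IsG2 F J π) {x : H} : x ∈ usub h ↔ ∃ hx : x ∈ J, Uk 1 (h.rep ⟨x, hx⟩) := by
  constructor
  · rintro ⟨j, hj, rfl⟩
    exact ⟨j.2, hj.2⟩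
  · rintro ⟨hx, hu⟩
    exact ⟨⟨x, hx⟩, ⟨⟨_, rfl⟩, hu⟩, rfl⟩

theorem usub_le [CharP F 2] (h : IsG2 F J π) : usub h ≤ J := fun _ hx => ((mem_usub h).1 hx).1

theorem usub_card [CharP F 2] [Finite F] (hK : Blk T lam J) (h : IsG2 F J π) :
    Nat.card (usub h) = Nat.card F ^ 6 := by
  rw [← (h.full hK).card_uni, usub, Nat.card_congr
    (((Uni h.rep.range).comap h.rep).equivMapOfInjective J.subtype J.subtype_injective).symm.toEquiv]
  have h1 : ((Uni h.rep.range).comap h.rep).map h.rep = Uni h.rep.range :=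
    map_comap_eq_self uni_le
  conv_rhs => rw [← h1]
  exact Nat.card_congr (((Uni h.rep.range).comap h.rep).equivMapOfInjective h.rep (h.rep_inj hK)).toEquiv

theorem usub_two [CharP F 2] (hK : Blk T lam J) (h : IsG2 F J π) : IsPGroup 2 (usub h) := by
  have h1 : IsPGroup 2 ((Uni h.rep.range).comap h.rep) :=
    uni_two.comap_of_injective h.rep (h.rep_inj hK)
  exact h1.map J.subtype

theorem usub_syl [CharP F 2] [Finite F] (hK : Blk T lam J) (h : IsG2 F J π) : ¬ 2 ∣ (usub h).relIndex J := by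
  have := hK.finH
  have h1 := KCom.card_mul_relIndex (usub_le h)
  rw [usub_card hK, h.card, mul_assoc] at h1
  have h2 := Nat.eq_of_mul_eq_mul_left (pow_pos Nat.card_pos 6) h1
  rw [h2, ← even_iff_two_dvd, Nat.not_even_iff_odd]
  exact odd_card

/-- `IsG2`, and `T ∩ J` is unitriangular. -/
structure Ad (F : Type*) [Field F] (T J : Subgroup H) (π : M → Fin 6 → F) : Prop extends IsG2 F J π where
  uni : ∀ j ∈ T ⊓ J, ∀ f : V F ≃ₗ[F] V F, (∀ m, π (j • m) = f (π m)) → Uk 1 f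

theorem exists_ad (hK : Blk T lam J) (h : IsG2 F J π) : ∃ π' : M → Fin 6 → F, Ad F T J π' := by
  have := char_of hK h
  have := finite_of hK h
  have := hK.finH
  obtain ⟨c, hc, hcx⟩ := KCom.exists_conj_le (usub_two hK h) (usub_syl hK h)
    (X := T ⊓ J) (hK.two.to_le inf_le_left) inf_le_right
  have hcj : ∀ {j}, j ∈ J → c * j * c⁻¹ ∈ J := fun hj => J.mul_mem (J.mul_mem hc hj) (J.inv_mem hc)
  have hcj' : ∀ {j}, j ∈ J → c⁻¹ * j * c ∈ J := fun hj => J.mul_mem (J.mul_mem (J.inv_mem hc) hj) hc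
  have key : ∀ {f : V F → V F}, (∃ j ∈ J, ∀ m : M, π (j • m) = f (π m)) →
      ∃ j ∈ J, ∀ m : M, π (c • j • m) = f (π (c • m)) := by
    rintro f ⟨j, hj, e⟩
    refine ⟨c⁻¹ * j * c, hcj' hj, fun m => ?_⟩
    rw [← e]
    congr 1
    simp only [smul_smul]
    congr 1; group
  have hz : ∀ m : M, c • m ∈ zm M J ↔ m ∈ zm M J := fun m => by
    constructor
    · intro hm
      have := KCom.smul_zm (inv_mem (le_normalizer hc)) hm
      rwa [inv_smul_smul] at this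
    · exact KCom.smul_zm (le_normalizer hc)
  refine ⟨fun m => π (c • m), ⟨⟨⟨fun m n => ?_, fun x => ?_, fun m => ?_⟩, fun j hj => ?_, fun t => key (h.xa t),
    fun t => key (h.xb t), fun t => key (h.ya t), fun t => key (h.yb t), h.card⟩, fun j hj f e => ?_⟩⟩
  · rw [smul_mul', h.add]
  · obtain ⟨m, hm⟩ := h.surj x
    exact ⟨c⁻¹ • m, by rw [smul_inv_smul, hm]⟩
  · rw [h.ker, hz]
  · obtain ⟨f, hf⟩ := h.lin _ (hcj hj)
    refine ⟨f, fun m => ?_⟩
    rw [← hf]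
    congr 1
    simp only [smul_smul]
    congr 1; group
  · obtain ⟨hx, hu⟩ := (mem_usub h).1 (hcx j hj)
    have : f = h.rep ⟨c * j * c⁻¹, hx⟩ := by
      refine LinearEquiv.ext fun x => ?_
      obtain ⟨m, rfl⟩ := h.surj x
      rw [← h.rep_spec]
      have h1 := e (c⁻¹ • m)
      simp only [smul_inv_smul] at h1
      rw [← h1]
      congr 1
      simp only [smul_smul]
      congr 1; group
    rw [this]; exact hu

/-- two Sylow 2-subgroups, one in the other -/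
theorem le_of_syl {P Q : Subgroup H} [Finite H] (hPQ : P ≤ Q) (hQJ : Q ≤ J) (hQ : IsPGroup 2 Q)
    (hs : ¬ 2 ∣ P.relIndex J) : Q ≤ P := by
  have : Fact (Nat.Prime 2) := ⟨Nat.prime_two⟩
  have h1 : P.relIndex Q ∣ P.relIndex J := Dvd.intro _ (relIndex_mul_relIndex P Q J hPQ hQJ)
  obtain ⟨n, hn⟩ := IsPGroup.iff_card.1 hQ
  have h2 : P.relIndex Q ∣ 2 ^ n := by
    rw [← hn]
    exact P.relIndex_dvd_card Q
  obtain ⟨k, -, hk⟩ := (Nat.dvd_prime_pow Nat.prime_two).1 h2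
  have h3 : k = 0 := by
    by_contra h0
    rw [hk] at h1
    exact hs ((dvd_pow_self 2 h0).trans h1)
  rw [h3, pow_zero] at hk
  exact relIndex_eq_one.1 hk

section adapted

variable [CharP F 2] [Finite F]

theorem Ad.usub_eq (hK : Blk T lam J) (h : Ad F T J π) : usub h.toIsG2 = T ⊓ J := by
  have := hK.finH
  have h1 : T ⊓ J ≤ usub h.toIsG2 := fun j hj =>
    (mem_usub _).2 ⟨hj.2, h.uni j hj _ fun m => h.rep_spec ⟨j, hj.2⟩ m⟩
  exact le_antisymm (le_of_syl h1 (usub_le _) (usub_two hK _) hK.syl) h1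

theorem Ad.exists_uu (hK : Blk T lam J) (h : Ad F T J π) (s t u y z m : F) :
    ∃ j ∈ T ⊓ J, ∀ x : M, π (j • x) = uu s t u y z m (π x) := by
  obtain ⟨g, ⟨j, rfl⟩, hg⟩ := (h.full hK).uu s t u y z m
  refine ⟨j, ?_, fun x => by rw [h.rep_spec, hg]⟩
  rw [← h.usub_eq hK]
  exact (mem_usub _).2 ⟨j.2, uk_of_nn hg⟩

/-- the vectors fixed by `T ∩ J` -/
theorem Ad.fixed (hK : Blk T lam J) (h : Ad F T J π) {v : V F} (hv : ∀ t ∈ T ⊓ J, ∀ m, π m = v → π (t • m) = v) :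
    v = v 0 • e0 := by
  obtain ⟨m, hm⟩ := h.surj v
  obtain ⟨j, hj, e⟩ := h.exists_uu hK 1 0 0 0 0 0
  obtain ⟨k, hk, d⟩ := h.exists_uu hK 0 0 0 0 0 1
  have h1 := hv j hj m hm
  have h2 := hv k hk m hm
  rw [e, hm, uu_apply, nn_apply] at h1
  rw [d, hm, uu_apply, nn_apply] at h2
  have a0 := congrFun h1 0
  have a2 := congrFun h1 2
  have a4 := congrFun h1 4
  have b1 := congrFun h2 1
  have b3 := congrFun h2 3
  simp [KG2.xb] at a0 a2 a4 b1 b3
  funext i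
  fin_cases i
  · simp [e0]
  · simpa [e0] using a0
  · simpa [e0] using b1
  · simpa [e0] using a2
  · simpa [e0] using b3
  · simpa [e0] using a4

theorem Ad.linL (hK : Blk T lam J) (h : Ad F T J π) : KCom.Lin F (Fin 6 → F) J π where
  toProj := h.toProj
  lin := h.lin
  tr := by
    intro x y hx hy
    obtain ⟨_, ⟨j, rfl⟩, ej⟩ := (h.full hK).trans x hx
    obtain ⟨_, ⟨k, rfl⟩, ek⟩ := (h.full hK).trans y hy
    refine ⟨((k * j⁻¹ : J) : H), (k * j⁻¹).2, fun m hm => ?_⟩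
    rw [h.rep_spec (k * j⁻¹), hm, map_mul, LinearEquiv.mul_apply, ← ek]
    congr 1
    rw [map_inv]
    show (h.rep j).symm x = e0
    rw [LinearEquiv.symm_apply_eq, ej]

theorem Ad.tor (hK : Blk T lam J) (h : Ad F T J π) : KTor T lam J := by
  refine KCom.tor_of hK (h.linL hK) ?_ ?_
  · intro v w hv0 hv hw
    have h1 := h.fixed hK hv
    have h2 := h.fixed hK hw
    have h0 : v 0 ≠ 0 := by
      intro h0
      rw [h0, zero_smul] at h1
      exact hv0 h1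
    refine ⟨w 0 / v 0, ?_⟩
    rw [h2, h1, smul_smul]
    simp [e0, h0]
  · intro f hf
    obtain ⟨m0, hm0⟩ := h.surj e0
    obtain ⟨n0, hn0⟩ := h.surj (f (π m0))
    have h1 : f e0 = f e0 0 • e0 := by
      refine h.fixed hK fun t ht m hm => ?_
      have h2 := hf t ht.2 m0 m (by rw [hm, hm0])
      rw [← h2]
      congr 1
      have h3 : π (t • m0) = h.rep ⟨t, ht.2⟩ e0 := by rw [← hm0]; exact h.rep_spec ⟨t, ht.2⟩ m0
      rw [h3]
      obtain ⟨s, t', u, y, z, m', e⟩ := (h.full hK).exists_uu (g := h.rep ⟨t, ht.2⟩)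
        ⟨⟨_, rfl⟩, h.uni t ht _ fun m => h.rep_spec ⟨t, ht.2⟩ m⟩
      rw [e, uu_apply, nn_apply]
      funext i; fin_cases i <;> simp [KG2.xb, e0]
    refine ⟨f e0 0, fun b => ?_⟩
    by_cases hb : b = 0
    · rw [hb, map_zero, smul_zero]
    · obtain ⟨_, ⟨j, rfl⟩, ej⟩ := (h.full hK).trans b hb
      have h2 := hf j j.2 m0 n0 hn0.symm
      rw [h.rep_spec, hm0, ej, h.rep_spec, hn0, hm0, h1, map_smul, ej] at h2
      rw [h2]

/-! ### `A ∩ J` -/

theorem oj_le : oj lam A J ≤ J := by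
  rw [oj, closure_le]
  rintro _ ⟨c, hc, y, hy, rfl⟩
  exact J.mul_mem (J.mul_mem hc.1 hy.2) (J.inv_mem hc.1)

theorem conj_oj {c x : H} (hc : c ∈ J ⊓ fixer lam) (hx : x ∈ oj lam A J) : c * x * c⁻¹ ∈ oj lam A J := by
  have h1 : oj lam A J ≤ (oj lam A J).comap (MulAut.conj c).toMonoidHom := by
    conv_lhs => rw [oj]
    rw [closure_le]
    rintro _ ⟨d, hd, y, hy, rfl⟩
    refine subset_closure ⟨c * d, (J ⊓ fixer lam).mul_mem hc hd, y, hy, ?_⟩
    show c * (d * y * d⁻¹) * c⁻¹ = _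
    group
  exact h1 hx

theorem le_oj : A ⊓ J ≤ oj lam A J := fun y hy =>
  subset_closure ⟨1, one_mem _, y, hy, by group⟩

theorem Ad.pi_lam (hK : Blk T lam J) (h : Ad F T J π) {a : M} (ha : a ∈ lam) : π a = π a 0 • e0 :=
  h.fixed hK fun t ht m hm => by rw [pi_congr_J h.toProj ht.2 hm, hK.fix t ht.1 a ha]

theorem Ad.pi_ne (hK : Blk T lam J) (h : Ad F T J π) {a : M} (ha : a ∈ lam) (h1 : a ≠ 1) : π a 0 ≠ 0 := by
  intro h0
  have h2 := h.pi_lam hK ha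
  rw [h0, zero_smul] at h2
  exact h1 (hK.inf a ha ((h.ker a).1 h2))

theorem Ad.fixer_of (hK : Blk T lam J) (h : Ad F T J π) {j : H} (hj : j ∈ J)
    (e : h.rep ⟨j, hj⟩ e0 = e0) : j ∈ J ⊓ fixer lam := by
  obtain ⟨a, ha, h1, -⟩ := KCom.exists_ne hK.four 1 1
  refine ⟨hj, KCom.cent hK h.toProj ha h1 hj ?_⟩
  have h2 := h.rep_spec ⟨j, hj⟩ a
  rw [h.pi_lam hK ha, map_smul, e] at h2
  rw [h.pi_lam hK ha]
  exact h2

theorem nb_nb (x : V F) : KG2.nb (KG2.nb x) = x := by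
  funext i; fin_cases i <;> simp [KG2.nb]

theorem ww_ww (x : V F) : KG2.ww (KG2.ww x) = x := by
  funext i; fin_cases i <;> simp [KG2.ww]

theorem oj_le_of (hK : Blk T lam J) (hA : ExJ lam A J) : oj lam A J ≤ T ⊓ J := by
  have := hK.finH
  have hn : T ⊓ J ≤ normalizer (oj lam A J : Set H) := by
    intro t ht
    have h1 : t ∈ J ⊓ fixer lam := ⟨ht.2, hK.fix t ht.1⟩
    rw [mem_normalizer_iff]
    intro x
    refine ⟨conj_oj h1, fun hx => ?_⟩
    have h2 := conj_oj ((J ⊓ fixer lam).inv_mem h1) hx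
    have e : t⁻¹ * (t * x * t⁻¹) * t⁻¹⁻¹ = x := by group
    rwa [e] at h2
  have h2 : IsPGroup 2 (T ⊓ J ⊔ oj lam A J : Subgroup H) :=
    IsPGroup.to_sup_of_normal_right' (hK.two.to_le inf_le_left) hA.o2 hn
  exact le_sup_right.trans (le_of_syl le_sup_left (sup_le inf_le_right oj_le) h2 hK.syl)

theorem Ad.mem_nn (hK : Blk T lam J) (h : Ad F T J π) (hA : ExJ lam A J) {α : H} (hα : α ∈ A ⊓ J) :
    ∃ s t u y z : F, ∀ x, h.rep ⟨α, hα.2⟩ x = nn s t u y z x := by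
  obtain ⟨b, hbJ, hb⟩ := exists_of_in h.toIsG2 (h.full hK).nb
  have hbr : ∀ x, h.rep ⟨b, hbJ⟩ x = KG2.nb x := h.rep_eq hb
  have hbf : b ∈ J ⊓ fixer lam := h.fixer_of hK hbJ (by
    rw [hbr]; funext i; fin_cases i <;> simp [KG2.nb, e0])
  have hα1 := oj_le_of hK hA (le_oj hα)
  have hα2 := oj_le_of hK hA (conj_oj hbf (le_oj hα))
  refine (h.full hK).exists_nn (g := h.rep ⟨α, hα.2⟩) (g' := h.rep ⟨b * α * b⁻¹, hα2.2⟩)
    ⟨⟨_, rfl⟩, h.uni α hα1 _ fun m => h.rep_spec ⟨α, hα.2⟩ m⟩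
    ⟨⟨_, rfl⟩, h.uni _ hα2 _ fun m => h.rep_spec ⟨b * α * b⁻¹, hα2.2⟩ m⟩ fun x => ?_
  have e : (⟨b * α * b⁻¹, hα2.2⟩ : J) = ⟨b, hbJ⟩ * ⟨α, hα.2⟩ * ⟨b, hbJ⟩⁻¹ := rfl
  have e2 : (h.rep ⟨b, hbJ⟩)⁻¹ x = KG2.nb x := by
    show (h.rep ⟨b, hbJ⟩).symm x = _
    rw [LinearEquiv.symm_apply_eq, hbr, nb_nb]
  rw [e, map_mul, map_mul, map_inv, LinearEquiv.mul_apply, LinearEquiv.mul_apply, e2, hbr]

/-- the image of `A ∩ J` -/
noncomputable def img (A : Subgroup H) (h : IsG2 F J π) : Subgroup (V F ≃ₗ[F] V F) :=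
  ((A ⊓ J).subgroupOf J).map h.rep

theorem mem_img (h : IsG2 F J π) {g : V F ≃ₗ[F] V F} :
    g ∈ img A h ↔ ∃ (α : H) (hα : α ∈ A ⊓ J), h.rep ⟨α, hα.2⟩ = g := by
  constructor
  · rintro ⟨j, hj, rfl⟩
    exact ⟨j, mem_subgroupOf.1 hj, rfl⟩
  · rintro ⟨α, hα, rfl⟩
    exact ⟨_, mem_subgroupOf.2 hα, rfl⟩

theorem Ad.off (hK : Blk T lam J) (h : Ad F T J π) (hA : ExJ lam A J) : OffHyp (img A h.toIsG2) where
  nn g hg := by
    obtain ⟨α, hα, rfl⟩ := (mem_img _).1 hg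
    exact h.mem_nn hK hA hα
  quad g hg k hk x := by
    obtain ⟨α, hα, rfl⟩ := (mem_img _).1 hg
    obtain ⟨β, hβ, rfl⟩ := (mem_img _).1 hk
    obtain ⟨m, rfl⟩ := h.surj x
    have h1 : h.rep ⟨α, hα.2⟩ (π m) - π m = π ((α • m) * m⁻¹) := by
      rw [h.add, pi_inv h.toProj, ← h.rep_spec, sub_eq_add_neg]
    rw [h1, ← h.rep_spec]
    exact congrArg π (hA.quad α hα β hβ m)
  card := by
    have := hK.finM
    have := hK.finH
    let f : M →* Multiplicative (V F) :=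
      { toFun := fun m => Multiplicative.ofAdd (π m)
        map_one' := by rw [pi_one h.toProj]; rfl
        map_mul' := fun m n => by rw [h.add]; rfl }
    let K : Subgroup (Multiplicative (V F)) :=
      { carrier := {x | ∀ g ∈ img A h.toIsG2, g x.toAdd = x.toAdd}
        one_mem' := fun g _ => map_zero g
        mul_mem' := fun {x y} hx hy g hg => by rw [toAdd_mul, map_add, hx g hg, hy g hg]
        inv_mem' := fun {x} hx g hg => by rw [toAdd_inv, map_neg, hx g hg] }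
    have hf : Function.Surjective f := fun x => by
      obtain ⟨m, hm⟩ := h.surj x.toAdd
      exact ⟨m, by show Multiplicative.ofAdd (π m) = x; rw [hm]; rfl⟩
    have h1 : zm M (A ⊓ J) ≤ K.comap f := by
      intro m hm g hg
      obtain ⟨α, hα, rfl⟩ := (mem_img _).1 hg
      show h.rep ⟨α, hα.2⟩ (π m) = π m
      rw [← h.rep_spec]
      exact congrArg π (hm α hα)
    have h2 : K.index ≤ Nat.card (img A h.toIsG2) := by
      rw [← K.index_comap_of_surjective hf]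
      have h3 : Nat.card (img A h.toIsG2) = Nat.card (A ⊓ J : Subgroup H) := by
        rw [img, Nat.card_congr (equivMapOfInjective _ h.rep (h.rep_inj hK)).symm.toEquiv]
        exact Nat.card_congr (subgroupOfEquivOfLe (inf_le_right : A ⊓ J ≤ J)).toEquiv
      rw [h3, hA.card]
      exact index_antitone h1
    have h3 : Nat.card K * K.index = Nat.card F ^ 6 := by
      rw [K.card_mul_index, Nat.card_congr Multiplicative.toAdd, Nat.card_fun, Nat.card_fin]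
    have h4 : Nat.card K = Nat.card (Fixed (img A h.toIsG2)) :=
      Nat.card_congr ⟨fun x => ⟨x.1.toAdd, x.2⟩, fun x => ⟨Multiplicative.ofAdd x.1, x.2⟩, fun _ => rfl, fun _ => rfl⟩
    rw [← h3, h4, mul_comm]
    exact Nat.mul_le_mul_right _ h2
  ne := by
    intro hb
    apply hA.ne
    rw [eq_bot_iff]
    intro α hα
    have h1 : h.rep ⟨α, hα.2⟩ ∈ img A h.toIsG2 := (mem_img _).2 ⟨α, hα, rfl⟩
    rw [hb, mem_bot, ← map_one h.rep] at h1
    exact congrArg Subtype.val (h.rep_inj hK h1)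

theorem Ad.form (hK : Blk T lam J) (h : Ad F T J π) (hA : ExJ lam A J) {α : H} (hα : α ∈ A ⊓ J) :
    ∃ u y z : F, ∀ m, π (α • m) = nn 0 0 u y z (π m) := by
  obtain ⟨u, y, z, e⟩ := (h.off hK hA).form ((mem_img _).2 ⟨α, hα, rfl⟩)
  exact ⟨u, y, z, fun m => by rw [← e]; exact h.rep_spec ⟨α, hα.2⟩ m⟩

theorem Ad.all (hK : Blk T lam J) (h : Ad F T J π) (hA : ExJ lam A J) (u y z : F) :
    ∃ α ∈ A ⊓ J, ∀ m, π (α • m) = nn 0 0 u y z (π m) := by
  obtain ⟨g, hg, e⟩ := (h.off hK hA).all u y z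
  obtain ⟨α, hα, rfl⟩ := (mem_img _).1 hg
  exact ⟨α, hα, fun m => by rw [← e]; exact h.rep_spec ⟨α, hα.2⟩ m⟩

/-! ### generation -/

theorem Ad.top_of (hK : Blk T lam J) (h : Ad F T J π) (hA : ExJ lam A J) {w : H} (hw : w ∈ J)
    (ew : ∀ m, π (w • m) = ww (π m)) {S : Subgroup H} (h1 : ∀ α ∈ A ⊓ J, α ∈ S)
    (h2 : ∀ α ∈ A ⊓ J, w * α * w⁻¹ ∈ S) : J ≤ S := by
  set N' := (S.subgroupOf J).map h.rep with hN'
  have hle : N' ≤ h.rep.range := by
    rintro _ ⟨j, -, rfl⟩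
    exact ⟨j, rfl⟩
  have hwr : ∀ x, h.rep ⟨w, hw⟩ x = ww x := h.rep_eq ew
  have hg : Gen N' := by
    refine gen_of (fun u y z => ?_) (fun u y z => ?_)
    · obtain ⟨α, hα, e⟩ := h.all hK hA u y z
      exact ⟨h.rep ⟨α, hα.2⟩, ⟨_, mem_subgroupOf.2 (h1 α hα), rfl⟩, h.rep_eq e⟩
    · obtain ⟨α, hα, e⟩ := h.all hK hA u y z
      refine ⟨h.rep (⟨w, hw⟩ * ⟨α, hα.2⟩ * ⟨w, hw⟩⁻¹), ⟨_, mem_subgroupOf.2 (h2 α hα), rfl⟩, fun x => ?_⟩
      have e2 : (h.rep ⟨w, hw⟩)⁻¹ x = ww x := by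
        show (h.rep ⟨w, hw⟩).symm x = _
        rw [LinearEquiv.symm_apply_eq, hwr, ww_ww]
      have e3 : h.rep ⟨α, hα.2⟩ (ww x) = nn 0 0 u y z (ww x) := h.rep_eq e _
      rw [map_mul, map_mul, map_inv, LinearEquiv.mul_apply, LinearEquiv.mul_apply, e2, hwr, e3]
      rfl
  have he := (h.full hK).eq_of_gen hle hg
  intro j hj
  have h3 : h.rep ⟨j, hj⟩ ∈ h.rep.range := ⟨_, rfl⟩
  rw [← he] at h3
  obtain ⟨k, hk, e⟩ := h3
  have h4 := h.rep_inj hK e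
  rw [h4] at hk
  exact mem_subgroupOf.1 hk

theorem Ad.exists_w (hK : Blk T lam J) (h : Ad F T J π) : ∃ w ∈ J, ∀ m : M, π (w • m) = ww (π m) :=
  exists_of_in h.toIsG2 (h.full hK).ww

theorem Ad.gens (hK : Blk T lam J) (h : Ad F T J π) (hA : ExJ lam A J) : KGens A J := by
  obtain ⟨w, hw, ew⟩ := h.exists_w hK
  exact h.top_of hK hA hw ew (fun α hα => subset_closure ⟨1, J.one_mem, α, hα, by group⟩)
    fun α hα => subset_closure ⟨w, hw, α, hα, rfl⟩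

theorem Ad.meets (hK : Blk T lam J) (h : Ad F T J π) (hA : ExJ lam A J) : KMeets M A J := by
  intro hne hb
  apply hne
  obtain ⟨w, hw, ew⟩ := h.exists_w hK
  set X : Subgroup M := cm (em M J) (A ⊓ J) with hX
  set f : M →* M := MulDistribMulAction.toMonoidHom M w with hf
  have hfw : ∀ m, f m = w • m := fun _ => rfl
  have hcoord : ∀ x ∈ X, π x 3 = 0 ∧ π x 4 = 0 ∧ π x 5 = 0 := by
    let K : Subgroup M :=
      { carrier := {x | π x 3 = 0 ∧ π x 4 = 0 ∧ π x 5 = 0}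
        one_mem' := by rw [Set.mem_ofPred_eq, pi_one h.toProj]; exact ⟨rfl, rfl, rfl⟩
        mul_mem' := by
          rintro x y ⟨h3, h4, h5⟩ ⟨g3, g4, g5⟩
          rw [Set.mem_ofPred_eq, h.add]
          simp only [Pi.add_apply, h3, h4, h5, g3, g4, g5, add_zero, and_self]
        inv_mem' := by
          rintro x ⟨h3, h4, h5⟩
          rw [Set.mem_ofPred_eq, pi_inv h.toProj]
          simp only [Pi.neg_apply, h3, h4, h5, neg_zero, and_self] }
    have h1 : X ≤ K := by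
      rw [hX, cm, closure_le]
      rintro _ ⟨α, hα, m, -, rfl⟩
      obtain ⟨u, y, z, e⟩ := h.form hK hA hα
      show π ((α • m) * m⁻¹) 3 = 0 ∧ π ((α • m) * m⁻¹) 4 = 0 ∧ π ((α • m) * m⁻¹) 5 = 0
      rw [h.add, pi_inv h.toProj, e, nn_apply]
      refine ⟨?_, ?_, ?_⟩ <;> simp
    exact h1
  have hinj : ∀ x ∈ X, π x = 0 → x = 1 := by
    intro x hx h0
    have h1 : x ∈ X ⊓ zm M J := ⟨hx, (h.ker x).1 h0⟩
    rw [hb, mem_bot] at h1
    exact h1
  let S : Subgroup H :=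
    { carrier := {j | j ∈ J ∧ ∀ e ∈ em M J, (j • e) * e⁻¹ ∈ X ⊔ X.map f}
      one_mem' := ⟨J.one_mem, fun e _ => by rw [one_smul, mul_inv_cancel]; exact one_mem _⟩
      mul_mem' := by
        rintro j k ⟨hj, ej⟩ ⟨hk, ek⟩
        refine ⟨J.mul_mem hj hk, fun e he => ?_⟩
        have h1 := mul_mem (ej _ (smul_mem_em hk he)) (ek e he)
        have h2 : (j • k • e) * (k • e)⁻¹ * ((k • e) * e⁻¹) = ((j * k) • e) * e⁻¹ := by
          rw [mul_smul]; group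
        rwa [h2] at h1
      inv_mem' := by
        rintro j ⟨hj, ej⟩
        refine ⟨J.inv_mem hj, fun e he => ?_⟩
        have h1 := inv_mem (ej _ (smul_mem_em (J.inv_mem hj) he))
        rw [smul_inv_smul, mul_inv_rev, inv_inv] at h1
        exact h1 }
  have hJS : J ≤ S := by
    refine h.top_of hK hA hw ew (fun α hα => ⟨hα.2, fun e he => ?_⟩) (fun α hα =>
      ⟨J.mul_mem (J.mul_mem hw hα.2) (J.inv_mem hw), fun e he => ?_⟩)
    · exact (le_sup_left : X ≤ X ⊔ X.map f) (subset_closure ⟨α, hα, e, he, rfl⟩)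
    · refine (le_sup_right : X.map f ≤ X ⊔ X.map f) ⟨(α • w⁻¹ • e) * (w⁻¹ • e)⁻¹,
        subset_closure ⟨α, hα, _, smul_mem_em (J.inv_mem hw) he, rfl⟩, ?_⟩
      rw [hfw, smul_mul', smul_inv', smul_inv_smul, mul_smul, mul_smul]
  have hem : em M J ≤ X ⊔ X.map f := by
    conv_lhs => rw [← hK.perf]
    rw [cm, closure_le]
    rintro _ ⟨j, hj, e, he, rfl⟩
    exact (hJS hj).2 e he
  rw [eq_bot_iff]
  rintro x ⟨hx, hxz⟩
  obtain ⟨y, hy, z, ⟨z', hz', rfl⟩, rfl⟩ := mem_sup.1 (hem hx)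
  have h0 := (h.ker _).2 hxz
  rw [h.add, hfw, ew] at h0
  obtain ⟨y3, y4, y5⟩ := hcoord y hy
  obtain ⟨z3, z4, z5⟩ := hcoord z' hz'
  have c0 := congrFun h0 0
  have c1 := congrFun h0 1
  have c2 := congrFun h0 2
  have c3 := congrFun h0 3
  have c4 := congrFun h0 4
  have c5 := congrFun h0 5
  simp [ww, y3, y4, y5, z3, z4, z5] at c0 c1 c2 c3 c4 c5
  have hy1 : y = 1 := hinj y hy (by funext i; fin_cases i <;> simp [*])
  have hz1 : z' = 1 := hinj z' hz' (by funext i; fin_cases i <;> simp [*])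
  rw [hy1, hz1, map_one, mul_one]
  exact one_mem _

/-! ### separation -/

section sep

variable {R : Type*} [CommGroup R] {E : Subgroup M} {Φ : Subgroup (M → R)}

theorem inv_of (hm : ∀ φ ∈ Φ, ∀ x ∈ E, ∀ y ∈ E, φ (x * y) = φ x * φ y) {φ : M → R} (hφ : φ ∈ Φ) {x : M}
    (hx : x ∈ E) : φ x⁻¹ = (φ x)⁻¹ := by
  have h1 : φ 1 = 1 := by
    have h := hm φ hφ 1 (one_mem _) 1 (one_mem _)
    rw [mul_one] at h
    exact mul_eq_left.1 h.symm
  have h := hm φ hφ x hx x⁻¹ (inv_mem hx)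
  rw [mul_inv_cancel, h1] at h
  exact (inv_eq_of_mul_eq_one_right h.symm).symm

theorem diff_of (hE : ∀ j ∈ J, ∀ e ∈ E, j • e ∈ E)
    (hm : ∀ φ ∈ Φ, ∀ x ∈ E, ∀ y ∈ E, φ (x * y) = φ x * φ y)
    (hi : ∀ φ ∈ Φ, ∀ j ∈ J, ∃ ψ ∈ Φ, ∀ x ∈ E, ψ x = φ (j • x)) {φ : M → R} (hφ : φ ∈ Φ) {j : H} (hj : j ∈ J) :
    ∃ ψ ∈ Φ, ∀ x ∈ E, ψ x = φ ((j • x) * x⁻¹) := by
  obtain ⟨ψ, hψ, e⟩ := hi φ hφ j hj
  refine ⟨ψ * φ⁻¹, mul_mem hψ (inv_mem hφ), fun x hx => ?_⟩
  rw [hm φ hφ _ (hE j hj x hx) _ (inv_mem hx), inv_of hm hφ hx, Pi.mul_apply, Pi.inv_apply, e x hx]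

/-- **Separation**: some `ψ ∈ Φ` is nontrivial at `d` and trivial on `{x | (π x) 4 = 0}`. -/
theorem Ad.sep (hK : Blk T lam J) (h : Ad F T J π) (hE : ∀ j ∈ J, ∀ e ∈ E, j • e ∈ E)
    (hm : ∀ φ ∈ Φ, ∀ x ∈ E, ∀ y ∈ E, φ (x * y) = φ x * φ y)
    (hi : ∀ φ ∈ Φ, ∀ j ∈ J, ∃ ψ ∈ Φ, ∀ x ∈ E, ψ x = φ (j • x)) {φ : M → R} (hφ : φ ∈ Φ)
    (hz : ∀ z ∈ E, z ∈ zm M J → φ z = 1) {m : M} (hmE : m ∈ E) (hφm : φ m ≠ 1) {d : M} (hd : d ∈ E)
    (hd4 : π d 4 ≠ 0) : ∃ ψ ∈ Φ, ψ d ≠ 1 ∧ ∀ x ∈ E, π x 4 = 0 → ψ x = 1 := by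
  have hval : ∀ x ∈ E, ∀ y ∈ E, π x = π y → φ x = φ y := by
    intro x hx y hy e
    have h1 := hz (x * y⁻¹) (mul_mem hx (inv_mem hy)) ((pi_eq h.toProj).1 e)
    rw [hm φ hφ x hx _ (inv_mem hy), inv_of hm hφ hy] at h1
    exact mul_inv_eq_one.1 h1
  have hm0 : π m ≠ 0 := fun e => hφm (hz m hmE ((h.ker m).1 e))
  obtain ⟨_, ⟨g, rfl⟩, eg⟩ := (h.full hK).trans (π m) hm0
  obtain ⟨j1, hj1, e1⟩ := exists_of_in h.toIsG2 ((h.full hK).xd 1)
  obtain ⟨j2, hj2, e2⟩ := exists_of_in h.toIsG2 ((h.full hK).xb (π d 4)⁻¹)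
  obtain ⟨φ1, hφ1, f1⟩ := hi φ hφ g g.2
  obtain ⟨φ2, hφ2, f2⟩ := diff_of hE hm hi hφ1 hj1
  obtain ⟨φ3, hφ3, f3⟩ := diff_of hE hm hi hφ2 hj2
  have hmem : ∀ x ∈ E, ∀ j ∈ J, (j • x) * x⁻¹ ∈ E := fun x hx j hj => mul_mem (hE j hj x hx) (inv_mem hx)
  have key : ∀ x ∈ E, ∃ r ∈ E, φ3 x = φ r ∧ π r = ((π d 4)⁻¹ * π x 4) • π m := by
    intro x hx
    have hn := hmem x hx j2 hj2
    set n := (j2 • x) * x⁻¹ with hnn
    have hn' := hmem n hn j1 hj1
    refine ⟨(g : H) • ((j1 • n) * n⁻¹), hE g g.2 _ hn', ?_, ?_⟩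
    · rw [f3 x hx, ← hnn, f2 n hn, f1 _ hn']
    · have h1 : π n = (π d 4)⁻¹ • ![0, π x 2, 0, π x 4, 0, 0] := by
        rw [hnn, h.add, pi_inv h.toProj, e2]
        funext i; fin_cases i <;> simp [KG2.xb]
      have h2 : π ((j1 • n) * n⁻¹) = ((π d 4)⁻¹ * π x 4) • e0 := by
        rw [h.add, pi_inv h.toProj, e1, h1]
        funext i; fin_cases i <;> simp [KG2.xd, e0]
      rw [h.rep_spec, h2, map_smul, eg]
  refine ⟨φ3, hφ3, ?_, fun x hx hx4 => ?_⟩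
  · obtain ⟨r, hr, e, er⟩ := key d hd
    rw [inv_mul_cancel₀ hd4, one_smul] at er
    rw [e, hval r hr m hmE er]
    exact hφm
  · obtain ⟨r, hr, e, er⟩ := key x hx
    rw [hx4, mul_zero, zero_smul] at er
    rw [e]
    exact hz r hr ((h.ker r).1 er)

end sep

/-- The three elements of `GoodA`, `GoodB`. -/
theorem Ad.data (hK : Blk T lam J) (h : Ad F T J π) (hA : ExJ lam A J) {w : H}
    (ew : ∀ m, π (w • m) = ww (π m)) {α : H} {u y z : F} (hu : u ≠ 0)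
    (eα : ∀ m, π (α • m) = nn 0 0 u y z (π m)) : ∃ k ∈ A ⊓ J, ∀ a ∈ lam, a ≠ 1 →
      π (w • a) 4 = 0 ∧ π ((α • w • a) * (w • a)⁻¹) 4 = 0 ∧
      π (((w * k * w⁻¹) • ((α • w • a) * (w • a)⁻¹)) * ((α • w • a) * (w • a)⁻¹)⁻¹) 4 ≠ 0 := by
  obtain ⟨k, hk, ek⟩ := h.all hK hA 0 0 1
  rw [nn_d] at ek
  refine ⟨k, hk, fun a ha ha1 => ?_⟩
  have h0 := h.pi_ne hK ha ha1
  have h1 : π (w • a) = π a 0 • e5 := by
    rw [ew]
    conv_lhs => rw [h.pi_lam hK ha]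
    funext i; fin_cases i <;> simp [ww, e0, e5]
  have h2 : π ((α • w • a) * (w • a)⁻¹) = π a 0 • ![u ^ 2, y, z, 0, 0, 0] := by
    rw [h.add, pi_inv h.toProj, eα, h1, nn_apply]
    funext i; fin_cases i <;> simp [e5] <;> ring
  set c := (α • w • a) * (w • a)⁻¹ with hc
  have h3 : π ((w * k * w⁻¹) • c) = ww (KG2.xd 1 (ww (π c))) := by
    have h4 : π (w⁻¹ • c) = ww (π c) := by
      have h5 := ew (w⁻¹ • c)
      rw [smul_inv_smul] at h5
      rw [h5, ww_ww]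
    rw [mul_smul, mul_smul, ew, ek, h4]
  refine ⟨by rw [h1]; simp [e5], by rw [h2]; simp, ?_⟩
  rw [h.add, pi_inv h.toProj, h3, h2]
  simp [ww, KG2.xd, h0, hu]

theorem Ad.good (R : Type*) [CommGroup R] (hK : Blk T lam J) (h : Ad F T J π) (hA : ExJ lam A J) :
    KGood R T lam A J := by
  obtain ⟨w, hw, ew⟩ := h.exists_w hK
  have hw5 : ∀ a ∈ lam, π (w • a) = π a 0 • e5 := fun a ha => by
    rw [ew]
    conv_lhs => rw [h.pi_lam hK ha]
    funext i; fin_cases i <;> simp [ww, e0, e5]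
  refine ⟨w, hw, fun a ha ha1 => ?_, ?_⟩
  · obtain ⟨α, hα, eα⟩ := h.all hK hA 1 0 0
    refine ⟨α, hα, fun hz => ?_⟩
    have h1 := (h.ker _).2 hz
    rw [h.add, pi_inv h.toProj, eα, hw5 a ha, nn_apply] at h1
    have h2 := congrFun h1 0
    simp [e5] at h2
    exact h.pi_ne hK ha ha1 h2
  · set S : Set H := {α | α ∈ A ⊓ J ∧ ((∀ a ∈ lam, (α • w • a) * (w • a)⁻¹ ∈ zm M J) ∨
      (GoodA R lam A J w α ∧ (A ≤ J → lam ≤ em M J → tm M J ≠ ⊥ → (∀ t ∈ T, cj t J = J) →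
        GoodB R T lam A J w α)))} with hS
    have key : ∀ α ∈ A ⊓ J, ∀ u y z : F, u ≠ 0 → (∀ m, π (α • m) = nn 0 0 u y z (π m)) → α ∈ S := by
      intro α hα u y z hu eα
      obtain ⟨k, hk, hd⟩ := h.data hK hA ew hu eα
      have hk' : k ∈ oj lam A J := le_oj hk
      refine ⟨hα, Or.inr ⟨?_, fun _ hle _ _ => ?_⟩⟩
      · intro Φ hne hi hz a ha ha1
        obtain ⟨φ, hφ, hφ1⟩ : ∃ φ ∈ Φ, φ ≠ 1 := by
          by_contra hc
          push Not at hc
          exact hne ((Subgroup.eq_bot_iff_forall _).2 hc)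
        obtain ⟨m, hm⟩ : ∃ m, φ m ≠ 1 := by
          by_contra hc
          push Not at hc
          exact hφ1 (MonoidHom.ext hc)
        obtain ⟨d1, d2, d3⟩ := hd a ha ha1
        obtain ⟨ψ, ⟨ψ', hψ', rfl⟩, p1, p2⟩ := h.sep hK (E := ⊤) (Φ := Φ.map (MonoidHom.coeFn M R))
          (fun _ _ _ _ => mem_top _) (by
            rintro _ ⟨φ, -, rfl⟩ x - y -
            exact map_mul φ x y) (by
            rintro _ ⟨φ, hφ, rfl⟩ j hj
            obtain ⟨ψ, hψ, e⟩ := hi φ hφ j hj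
            exact ⟨_, ⟨ψ, hψ, rfl⟩, fun x _ => e x⟩) (φ := φ) ⟨φ, hφ, rfl⟩
          (fun z _ hz' => hz φ hφ z hz') (mem_top m) hm (mem_top _) d3
        exact ⟨ψ', hψ', k, hk', p2 _ (mem_top _) d2, p1⟩
      · intro Φ hm hi hf _ _ a ha ha1
        obtain ⟨φ, hφ, hφa⟩ := hf a ha ha1
        obtain ⟨φ0, hφ0, hz, m, hmE, hm1⟩ := KCom.exists_zero hK hm hi hφ (hle ha) hφa
        obtain ⟨d1, d2, d3⟩ := hd a ha ha1
        have q1 : w • a ∈ em M J := smul_mem_em hw (hle ha)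
        have q2 : (α • w • a) * (w • a)⁻¹ ∈ em M J := mul_mem (smul_mem_em hα.2 q1) (inv_mem q1)
        have q3 : ((w * k * w⁻¹) • ((α • w • a) * (w • a)⁻¹)) * ((α • w • a) * (w • a)⁻¹)⁻¹ ∈ em M J :=
          mul_mem (smul_mem_em (J.mul_mem (J.mul_mem hw hk.2) (J.inv_mem hw)) q2) (inv_mem q2)
        obtain ⟨ψ, hψ, p1, p2⟩ := h.sep hK (E := em M J) (Φ := Φ) (fun j hj e he => smul_mem_em hj he) hm hi hφ0
          hz hmE hm1 q3 d3
        exact ⟨ψ, hψ, k, hk', p2 _ q1 d1, p2 _ q2 d2, p1⟩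
    intro α hα
    obtain ⟨u, y, z, eα⟩ := h.form hK hA hα
    by_cases hu : u = 0
    · obtain ⟨β, hβ, eβ⟩ := h.all hK hA 1 0 0
      have h1 : β ∈ S := key β hβ 1 0 0 one_ne_zero eβ
      obtain ⟨u', y', z', e'⟩ := h.form hK hA (mul_mem hα hβ)
      have hu' : u' ≠ 0 := by
        rintro rfl
        obtain ⟨m, hm⟩ := h.surj e5
        have h2 := e' m
        rw [mul_smul, eα, eβ, hm, hu, nn_apply, nn_apply, nn_apply] at h2
        have h3 := congrFun h2 0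
        simp [e5] at h3
      have h2 : α * β ∈ S := key _ (mul_mem hα hβ) u' y' z' hu' e'
      have h3 := mul_mem (subset_closure h2 : α * β ∈ closure S) (inv_mem (subset_closure h1 : β ∈ closure S))
      rwa [mul_inv_cancel_right] at h3
    · exact subset_closure (key α hα u y z hu eα)

end adapted

/-- **The K-facts for `J = G₂(r)`.** -/
theorem kfacts_g2 (R : Type*) [CommGroup R] (h : IsG2 F J π) : KFacts R T lam J where
  tor hK := by
    have := char_of hK h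
    have := finite_of hK h
    obtain ⟨π', h'⟩ := exists_ad hK h
    exact h'.tor hK
  gens A hK hA := by
    have := char_of hK h
    have := finite_of hK h
    obtain ⟨π', h'⟩ := exists_ad hK h
    exact h'.gens hK hA
  meets A hK hA := by
    have := char_of hK h
    have := finite_of hK h
    obtain ⟨π', h'⟩ := exists_ad hK h
    exact h'.meets hK hA
  trans A hK hA := by
    have := char_of hK h
    have := finite_of hK h
    obtain ⟨π', h'⟩ := exists_ad hK h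
    exact KCom.trans_of (h'.linL hK)
  good A hK hA := by
    have := char_of hK h
    have := finite_of hK h
    obtain ⟨π', h'⟩ := exists_ad hK h
    exact h'.good R hK hA

end Cfsg.Agent.Omega.NO3S.FarQ.KG2
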