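import Cfsg.Agent.Omega.NO3S.FarQ.KG2Lin

/-!
# `G₂(q)`, `q` even: the order and the Sylow 2-subgroup

* `Gen.card_le` : a group containing the root elements has order `≥ r ^ 6 * (r ^ 6 - 1) * (r ^ 2 - 1)`;
* `Full N` : `Gen N` and the order is equal to this; `Full.eq_of_gen` : `N' ≤ N`, `Gen N'` imply `N' = N`;
* `Uni N` : the unitriangular elements, a Sylow 2-subgroup; `Full.exists_uu` : its elements.
-/

set_option autoImplicit false
set_option linter.unusedSectionVars false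

namespace Cfsg.Agent.Omega.NO3S.FarQ.KG2

variable {F : Type*} [Field F] [CharP F 2] {N N' : Subgroup (V F ≃ₗ[F] V F)}

instance [Finite F] : Finite (V F ≃ₗ[F] V F) := DFunLike.finite _

/-- `g x = y` for some `g ∈ N` fixing `e0` and `e5` -/
def Fy (N : Subgroup (V F ≃ₗ[F] V F)) (x y : V F) : Prop := ∃ g ∈ N, g e0 = e0 ∧ g e5 = e5 ∧ g x = y

theorem Fy.trans {x y z : V F} (h : Fy N x y) (h' : Fy N y z) : Fy N x z := by
  obtain ⟨g, hg, e, e', e''⟩ := h
  obtain ⟨k, hk, d, d', d''⟩ := h'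
  exact ⟨k * g, N.mul_mem hk hg, by rw [LinearEquiv.mul_apply, e, d], by rw [LinearEquiv.mul_apply, e', d'],
    by rw [LinearEquiv.mul_apply, e'', d'']⟩

theorem In.fy {f : V F → V F} (h : In N f) (h0 : f e0 = e0) (h5 : f e5 = e5) (x : V F) : Fy N x (f x) := by
  obtain ⟨g, hg, e⟩ := h
  exact ⟨g, hg, by rw [e, h0], by rw [e, h5], e x⟩

theorem xb_e0 (t : F) : KG2.xb t e0 = e0 := by funext i; fin_cases i <;> simp [KG2.xb, e0]
theorem xb_e5 (t : F) : KG2.xb t e5 = e5 := by funext i; fin_cases i <;> simp [KG2.xb, e5]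
theorem xb_e1 (t : F) : KG2.xb t e1 = e1 := by funext i; fin_cases i <;> simp [KG2.xb, e1]
theorem yb_e0 (t : F) : KG2.yb t e0 = e0 := by funext i; fin_cases i <;> simp [KG2.yb, e0]
theorem yb_e5 (t : F) : KG2.yb t e5 = e5 := by funext i; fin_cases i <;> simp [KG2.yb, e5]

theorem Gen.fyl_aux (h : Gen N) (w₁ w₂ : F) (hw : w₂ ≠ 0) : Fy N e1 ![0, w₁, w₂, 0, 0, 0] := by
  have a := (h.yb w₂).fy (yb_e0 _) (yb_e5 _) e1
  have b := (h.xb ((w₁ - 1) / w₂)).fy (xb_e0 _) (xb_e5 _) (KG2.yb w₂ e1)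
  have e : KG2.xb ((w₁ - 1) / w₂) (KG2.yb w₂ e1) = ![0, w₁, w₂, 0, 0, 0] := by
    funext i; fin_cases i <;> simp [KG2.xb, KG2.yb, e1]
    field_simp; ring
  rw [e] at b
  exact a.trans b

theorem Gen.fyl (h : Gen N) (w : F × F) (hw : w ≠ 0) : Fy N e1 ![0, w.1, w.2, 0, 0, 0] := by
  by_cases h2 : w.2 = 0
  · have h1 : w.1 ≠ 0 := fun h1 => hw (Prod.ext h1 h2)
    have a := h.fyl_aux w.1 w.1 h1
    have b := (h.yb 1).fy (yb_e0 _) (yb_e5 _) ![0, w.1, w.1, 0, 0, 0]
    have e : KG2.yb 1 ![0, w.1, w.1, 0, 0, 0] = ![0, w.1, w.2, 0, 0, 0] := by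
      have h2' := two_zero (F := F)
      funext i; fin_cases i <;> simp [KG2.yb, h2]
      grind
    rw [e] at b
    exact a.trans b
  · exact h.fyl_aux w.1 w.2 h2

theorem card_ne {α : Type*} [Finite α] (a : α) : Nat.card {x : α // x ≠ a} = Nat.card α - 1 := by
  classical
  have := Fintype.ofFinite α
  rw [Nat.card_eq_fintype_card, Nat.card_eq_fintype_card]
  exact Set.card_ne_eq a

theorem Gen.card_le [Finite F] (h : Gen N) :
    Nat.card F ^ 6 * (Nat.card F ^ 6 - 1) * (Nat.card F ^ 2 - 1) ≤ Nat.card N := by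
  have h1 : ∀ x : {x : V F // x ≠ 0}, ∃ g : N, g.1 e0 = x.1 := fun x => by
    obtain ⟨g, hg, e⟩ := h.trans x.1 x.2
    exact ⟨⟨g, hg⟩, e⟩
  choose G1 H1 using h1
  have h2 : ∀ p : Fin 5 → F, ∃ g : N, g.1 e0 = e0 ∧ g.1 e5 = ![p 0, p 1, p 2, p 3, p 4, 1] := fun p => by
    obtain ⟨g, hg, e, e'⟩ := h.fx_of_eq (x := e5) (y := ![p 0, p 1, p 2, p 3, p 4, 1])
      (by simp [e5]) (by simp [e5])
    exact ⟨⟨g, hg⟩, e, e'⟩
  choose G2 H2 H2' using h2
  have h3 : ∀ w : {w : F × F // w ≠ 0}, ∃ g : N, g.1 e0 = e0 ∧ g.1 e5 = e5 ∧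
      g.1 e1 = ![0, w.1.1, w.1.2, 0, 0, 0] := fun w => by
    obtain ⟨g, hg, e, e', e''⟩ := h.fyl w.1 w.2
    exact ⟨⟨g, hg⟩, e, e', e''⟩
  choose G3 H3 H3' H3'' using h3
  have h4 : ∀ m : F, ∃ g : N, g.1 e0 = e0 ∧ g.1 e5 = e5 ∧ g.1 e1 = e1 ∧ (g.1 e2) 1 = m := fun m => by
    obtain ⟨g, hg, e⟩ := h.xb m
    refine ⟨⟨g, hg⟩, ?_, ?_, ?_, ?_⟩
    · show g e0 = e0; rw [e, xb_e0]
    · show g e5 = e5; rw [e, xb_e5]
    · show g e1 = e1; rw [e, xb_e1]
    · show (g e2) 1 = m; rw [e]; simp [KG2.xb, e2]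
  choose G4 H4 H4' H4'' H4''' using h4
  let Φ : {x : V F // x ≠ 0} × (Fin 5 → F) × {w : F × F // w ≠ 0} × F → N :=
    fun q => G1 q.1 * (G2 q.2.1 * (G3 q.2.2.1 * G4 q.2.2.2))
  have hΦ : Function.Injective Φ := by
    rintro ⟨x, p, w, m⟩ ⟨x', p', w', m'⟩ e
    have e0' : (G1 x * (G2 p * (G3 w * G4 m))) = (G1 x' * (G2 p' * (G3 w' * G4 m'))) := e
    have hx : x = x' := by
      have := congrArg (fun g : N => g.1 e0) e0'
      simp only [Subgroup.coe_mul, LinearEquiv.mul_apply, H1, H2, H3, H4] at this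
      exact Subtype.ext this
    subst hx
    have e1' := mul_left_cancel e0'
    have hp : p = p' := by
      have := congrArg (fun g : N => g.1 e5) e1'
      simp only [Subgroup.coe_mul, LinearEquiv.mul_apply, H2', H3', H4'] at this
      funext i
      have h0 := congrFun this i.castSucc
      fin_cases i <;> simpa using h0
    subst hp
    have e2' := mul_left_cancel e1'
    have hw : w = w' := by
      have := congrArg (fun g : N => g.1 e1) e2'
      simp only [Subgroup.coe_mul, LinearEquiv.mul_apply, H3'', H4''] at this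
      have h0 := congrFun this 1
      have h1 := congrFun this 2
      refine Subtype.ext (Prod.ext ?_ ?_)
      · simpa using h0
      · simpa using h1
    subst hw
    have e3' := mul_left_cancel e2'
    have hm : m = m' := by
      have := congrArg (fun g : N => (g.1 e2) 1) e3'
      simpa only [H4'''] using this
    rw [hm]
  have hc := Nat.card_le_card_of_injective Φ hΦ
  rw [Nat.card_prod, Nat.card_prod, Nat.card_prod, card_ne, card_ne, Nat.card_fun, Nat.card_fun, Nat.card_prod,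
    Nat.card_fin, Nat.card_fin] at hc
  calc Nat.card F ^ 6 * (Nat.card F ^ 6 - 1) * (Nat.card F ^ 2 - 1)
      = (Nat.card F ^ 6 - 1) * (Nat.card F ^ 5 * ((Nat.card F * Nat.card F - 1) * Nat.card F)) := by
        rw [show Nat.card F * Nat.card F = Nat.card F ^ 2 by ring]; ring
    _ ≤ _ := hc

/-- `N` contains the root elements and has the order of `G₂(r)`. -/
structure Full (N : Subgroup (V F ≃ₗ[F] V F)) : Prop extends Gen N where
  card : Nat.card N = Nat.card F ^ 6 * (Nat.card F ^ 6 - 1) * (Nat.card F ^ 2 - 1)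

theorem Full.eq_of_gen [Finite F] (h : Full N) (hle : N' ≤ N) (h' : Gen N') : N' = N :=
  Subgroup.eq_of_le_of_card_ge hle (h.card ▸ h'.card_le)

/-! ### unitriangular elements -/

/-- `x ∈ B_k` -/
def Fl (k : ℕ) (x : V F) : Prop := ∀ i : Fin 6, k ≤ (i : ℕ) → x i = 0

theorem Fl.mono {k l : ℕ} {x : V F} (h : Fl k x) (hkl : k ≤ l) : Fl l x := fun i hi => h i (hkl.trans hi)

theorem Fl.add {k : ℕ} {x y : V F} (h : Fl k x) (h' : Fl k y) : Fl k (x + y) := fun i hi => by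
  simp [h i hi, h' i hi]

theorem Fl.eq_zero {x : V F} (h : Fl 0 x) : x = 0 := funext fun i => h i (Nat.zero_le _)

/-- `g - 1` maps `B_{k + n}` to `B_k`. -/
def Uk (n : ℕ) (g : V F ≃ₗ[F] V F) : Prop := ∀ (k : ℕ) (x : V F), Fl (k + n) x → Fl k (g x - x)

theorem Uk.sq {n : ℕ} {g : V F ≃ₗ[F] V F} (h : Uk n g) : Uk (n + n) (g * g) := by
  intro k x hx
  have h1 : Fl k (g (g x - x) - (g x - x)) := h k _ (h (k + n) x (by rwa [add_assoc]))
  have e : (g * g) x - x = g (g x - x) - (g x - x) := by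
    have h2 : ∀ y : V F, y + y = 0 := fun y => by
      funext i; exact CharTwo.add_self_eq_zero _
    rw [LinearEquiv.mul_apply, map_sub]
    have := h2 (g x)
    have h3 := h2 x
    have : g (g x) - g x - (g x - x) = g (g x) - x - (g x + g x) + (x + x) := by abel
    rw [this, h2, h3]; simp
  rw [e]; exact h1

theorem Uk.eight {g : V F ≃ₗ[F] V F} (h : Uk 1 g) : g ^ 8 = 1 := by
  have h8 : Uk 8 (g * g * (g * g) * (g * g * (g * g))) := h.sq.sq.sq
  have e : g ^ 8 = g * g * (g * g) * (g * g * (g * g)) := by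
    simp only [pow_succ, pow_zero, one_mul, mul_assoc]
  rw [e]
  refine LinearEquiv.ext fun x => ?_
  have := (h8 0 x fun i hi => absurd hi (by have := i.2; omega)).eq_zero
  exact sub_eq_zero.1 this

theorem Uk.fl {g : V F ≃ₗ[F] V F} (h : Uk 1 g) {k : ℕ} {x : V F} (hx : Fl k x) : Fl k (g x) := by
  cases k with
  | zero => rw [hx.eq_zero, map_zero]; intro i _; rfl
  | succ k =>
    have := ((h k x hx).mono (Nat.le_succ k)).add hx
    rwa [sub_add_cancel] at this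

theorem Uk.mul {g g' : V F ≃ₗ[F] V F} (h : Uk 1 g) (h' : Uk 1 g') : Uk 1 (g * g') := by
  intro k x hx
  have e : (g * g') x - x = g (g' x - x) + (g x - x) := by
    rw [LinearEquiv.mul_apply, map_sub]; abel
  rw [e]
  exact (h.fl (h' k x hx)).add (h k x hx)

theorem Uk.one : Uk 1 (1 : V F ≃ₗ[F] V F) := by
  intro k x _ i _
  simp

theorem Uk.pow {g : V F ≃ₗ[F] V F} (h : Uk 1 g) : ∀ n : ℕ, Uk 1 (g ^ n)
  | 0 => by rw [pow_zero]; exact Uk.one
  | n + 1 => by rw [pow_succ]; exact (h.pow n).mul h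

theorem Uk.inv {g : V F ≃ₗ[F] V F} (h : Uk 1 g) : Uk 1 g⁻¹ := by
  have e : g⁻¹ = g ^ 7 := by
    rw [inv_eq_iff_mul_eq_one, ← pow_succ']; exact h.eight
  rw [e]; exact h.pow 7

/-- The unitriangular elements of `N`. -/
def Uni (N : Subgroup (V F ≃ₗ[F] V F)) : Subgroup (V F ≃ₗ[F] V F) where
  carrier := {g | g ∈ N ∧ Uk 1 g}
  one_mem' := ⟨N.one_mem, Uk.one⟩
  mul_mem' := fun h h' => ⟨N.mul_mem h.1 h'.1, h.2.mul h'.2⟩
  inv_mem' := fun h => ⟨N.inv_mem h.1, h.2.inv⟩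

theorem mem_uni {g : V F ≃ₗ[F] V F} : g ∈ Uni N ↔ g ∈ N ∧ Uk 1 g := Iff.rfl

theorem uni_le : Uni N ≤ N := fun _ h => h.1

theorem uni_two : IsPGroup 2 (Uni N) := fun g => ⟨3, Subtype.ext g.2.2.eight⟩

/-- the general element of the radical of the stabiliser of `e0` -/
def nn (s t u y z : F) : V F → V F := KG2.xc u ∘ KG2.xe y ∘ KG2.xd z ∘ KG2.xa s ∘ KG2.xab t

/-- the general unitriangular element -/
def uu (s t u y z m : F) : V F → V F := nn s t u y z ∘ KG2.xb m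

theorem Gen.nn (h : Gen N) (s t u y z : F) : In N (KG2.nn s t u y z) :=
  (h.xc u).comp ((h.xe y).comp ((h.xd z).comp ((h.xa s).comp (h.xab t))))

theorem Gen.uu (h : Gen N) (s t u y z m : F) : In N (KG2.uu s t u y z m) := (h.nn s t u y z).comp (h.xb m)

theorem nn_apply (s t u y z : F) (x : V F) : nn s t u y z x =
    ![x 0 + s * x 1 + t * x 2 + z * x 3 + (y + s * t ^ 2) * x 4 + (u ^ 2 + s * y + t * z) * x 5,
      x 1 + u * x 3 + t ^ 2 * x 4 + (y + t * u) * x 5,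
      x 2 + s ^ 2 * x 3 + u * x 4 + (z + s * u + s ^ 2 * t) * x 5,
      x 3 + t * x 5, x 4 + s * x 5, x 5] := by
  have h2 := two_zero (F := F)
  funext i; fin_cases i <;> simp [nn, KG2.xc, KG2.xe, KG2.xd, KG2.xa, KG2.xab] <;> ring

theorem uu_apply (s t u y z m : F) (x : V F) : uu s t u y z m x = nn s t u y z (KG2.xb m x) := rfl

theorem uk_of_nn {g : V F ≃ₗ[F] V F} {s t u y z m : F} (h : ∀ x, g x = uu s t u y z m x) : Uk 1 g := by
  intro k x hx i hi
  have hj : ∀ j : Fin 6, (i : ℕ) < j → x j = 0 := fun j hj => hx j (by omega)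
  have q1 := hj 1
  have q2 := hj 2
  have q3 := hj 3
  have q4 := hj 4
  have q5 := hj 5
  rw [Pi.sub_apply, h, uu_apply, nn_apply]
  clear h hx
  fin_cases i <;> simp at q1 q2 q3 q4 q5 <;> simp [KG2.xb, *]

/-- `N` has order `r ^ 6 * odd`, so `|Uni N| ≤ r ^ 6`. -/
theorem Full.card_uni_le [Finite F] (h : Full N) : Nat.card (Uni N) ≤ Nat.card F ^ 6 := by
  have hF0 : 0 < Nat.card F := Nat.card_pos
  obtain ⟨k, hk⟩ := IsPGroup.iff_card.1 (uni_two (N := N))
  have hd : Nat.card (Uni N) ∣ Nat.card N := Subgroup.card_dvd_of_le uni_le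
  have heven : 2 ∣ Nat.card F := by
    have := Fintype.ofFinite F
    obtain ⟨n, hn, e⟩ := FiniteField.card F 2
    rw [Nat.card_eq_fintype_card, e]
    exact dvd_pow_self 2 n.ne_zero
  have hodd : ∀ n : ℕ, n ≠ 0 → Nat.Coprime 2 (Nat.card F ^ n - 1) := fun n hn => by
    rw [Nat.coprime_two_left]
    have h1 : Even (Nat.card F ^ n) := (even_iff_two_dvd.2 heven).pow_of_ne_zero hn
    exact Nat.Even.sub_odd (Nat.one_le_pow _ _ hF0) h1 odd_one
  rw [h.card, hk] at hd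
  have h1 := Nat.Coprime.dvd_of_dvd_mul_right ((hodd 2 (by norm_num)).pow_left k) hd
  have h2 := Nat.Coprime.dvd_of_dvd_mul_right ((hodd 6 (by norm_num)).pow_left k) h1
  rw [hk]
  exact Nat.le_of_dvd (pow_pos hF0 6) h2

theorem Gen.exists_inj (h : Gen N) : ∃ Φ : (Fin 6 → F) → Uni N, Function.Injective Φ ∧
    ∀ q x, (Φ q).1 x = KG2.uu (q 0) (q 1) (q 2) (q 3) (q 4) (q 5) x := by
  have h2' := two_zero (F := F)
  have h1 : ∀ q : Fin 6 → F, ∃ g : Uni N, ∀ x, g.1 x = KG2.uu (q 0) (q 1) (q 2) (q 3) (q 4) (q 5) x := fun q => by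
    obtain ⟨g, hg, e⟩ := h.uu (q 0) (q 1) (q 2) (q 3) (q 4) (q 5)
    exact ⟨⟨g, hg, uk_of_nn e⟩, e⟩
  choose Φ hΦ using h1
  refine ⟨Φ, ?_, hΦ⟩
  intro q q' e
  have e' : ∀ x, KG2.uu (q 0) (q 1) (q 2) (q 3) (q 4) (q 5) x =
      KG2.uu (q' 0) (q' 1) (q' 2) (q' 3) (q' 4) (q' 5) x :=
    fun x => by rw [← hΦ, ← hΦ, e]
  have a5 := e' e5
  have a2 := e' e2
  rw [uu_apply, uu_apply, nn_apply, nn_apply] at a5 a2
  have b0 := congrFun a5 0
  have b1 := congrFun a5 1
  have b2 := congrFun a5 2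
  have b3 := congrFun a5 3
  have b4 := congrFun a5 4
  have c1 := congrFun a2 1
  simp [KG2.xb, e5, e2] at b0 b1 b2 b3 b4 c1
  simp only [b3, b4] at b0 b1 b2
  have hu : (q 2 + q' 2) ^ 2 = 0 := by
    grind
  have hu' : q 2 = q' 2 := by
    have := pow_eq_zero_iff (two_ne_zero) |>.1 hu
    exact CharTwo.add_eq_zero.1 this
  simp only [hu'] at b1 b2
  funext i
  fin_cases i
  · exact b4
  · exact b3
  · exact hu'
  · simpa using b1
  · simpa using b2
  · exact c1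

theorem Full.card_uni [Finite F] (h : Full N) : Nat.card (Uni N) = Nat.card F ^ 6 := by
  refine le_antisymm h.card_uni_le ?_
  obtain ⟨Φ, hΦ, -⟩ := h.exists_inj
  have := Nat.card_le_card_of_injective _ hΦ
  rwa [Nat.card_fun, Nat.card_fin] at this

/-- The unitriangular elements of `G₂(r)`. -/
theorem Full.exists_uu [Finite F] (h : Full N) {g : V F ≃ₗ[F] V F} (hg : g ∈ Uni N) :
    ∃ s t u y z m : F, ∀ x, g x = KG2.uu s t u y z m x := by
  obtain ⟨Φ, hinj, hΦ⟩ := h.exists_inj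
  have hbij := hinj.bijective_of_nat_card_le (by
    rw [Nat.card_fun, Nat.card_fin]; exact h.card_uni_le)
  obtain ⟨q, hq⟩ := hbij.2 ⟨g, hg⟩
  exact ⟨_, _, _, _, _, _, fun x => by rw [← hΦ q x, hq]⟩

theorem odd_card [Finite F] : Odd ((Nat.card F ^ 6 - 1) * (Nat.card F ^ 2 - 1)) := by
  have hF0 : 0 < Nat.card F := Nat.card_pos
  have heven : 2 ∣ Nat.card F := by
    have := Fintype.ofFinite F
    obtain ⟨n, hn, e⟩ := FiniteField.card F 2
    rw [Nat.card_eq_fintype_card, e]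
    exact dvd_pow_self 2 n.ne_zero
  have hodd : ∀ n : ℕ, n ≠ 0 → Odd (Nat.card F ^ n - 1) := fun n hn => by
    have h1 : Even (Nat.card F ^ n) := (even_iff_two_dvd.2 heven).pow_of_ne_zero hn
    exact Nat.Even.sub_odd (Nat.one_le_pow _ _ hF0) h1 odd_one
  exact (hodd 6 (by norm_num)).mul (hodd 2 (by norm_num))

/-- the reflection in the root `2a + b` -/
def ww (x : V F) : V F := ![x 5, x 3, x 4, x 1, x 2, x 0]

theorem ww_eq : (ww : V F → V F) = KG2.na ∘ KG2.nb ∘ KG2.na ∘ KG2.nb ∘ KG2.na := by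
  funext x i; fin_cases i <;> simp [KG2.na, KG2.nb, ww]

theorem Gen.ww (h : Gen N) : In N KG2.ww := by
  rw [ww_eq]; exact h.na.comp (h.nb.comp (h.na.comp (h.nb.comp h.na)))

/-- If `g` and `nb g nb` are unitriangular then `g` lies in the radical of the stabiliser of `e0`. -/
theorem Full.exists_nn [Finite F] (h : Full N) {g g' : V F ≃ₗ[F] V F} (hg : g ∈ Uni N) (hg' : g' ∈ Uni N)
    (e : ∀ x, g' x = KG2.nb (g (KG2.nb x))) : ∃ s t u y z : F, ∀ x, g x = nn s t u y z x := by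
  obtain ⟨s, t, u, y, z, m, hm⟩ := h.exists_uu hg
  have h1 : Fl 1 (g' e1 - e1) := hg'.2 1 e1 (fun i hi => by
    fin_cases i <;> simp [e1] at hi ⊢)
  have h2 := h1 2 (by simp)
  have m0 : m = 0 := by
    rw [e, hm, uu_apply, nn_apply] at h2
    simpa [KG2.nb, KG2.xb, e1] using h2
  refine ⟨s, t, u, y, z, fun x => ?_⟩
  rw [hm, uu_apply, m0]
  congr 1
  funext i; fin_cases i <;> simp [KG2.xb]

theorem xd1_apply (x : V F) : KG2.xd 1 x = ![x 0 + x 3, x 1, x 2 + x 5, x 3, x 4, x 5] := by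
  simp only [KG2.xd, one_mul]

theorem yd1_apply (x : V F) : KG2.yd 1 x = ![x 0, x 1, x 2, x 3 + x 0, x 4, x 5 + x 2] := by
  simp only [KG2.yd, one_mul]

theorem ye1_apply (x : V F) : KG2.ye 1 x = ![x 0, x 1, x 2, x 3, x 4 + x 0, x 5 + x 1] := by
  simp only [KG2.ye, one_mul]

/-- the reflection in the root `3a + b` -/
def n13 (x : V F) : V F := ![x 3, x 1, x 5, x 0, x 4, x 2]

theorem add_cancel2 (a b : F) : a + b + b = a := by rw [add_assoc, CharTwo.add_self_eq_zero, add_zero]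

theorem n13_eq : (n13 : V F → V F) = KG2.xd 1 ∘ KG2.yd 1 ∘ KG2.xd 1 := by
  funext x
  rw [Function.comp_apply, Function.comp_apply, xd1_apply, yd1_apply, xd1_apply]
  simp only [n13, Matrix.cons_val]
  have h : ∀ a b : F, a + b + (b + (a + b)) = b := fun a b => by
    linear_combination (a + b) * two_zero (F := F)
  have h' : ∀ a b : F, b + (a + b) = a := fun a b => by
    linear_combination b * two_zero (F := F)
  rw [h, h, h', h']

theorem yd_xe (t : F) (x : V F) : KG2.yd 1 (KG2.xe t x) = ![x 0 + t * x 4, x 1 + t * x 5, x 2, x 3 + (x 0 + t * x 4),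
    x 4, x 5 + x 2] := by
  rw [yd1_apply]
  simp only [KG2.xe, Matrix.cons_val]

theorem xb_comm (t : F) : KG2.xb t = (KG2.yd 1 ∘ KG2.xe t) ∘ (KG2.yd 1 ∘ KG2.xe t) := by
  funext x
  rw [Function.comp_apply, Function.comp_apply, Function.comp_apply, yd_xe, yd_xe]
  simp only [KG2.xb, Matrix.cons_val]
  have h1 : t * x 4 + (x 0 + t * x 4) = x 0 := by linear_combination (t * x 4) * two_zero (F := F)
  have h2 : x 1 + t * x 5 + t * (x 5 + x 2) = x 1 + t * x 2 := by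
    linear_combination (t * x 5) * two_zero (F := F)
  have h3 : x 3 + (x 0 + t * x 4) + (x 0 + t * x 4 + t * x 4) = x 3 + t * x 4 := by
    linear_combination (x 0 + t * x 4) * two_zero (F := F)
  rw [h3, h2, add_cancel2, add_cancel2]

theorem ye_xd (t : F) (x : V F) : KG2.ye 1 (KG2.xd t x) = ![x 0 + t * x 3, x 1, x 2 + t * x 5, x 3,
    x 4 + (x 0 + t * x 3), x 5 + x 1] := by
  rw [ye1_apply]
  simp only [KG2.xd, Matrix.cons_val]

theorem yb_comm (t : F) : KG2.yb t = (KG2.ye 1 ∘ KG2.xd t) ∘ (KG2.ye 1 ∘ KG2.xd t) := by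
  funext x
  rw [Function.comp_apply, Function.comp_apply, Function.comp_apply, ye_xd, ye_xd]
  simp only [KG2.yb, Matrix.cons_val]
  have h2 : x 2 + t * x 5 + t * (x 5 + x 1) = x 2 + t * x 1 := by
    linear_combination (t * x 5) * two_zero (F := F)
  have h3 : x 4 + (x 0 + t * x 3) + (x 0 + t * x 3 + t * x 3) = x 4 + t * x 3 := by
    linear_combination (x 0 + t * x 3) * two_zero (F := F)
  rw [h3, h2, add_cancel2, add_cancel2]

theorem vec_eta (x : V F) : ![x 0, x 1, x 2, x 3, x 4, x 5] = x := by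
  funext i; fin_cases i <;> rfl

theorem xc_zero : (KG2.xc 0 : V F → V F) = id := by
  funext x
  simp only [KG2.xc, zero_mul, add_zero, pow_two]
  exact vec_eta x

theorem xd_zero : (KG2.xd 0 : V F → V F) = id := by
  funext x
  simp only [KG2.xd, zero_mul, add_zero]
  exact vec_eta x

theorem xe_zero : (KG2.xe 0 : V F → V F) = id := by
  funext x
  simp only [KG2.xe, zero_mul, add_zero]
  exact vec_eta x

theorem xa_zero : (KG2.xa 0 : V F → V F) = id := by
  funext x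
  simp only [KG2.xa, zero_mul, add_zero, pow_two]
  exact vec_eta x

theorem xb_zero : (KG2.xb 0 : V F → V F) = id := by
  funext x
  simp only [KG2.xb, zero_mul, add_zero]
  exact vec_eta x

theorem xab_zero : (KG2.xab 0 : V F → V F) = id := by
  funext x
  simp only [KG2.xab, zero_mul, add_zero, pow_two]
  exact vec_eta x

theorem nn_c (u : F) : nn 0 0 u 0 0 = KG2.xc u := by
  rw [nn, xe_zero, xd_zero, xa_zero, xab_zero]; rfl

theorem nn_e (u : F) : nn 0 0 0 u 0 = KG2.xe u := by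
  rw [nn, xc_zero, xd_zero, xa_zero, xab_zero]; rfl

theorem nn_d (u : F) : nn 0 0 0 0 u = KG2.xd u := by
  rw [nn, xc_zero, xe_zero, xa_zero, xab_zero]; rfl

theorem xa_conj (t : F) : KG2.xa t = n13 ∘ KG2.yc t ∘ n13 := by
  funext x
  simp only [Function.comp_apply, KG2.xa, KG2.yc, n13, Matrix.cons_val]

theorem ya_conj (t : F) : KG2.ya t = n13 ∘ KG2.xc t ∘ n13 := by
  funext x
  simp only [Function.comp_apply, KG2.ya, KG2.xc, n13, Matrix.cons_val]

theorem yc_conj (t : F) : KG2.yc t = ww ∘ KG2.xc t ∘ ww := by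
  funext x
  simp only [Function.comp_apply, KG2.yc, KG2.xc, ww, Matrix.cons_val]

theorem yd_conj (t : F) : KG2.yd t = ww ∘ KG2.xe t ∘ ww := by
  funext x
  simp only [Function.comp_apply, KG2.yd, KG2.xe, ww, Matrix.cons_val]

theorem ye_conj (t : F) : KG2.ye t = ww ∘ KG2.xd t ∘ ww := by
  funext x
  simp only [Function.comp_apply, KG2.ye, KG2.xd, ww, Matrix.cons_val]

/-- `A_v` and its opposite generate `G₂(r)`. -/
theorem gen_of (h1 : ∀ u y z : F, In N (nn 0 0 u y z)) (h2 : ∀ u y z : F, In N (ww ∘ nn 0 0 u y z ∘ ww)) : Gen N := by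
  have hc : ∀ u : F, In N (KG2.xc u) := fun u => nn_c u ▸ h1 u 0 0
  have he : ∀ u : F, In N (KG2.xe u) := fun u => nn_e u ▸ h1 0 u 0
  have hd : ∀ u : F, In N (KG2.xd u) := fun u => nn_d u ▸ h1 0 0 u
  have hc' : ∀ u : F, In N (KG2.yc u) := fun u => by rw [yc_conj, ← nn_c]; exact h2 u 0 0
  have hd' : ∀ u : F, In N (KG2.yd u) := fun u => by rw [yd_conj, ← nn_e]; exact h2 0 u 0
  have he' : ∀ u : F, In N (KG2.ye u) := fun u => by rw [ye_conj, ← nn_d]; exact h2 0 0 u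
  have hn : In N n13 := by
    rw [n13_eq]; exact (hd 1).comp ((hd' 1).comp (hd 1))
  refine ⟨fun t => ?_, fun t => ?_, fun t => ?_, fun t => ?_⟩
  · rw [xa_conj]; exact hn.comp ((hc' t).comp hn)
  · rw [xb_comm]; exact ((hd' 1).comp (he t)).comp ((hd' 1).comp (he t))
  · rw [ya_conj]; exact hn.comp ((hc t).comp hn)
  · rw [yb_comm]; exact ((he' 1).comp (hd t)).comp ((he' 1).comp (hd t))

end Cfsg.Agent.Omega.NO3S.FarQ.KG2
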