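import Mathlib

/-!
# The natural 6-dimensional module of `G₂(q)`, `q` even, in coordinates

`V F = Fin 6 → F`; `xa, xb, ya, yb` are the root elements for the simple roots `a` (short), `b` (long) and their
negatives, `xab, xc, xd, xe` those of `a + b`, `2a + b`, `3a + b`, `3a + 2b`, `yab, .., ye` the negative ones,
`na, nb` the reflections. `Gen N`: the subgroup `N` of `GL(V)` contains the four families.

* `Gen.trans` : `N` is transitive on the nonzero vectors;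
* `Gen.redQ` : transitivity of the stabiliser of `e0` on `{x | x 5 = e}`;
* `Gen.card_le` : `r ^ 6 * (r ^ 6 - 1) * (r ^ 2 - 1) ≤ |N|`.
-/

set_option autoImplicit false
set_option linter.unusedSectionVars false

namespace Cfsg.Agent.Omega.NO3S.FarQ.KG2

/-- the coordinate space -/
abbrev V (F : Type*) := Fin 6 → F

section defs

variable {F : Type*} [Field F]

/-- the root elements of the simple roots `a` (short), `b` (long) and of their negatives -/
def xa (t : F) (x : V F) : V F := ![x 0 + t * x 1, x 1, x 2 + t ^ 2 * x 3, x 3, x 4 + t * x 5, x 5]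
/-- see `xa` -/
def xb (t : F) (x : V F) : V F := ![x 0, x 1 + t * x 2, x 2, x 3 + t * x 4, x 4, x 5]
/-- see `xa` -/
def ya (t : F) (x : V F) : V F := ![x 0, x 1 + t * x 0, x 2, x 3 + t ^ 2 * x 2, x 4, x 5 + t * x 4]
/-- see `xa` -/
def yb (t : F) (x : V F) : V F := ![x 0, x 1, x 2 + t * x 1, x 3, x 4 + t * x 3, x 5]
/-- the two reflections -/
def na (x : V F) : V F := ![x 1, x 0, x 3, x 2, x 5, x 4]
/-- see `na` -/
def nb (x : V F) : V F := ![x 0, x 2, x 1, x 4, x 3, x 5]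
/-- root `a + b` -/
def xab (t : F) (x : V F) : V F := ![x 0 + t * x 2, x 1 + t ^ 2 * x 4, x 2, x 3 + t * x 5, x 4, x 5]
/-- root `2a + b` -/
def xc (t : F) (x : V F) : V F := ![x 0 + t ^ 2 * x 5, x 1 + t * x 3, x 2 + t * x 4, x 3, x 4, x 5]
/-- root `3a + b` -/
def xd (t : F) (x : V F) : V F := ![x 0 + t * x 3, x 1, x 2 + t * x 5, x 3, x 4, x 5]
/-- root `3a + 2b` -/
def xe (t : F) (x : V F) : V F := ![x 0 + t * x 4, x 1 + t * x 5, x 2, x 3, x 4, x 5]
/-- root `-a - b` -/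
def yab (t : F) (x : V F) : V F := ![x 0, x 1, x 2 + t * x 0, x 3, x 4 + t ^ 2 * x 1, x 5 + t * x 3]
/-- root `-2a - b` -/
def yc (t : F) (x : V F) : V F := ![x 0, x 1, x 2, x 3 + t * x 1, x 4 + t * x 2, x 5 + t ^ 2 * x 0]
/-- root `-3a - b` -/
def yd (t : F) (x : V F) : V F := ![x 0, x 1, x 2, x 3 + t * x 0, x 4, x 5 + t * x 2]
/-- root `-3a - 2b` -/
def ye (t : F) (x : V F) : V F := ![x 0, x 1, x 2, x 3, x 4 + t * x 0, x 5 + t * x 1]

/-- basis vectors -/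
def e0 : V F := ![1, 0, 0, 0, 0, 0]
/-- see `e0` -/
def e1 : V F := ![0, 1, 0, 0, 0, 0]
/-- see `e0` -/
def e2 : V F := ![0, 0, 1, 0, 0, 0]
/-- see `e0` -/
def e3 : V F := ![0, 0, 0, 1, 0, 0]
/-- see `e0` -/
def e4 : V F := ![0, 0, 0, 0, 1, 0]
/-- see `e0` -/
def e5 : V F := ![0, 0, 0, 0, 0, 1]

end defs

section eqs

variable {F : Type*} [Field F] [CharP F 2]

theorem two_zero : (2 : F) = 0 := CharTwo.two_eq_zero

theorem na_eq : (na : V F → V F) = xa 1 ∘ ya 1 ∘ xa 1 := by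
  have h2 := two_zero (F := F)
  funext x i; fin_cases i <;> simp [na, xa, ya] <;> grind

theorem nb_eq : (nb : V F → V F) = xb 1 ∘ yb 1 ∘ xb 1 := by
  have h2 := two_zero (F := F)
  funext x i; fin_cases i <;> simp [nb, xb, yb] <;> grind

theorem xab_eq (t : F) : xab t = nb ∘ xa t ∘ nb := by
  funext x i; fin_cases i <;> simp [nb, xa, xab]

theorem xd_eq (t : F) : xd t = na ∘ xb t ∘ na := by
  funext x i; fin_cases i <;> simp [na, xb, xd]

theorem xc_eq (t : F) : xc t = na ∘ xab t ∘ na := by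
  funext x i; fin_cases i <;> simp [na, xc, xab]

theorem xe_eq (t : F) : xe t = nb ∘ xd t ∘ nb := by
  funext x i; fin_cases i <;> simp [nb, xe, xd]

theorem yab_eq (t : F) : yab t = nb ∘ ya t ∘ nb := by
  funext x i; fin_cases i <;> simp [nb, ya, yab]

theorem yd_eq (t : F) : yd t = na ∘ yb t ∘ na := by
  funext x i; fin_cases i <;> simp [na, yb, yd]

theorem yc_eq (t : F) : yc t = na ∘ yab t ∘ na := by
  funext x i; fin_cases i <;> simp [na, yc, yab]

theorem ye_eq (t : F) : ye t = nb ∘ yd t ∘ nb := by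
  funext x i; fin_cases i <;> simp [nb, ye, yd]

end eqs

section group

variable {F : Type*} [Field F]

/-- `f` is the action of an element of `N`. -/
def In (N : Subgroup (V F ≃ₗ[F] V F)) (f : V F → V F) : Prop := ∃ g ∈ N, ∀ x, g x = f x

variable {N N' : Subgroup (V F ≃ₗ[F] V F)} {f f' : V F → V F}

theorem In.comp (h : In N f) (h' : In N f') : In N (f ∘ f') := by
  obtain ⟨g, hg, e⟩ := h
  obtain ⟨g', hg', e'⟩ := h'
  exact ⟨g * g', N.mul_mem hg hg', fun x => by rw [LinearEquiv.mul_apply, e', e]; rfl⟩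

theorem In.mono (hN : N ≤ N') (h : In N f) : In N' f := by
  obtain ⟨g, hg, e⟩ := h
  exact ⟨g, hN hg, e⟩

/-- `N` contains the root elements. -/
structure Gen (N : Subgroup (V F ≃ₗ[F] V F)) : Prop where
  xa : ∀ t : F, In N (xa t)
  xb : ∀ t : F, In N (xb t)
  ya : ∀ t : F, In N (ya t)
  yb : ∀ t : F, In N (yb t)

variable [CharP F 2]

theorem Gen.na (h : Gen N) : In N na := by
  rw [na_eq]; exact (h.xa 1).comp ((h.ya 1).comp (h.xa 1))

theorem Gen.nb (h : Gen N) : In N nb := by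
  rw [nb_eq]; exact (h.xb 1).comp ((h.yb 1).comp (h.xb 1))

theorem Gen.xab (h : Gen N) (t : F) : In N (xab t) := by
  rw [xab_eq]; exact h.nb.comp ((h.xa t).comp h.nb)

theorem Gen.xd (h : Gen N) (t : F) : In N (xd t) := by
  rw [xd_eq]; exact h.na.comp ((h.xb t).comp h.na)

theorem Gen.xc (h : Gen N) (t : F) : In N (xc t) := by
  rw [xc_eq]; exact h.na.comp ((h.xab t).comp h.na)

theorem Gen.xe (h : Gen N) (t : F) : In N (xe t) := by
  rw [xe_eq]; exact h.nb.comp ((h.xd t).comp h.nb)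

theorem Gen.yab (h : Gen N) (t : F) : In N (yab t) := by
  rw [yab_eq]; exact h.nb.comp ((h.ya t).comp h.nb)

theorem Gen.yd (h : Gen N) (t : F) : In N (yd t) := by
  rw [yd_eq]; exact h.na.comp ((h.yb t).comp h.na)

theorem Gen.yc (h : Gen N) (t : F) : In N (yc t) := by
  rw [yc_eq]; exact h.na.comp ((h.yab t).comp h.na)

theorem Gen.ye (h : Gen N) (t : F) : In N (ye t) := by
  rw [ye_eq]; exact h.nb.comp ((h.yd t).comp h.nb)

/-! ### transitivity -/

/-- `g x = y` for some `g ∈ N` fixing `e0` -/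
def Fx (N : Subgroup (V F ≃ₗ[F] V F)) (x y : V F) : Prop := ∃ g ∈ N, g e0 = e0 ∧ g x = y

omit [CharP F 2] in
theorem Fx.trans {x y z : V F} (h : Fx N x y) (h' : Fx N y z) : Fx N x z := by
  obtain ⟨g, hg, e, e'⟩ := h
  obtain ⟨k, hk, d, d'⟩ := h'
  exact ⟨k * g, N.mul_mem hk hg, by rw [LinearEquiv.mul_apply, e, d], by rw [LinearEquiv.mul_apply, e', d']⟩

omit [CharP F 2] in
theorem Fx.symm {x y : V F} (h : Fx N x y) : Fx N y x := by
  obtain ⟨g, hg, e, e'⟩ := h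
  refine ⟨g⁻¹, N.inv_mem hg, ?_, ?_⟩
  · show g.symm e0 = e0
    rw [LinearEquiv.symm_apply_eq, e]
  · show g.symm y = x
    rw [LinearEquiv.symm_apply_eq, e']

omit [CharP F 2] in
theorem In.fx (h : In N f) (h0 : f e0 = e0) (x : V F) : Fx N x (f x) := by
  obtain ⟨g, hg, e⟩ := h
  exact ⟨g, hg, by rw [e, h0], e x⟩

omit [CharP F 2] in
theorem xa_e0 (t : F) : KG2.xa t e0 = e0 := by
  funext i; fin_cases i <;> simp [KG2.xa, e0]

omit [CharP F 2] in
theorem xab_e0 (t : F) : KG2.xab t e0 = e0 := by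
  funext i; fin_cases i <;> simp [KG2.xab, e0]

omit [CharP F 2] in
theorem xc_e0 (t : F) : KG2.xc t e0 = e0 := by
  funext i; fin_cases i <;> simp [KG2.xc, e0]

omit [CharP F 2] in
theorem xd_e0 (t : F) : KG2.xd t e0 = e0 := by
  funext i; fin_cases i <;> simp [KG2.xd, e0]

omit [CharP F 2] in
theorem xe_e0 (t : F) : KG2.xe t e0 = e0 := by
  funext i; fin_cases i <;> simp [KG2.xe, e0]

theorem exists_sq [Finite F] (c : F) : ∃ t : F, t ^ 2 = c := by
  have hi : Function.Injective fun t : F => t ^ 2 := by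
    intro s t hst
    have h2 := two_zero (F := F)
    have h : (s - t) ^ 2 = 0 := by
      have hst' : s ^ 2 = t ^ 2 := hst
      have : (s - t) ^ 2 = s ^ 2 - t ^ 2 - 2 * (t * (s - t)) := by ring
      rw [this, hst', h2]; ring
    exact sub_eq_zero.1 (pow_eq_zero_iff (two_ne_zero) |>.1 h)
  exact (Finite.surjective_of_injective hi) c

theorem Gen.redQ [Finite F] (h : Gen N) (x : V F) (hx : x 5 ≠ 0) : Fx N x ![0, 0, 0, 0, 0, x 5] := by
  have h2 := two_zero (F := F)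
  obtain ⟨x1, hx1⟩ : ∃ y, y = KG2.xa (x 4 / x 5) x := ⟨_, rfl⟩
  have a1 : Fx N x x1 := hx1 ▸ (h.xa _).fx (xa_e0 _) x
  have b1 : x1 5 = x 5 := by rw [hx1]; simp [KG2.xa]
  have c1 : x1 4 = 0 := by rw [hx1]; simp [KG2.xa]; field_simp; grind
  obtain ⟨x2, hx2⟩ : ∃ y, y = KG2.xab (x1 3 / x 5) x1 := ⟨_, rfl⟩
  have a2 : Fx N x1 x2 := hx2 ▸ (h.xab _).fx (xab_e0 _) x1
  have b2 : x2 5 = x 5 := by rw [hx2]; simp [KG2.xab, b1]
  have c2 : x2 4 = 0 := by rw [hx2]; simp [KG2.xab, c1]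
  have d2 : x2 3 = 0 := by rw [hx2]; simp [KG2.xab, b1]; field_simp; grind
  obtain ⟨x3, hx3⟩ : ∃ y, y = KG2.xd (x2 2 / x 5) x2 := ⟨_, rfl⟩
  have a3 : Fx N x2 x3 := hx3 ▸ (h.xd _).fx (xd_e0 _) x2
  have b3 : x3 5 = x 5 := by rw [hx3]; simp [KG2.xd, b2]
  have c3 : x3 4 = 0 := by rw [hx3]; simp [KG2.xd, c2]
  have d3 : x3 3 = 0 := by rw [hx3]; simp [KG2.xd, d2]
  have f3 : x3 2 = 0 := by rw [hx3]; simp [KG2.xd, b2]; field_simp; grind
  obtain ⟨x4, hx4⟩ : ∃ y, y = KG2.xe (x3 1 / x 5) x3 := ⟨_, rfl⟩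
  have a4 : Fx N x3 x4 := hx4 ▸ (h.xe _).fx (xe_e0 _) x3
  have b4 : x4 5 = x 5 := by rw [hx4]; simp [KG2.xe, b3]
  have c4 : x4 4 = 0 := by rw [hx4]; simp [KG2.xe, c3]
  have d4 : x4 3 = 0 := by rw [hx4]; simp [KG2.xe, d3]
  have f4 : x4 2 = 0 := by rw [hx4]; simp [KG2.xe, f3]
  have g4 : x4 1 = 0 := by rw [hx4]; simp [KG2.xe, b3]; field_simp; grind
  obtain ⟨u, hu⟩ := exists_sq (x4 0 / x 5)
  have a5 : Fx N x4 (KG2.xc u x4) := (h.xc _).fx (xc_e0 _) x4
  have e5' : KG2.xc u x4 = ![0, 0, 0, 0, 0, x 5] := by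
    funext i
    fin_cases i <;> simp [KG2.xc, b4, c4, d4, f4, g4]
    rw [hu]; field_simp; grind
  rw [← e5']
  exact a1.trans (a2.trans (a3.trans (a4.trans a5)))

theorem Gen.fx_of_eq [Finite F] (h : Gen N) {x y : V F} (hx : x 5 ≠ 0) (e : x 5 = y 5) : Fx N x y := by
  have h1 := h.redQ x hx
  have h2 := h.redQ y (e ▸ hx)
  rw [← e] at h2
  exact h1.trans h2.symm

/-- `g e0 = x` for some `g ∈ N` -/
def Rc (N : Subgroup (V F ≃ₗ[F] V F)) (x : V F) : Prop := ∃ g ∈ N, g e0 = x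

omit [CharP F 2] in
theorem Rc.of_fx {x y : V F} (h : Rc N y) (h' : Fx N x y) : Rc N x := by
  obtain ⟨g, hg, e⟩ := h
  obtain ⟨k, hk, -, d⟩ := h'
  refine ⟨k⁻¹ * g, N.mul_mem (N.inv_mem hk) hg, ?_⟩
  rw [LinearEquiv.mul_apply, e]
  show k.symm y = x
  rw [LinearEquiv.symm_apply_eq, d]

omit [CharP F 2] in
theorem Rc.of_in {x : V F} (hf : In N f) (h : Rc N (f x)) : Rc N x := by
  obtain ⟨g, hg, e⟩ := h
  obtain ⟨k, hk, d⟩ := hf
  refine ⟨k⁻¹ * g, N.mul_mem (N.inv_mem hk) hg, ?_⟩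
  rw [LinearEquiv.mul_apply, e]
  show k.symm (f x) = x
  rw [LinearEquiv.symm_apply_eq, d]

theorem Gen.rc5 [Finite F] (h : Gen N) (x : V F) (hx : x 5 ≠ 0) : Rc N x := by
  obtain ⟨t, ht⟩ := exists_sq (x 5)
  obtain ⟨g, hg, e⟩ := h.yc t
  have h1 : Rc N (KG2.yc t e0) := ⟨g, hg, e _⟩
  refine h1.of_fx (h.fx_of_eq hx ?_)
  simp [KG2.yc, e0, ht]

theorem Gen.trans [Finite F] (h : Gen N) (x : V F) (hx : x ≠ 0) : ∃ g ∈ N, g e0 = x := by
  show Rc N x
  by_contra hc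
  apply hx
  have key : ∀ f : V F → V F, In N f → (f x) 5 = 0 := by
    intro f hf
    by_contra h5
    exact hc (Rc.of_in hf (h.rc5 _ h5))
  have k5 := key id ⟨1, N.one_mem, fun _ => rfl⟩
  have k4 := key _ h.na
  have k3 := key _ (h.na.comp h.nb)
  have k2 := key _ (h.na.comp (h.nb.comp h.na))
  have k1 := key _ (h.na.comp (h.nb.comp (h.na.comp h.nb)))
  have k0 := key _ (h.na.comp (h.nb.comp (h.na.comp (h.nb.comp h.na))))
  simp [KG2.na, KG2.nb] at k0 k1 k2 k3 k4 k5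
  funext i; fin_cases i <;> simp [*]

end group

end Cfsg.Agent.Omega.NO3S.FarQ.KG2
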