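import Cfsg.Agent.Omega.NO3S.FarQ.KSLMeets

/-!
# FarQ: the K-facts for `SL_m(r)` (`kfacts_sl`)

`KGood`: `g ∈ J` with `u = g v` outside the axes of `A ∩ J`; every `α ∈ A ∩ J` moving `u` is good. The functionals
`φ` enter only through the family `𝓕` of the functions `B → R` induced by the `φ` trivial on `C_M(J)` (`Fam`): it contains
`b ↦ f(h(b) w)` for `f ∈ 𝓕`, `h(w) = 0` (`Fam.rank1`).
-/

set_option autoImplicit false

namespace Cfsg.Agent.Omega.NO3S.FarQ.KSL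

open Subgroup Module Cfsg.Agent.ZN Cfsg.Agent.Omega.NO3S.PT
open Cfsg.Agent.Omega.NO3S.FarQ.KCom
open Cfsg.Agent.ClassTwoFusion.Quad (cv mem_cv cv_anti)
open Cfsg.Agent.Omega.Mix.SLn (exists_dual)
open scoped Pointwise

variable {H M : Type*} [Group H] [CommGroup M] [MulDistribMulAction H M]
variable {F B R : Type*} [Field F] [AddCommGroup B] [Module F B] [CommGroup R]
variable {T J A : Subgroup H} {lam : Subgroup M} {π : M → B}

/-- a `J`-invariant group of additive functions `B → R` -/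
structure Fam (J : Subgroup H) (π : M → B) (𝓕 : Set (B → R)) : Prop where
  mul : ∀ f ∈ 𝓕, ∀ f' ∈ 𝓕, (fun b => f b * f' b) ∈ 𝓕
  inv : ∀ f ∈ 𝓕, (fun b => (f b)⁻¹) ∈ 𝓕
  add : ∀ f ∈ 𝓕, ∀ b b', f (b + b') = f b * f b'
  act : ∀ f ∈ 𝓕, ∀ j ∈ J, ∃ f' ∈ 𝓕, ∀ m : M, f' (π m) = f (π (j • m))

namespace Fam

variable {𝓕 : Set (B → R)} (hF : Fam J π 𝓕)
include hF

theorem zero {f : B → R} (hf : f ∈ 𝓕) : f 0 = 1 := by
  have h := hF.add f hf 0 0
  rw [add_zero] at h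
  exact mul_eq_left.1 h.symm

theorem rank1 (hB : IsSL F B J π) {f : B → R} (hf : f ∈ 𝓕) {h : Dual F B} {w : B} (hw : h w = 0) :
    (fun b => f (h b • w)) ∈ 𝓕 := by
  obtain ⟨t, ht, e⟩ := exists_tr hB hw
  obtain ⟨f', hf', hft⟩ := hF.act f hf t ht
  have h1 := hF.mul f' hf' _ (hF.inv f hf)
  convert h1 using 1
  funext b
  obtain ⟨m, rfl⟩ := hB.surj b
  rw [hft, e m, hF.add f hf, mul_right_comm, mul_inv_cancel, one_mul]

/-- a nontrivial function of `𝓕` is nontrivial at every given vector, up to `J` -/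
theorem move (hB : IsSL F B J π) {f : B → R} (hf : f ∈ 𝓕) {z v : B} (hz : z ≠ 0) (hv : v ≠ 0) :
    ∃ f' ∈ 𝓕, ∀ c : F, f' (c • v) = f (c • z) := by
  obtain ⟨j, hj, h1⟩ := (lin_of hB).tr v z hv hz
  obtain ⟨f', hf', h2⟩ := hF.act f hf j hj
  obtain ⟨l, -, hl⟩ := hB.lin j hj
  have h3 : l v = z := by
    obtain ⟨m, rfl⟩ := hB.surj v
    rw [← hl, h1 m rfl]
  refine ⟨f', hf', fun c => ?_⟩
  obtain ⟨m, hm⟩ := hB.surj (c • v)
  rw [← hm, h2, hl, hm, map_smul, h3]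

theorem ne_zero {f : B → R} (hf : f ∈ 𝓕) {z : B} (h : f z ≠ 1) : z ≠ 0 := by
  rintro rfl
  exact h (hF.zero hf)

/-- `u₀`, `v` independent, `w₀ ∈ F v`: separation -/
theorem sep (hB : IsSL F B J π) {u₀ v w₀ : B} (hv : v ≠ 0) (hu : u₀ ∉ Submodule.span F {v})
    (hw : w₀ ∈ Submodule.span F {v}) {f : B → R} (hf : f ∈ 𝓕) {z : B} (hz : z ≠ 0) (μ : F) :
    ∃ f' ∈ 𝓕, f' w₀ = 1 ∧ ∀ c : F, f' (c • u₀) = f ((c * μ) • z) := by
  obtain ⟨f₁, hf₁, h1⟩ := hF.move hB hf hz hv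
  obtain ⟨h, hh, hh'⟩ := exists_dual hu
  refine ⟨_, hF.rank1 hB hf₁ (h := μ • h) (w := v) (by rw [LinearMap.smul_apply, hh, smul_zero]), ?_, fun c => ?_⟩
  · obtain ⟨d, rfl⟩ := Submodule.mem_span_singleton.1 hw
    show f₁ ((μ • h) (d • v) • v) = 1
    rw [map_smul, LinearMap.smul_apply, hh, smul_zero, smul_zero, zero_smul, hF.zero hf₁]
  · show f₁ ((μ • h) (c • u₀) • v) = _
    rw [map_smul, LinearMap.smul_apply, hh', smul_eq_mul, smul_eq_mul, mul_one, h1]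

end Fam

section good

variable (hK : Blk T lam J) (hB : IsSL F B J π) (hE : ExJ lam A J)
include hK hB hE

/-- `g O_J g⁻¹` contains all the transvections with centre `π (g a)` -/
theorem exists_oj_conj {g : H} (hg : g ∈ J) {a : M} (ha : a ∈ lam) (ha1 : a ≠ 1) {h : Dual F B}
    (hh : h (π (g • a)) = 0) : ∃ o ∈ oj lam A J, Tr π (g * o * g⁻¹) h (π (g • a)) := by
  obtain ⟨f, -, hf⟩ := hB.lin g hg
  obtain ⟨o, ho, e⟩ := exists_oj hK hB hE ha ha1 (g := h ∘ₗ (f : B →ₗ[F] B)) (by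
    show h (f (π a)) = 0
    rw [← hf, hh])
  refine ⟨o, ho, ?_⟩
  have h1 := e.conj hf
  have h2 : (h ∘ₗ (f : B →ₗ[F] B)) ∘ₗ (f.symm : B →ₗ[F] B) = h := by
    ext b
    show h (f (f.symm b)) = h b
    rw [f.apply_symm_apply]
  rw [h2, ← hf] at h1
  exact h1

/-- the situation at one `a`: `c = [g a, α]`, `u₀ = π (g a)`, `w₀ = π c` -/
structure At (A J : Subgroup H) (lam : Subgroup M) (π : M → B) (F : Type*) [Field F] [Module F B] (g α : H) (a : M) :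
    Prop where
  gJ : g ∈ J
  αA : α ∈ A ⊓ J
  ha : a ∈ lam
  ha1 : a ≠ 1
  w0 : π (kap α (g • a)) ∈ Submodule.span F {π a}
  w1 : π (kap α (g • a)) ≠ 0
  u0 : π (g • a) ∉ Submodule.span F {π a}

omit hK hB hE in
theorem At.w_notMem {g α : H} {a : M} (h : At A J lam π F g α a) :
    π (kap α (g • a)) ∉ Submodule.span F {π (g • a)} := by
  intro h1
  have h2 : Submodule.span F {π (kap α (g • a))} = Submodule.span F {π a} := by
    apply le_antisymm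
    · rw [Submodule.span_singleton_le_iff_mem]
      exact h.w0
    · rw [Submodule.span_singleton_le_iff_mem]
      obtain ⟨c, hc⟩ := Submodule.mem_span_singleton.1 h.w0
      have hc0 : c ≠ 0 := by
        rintro rfl
        rw [zero_smul] at hc
        exact h.w1 hc.symm
      refine Submodule.mem_span_singleton.2 ⟨c⁻¹, ?_⟩
      rw [← hc, inv_smul_smul₀ hc0]
  have h3 : π (g • a) ≠ 0 := ne_zero_of_notMem h.u0
  obtain ⟨c, hc⟩ := Submodule.mem_span_singleton.1 h1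
  have hc0 : c ≠ 0 := by
    rintro rfl
    rw [zero_smul] at hc
    exact h.w1 hc.symm
  apply h.u0
  rw [← h2]
  refine Submodule.mem_span_singleton.2 ⟨c⁻¹, ?_⟩
  rw [← hc, inv_smul_smul₀ hc0]

/-- `GoodA` from `At` -/
theorem goodA {g α : H} (hat : ∀ a ∈ lam, a ≠ 1 → At A J lam π F g α a) : GoodA R lam A J g α := by
  intro Φ hΦ hinv hz a ha ha1
  have hP := hB.toProj
  have h := hat a ha ha1
  let 𝓕 : Set (B → R) := {f | ∃ φ ∈ Φ, ∀ m, φ m = f (π m)}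
  have hF : Fam J π 𝓕 :=
    { mul := by
        rintro f ⟨φ, hφ, e⟩ f' ⟨φ', hφ', e'⟩
        exact ⟨φ * φ', mul_mem hφ hφ', fun m => by rw [MonoidHom.mul_apply, e, e']⟩
      inv := by
        rintro f ⟨φ, hφ, e⟩
        exact ⟨φ⁻¹, inv_mem hφ, fun m => by rw [MonoidHom.inv_apply, e]⟩
      add := by
        rintro f ⟨φ, hφ, e⟩ b b'
        obtain ⟨m, rfl⟩ := hP.surj b
        obtain ⟨m', rfl⟩ := hP.surj b'
        rw [← hP.add, ← e, ← e, ← e, map_mul]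
      act := by
        rintro f ⟨φ, hφ, e⟩ j hj
        obtain ⟨ψ, hψ, e'⟩ := hinv φ hφ j hj
        choose s hs using hP.surj
        refine ⟨fun b => f (π (j • s b)), ⟨ψ, hψ, fun m => ?_⟩, fun m => ?_⟩
        · show ψ m = f (π (j • s (π m)))
          rw [e', e, pi_congr_J hP hj (hs (π m))]
        · show f (π (j • s (π m))) = _
          rw [pi_congr_J hP hj (hs (π m))] }
  -- a nontrivial function
  obtain ⟨f, hf, z, hfz⟩ : ∃ f ∈ 𝓕, ∃ z, f z ≠ 1 := by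
    obtain ⟨⟨φ, hφ⟩, h1⟩ := Subgroup.ne_bot_iff_exists_ne_one.1 hΦ
    have h2 : φ ≠ 1 := fun e => h1 (Subtype.ext e)
    obtain ⟨m, hm⟩ : ∃ m, φ m ≠ 1 := by
      by_contra hcon
      push Not at hcon
      exact h2 (MonoidHom.ext hcon)
    choose s hs using hP.surj
    have h3 : ∀ m, φ m = φ (s (π m)) := by
      intro m
      have h4 := hz φ hφ _ ((pi_eq hP).1 (hs (π m)).symm)
      rw [map_mul, map_inv] at h4
      exact mul_inv_eq_one.1 h4
    exact ⟨fun b => φ (s b), ⟨φ, hφ, h3⟩, π m, fun e => hm (by rw [h3]; exact e)⟩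
  have hv : π a ≠ 0 := pi_ne hK hB ha ha1
  obtain ⟨f', ⟨φ, hφ, e⟩, h1, h2⟩ := hF.sep hB hv h.u0 h.w0 hf (hF.ne_zero hf hfz) 1
  obtain ⟨k, hk, hk'⟩ := exists_dual h.w_notMem
  obtain ⟨o, ho, e'⟩ := exists_oj_conj hK hB hE h.gJ ha ha1 hk
  refine ⟨φ, hφ, o, ho, ?_, ?_⟩
  · show φ (kap α (g • a)) = 1
    rw [e, h1]
  · show φ (kap (g * o * g⁻¹) (kap α (g • a))) ≠ 1
    rw [e, pi_kap hP e', hk', h2, mul_one, one_smul]
    exact hfz

end good

/-! ### `GoodB` -/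

/-- the hypotheses on `Φ` in `GoodB` -/
structure GB (J : Subgroup H) (lam : Subgroup M) (Φ : Subgroup (M → R)) : Prop where
  mul : ∀ φ ∈ Φ, ∀ x ∈ em M J, ∀ y ∈ em M J, φ (x * y) = φ x * φ y
  inv : ∀ φ ∈ Φ, ∀ j ∈ J, ∃ ψ ∈ Φ, ∀ x ∈ em M J, ψ x = φ (j • x)
  nt : ∀ a ∈ lam, a ≠ 1 → ∃ φ ∈ Φ, φ a ≠ 1
  ti : ∀ φ ∈ Φ, ∀ j ∈ J, ∀ a ∈ lam, a ≠ 1 → φ (j • a) = 1 → ∀ b ∈ lam, φ (j • b) = 1

/-- the functions on `B` -/
def fam (J : Subgroup H) (π : M → B) (Φ : Subgroup (M → R)) : Set (B → R) := {f | ∃ φ ∈ Φ, ∀ e ∈ em M J, φ e = f (π e)}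

theorem GB.fam {Φ : Subgroup (M → R)} (hG : GB J lam Φ) (hK : Blk T lam J) (hP : Proj F B J π) :
    Fam J π (fam J π Φ) where
  mul := by
    rintro f ⟨φ, hφ, e⟩ f' ⟨φ', hφ', e'⟩
    exact ⟨φ * φ', mul_mem hφ hφ', fun m hm => by rw [Pi.mul_apply, e m hm, e' m hm]⟩
  inv := by
    rintro f ⟨φ, hφ, e⟩
    exact ⟨φ⁻¹, inv_mem hφ, fun m hm => by rw [Pi.inv_apply, e m hm]⟩
  add := by
    rintro f ⟨φ, hφ, e⟩ b b'
    obtain ⟨m, hm, rfl⟩ := exists_em hK hP b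
    obtain ⟨m', hm', rfl⟩ := exists_em hK hP b'
    rw [← hP.add, ← e _ (mul_mem hm hm'), ← e m hm, ← e m' hm', hG.mul φ hφ m hm m' hm']
  act := by
    rintro f ⟨φ, hφ, e⟩ j hj
    obtain ⟨ψ, hψ, e'⟩ := hG.inv φ hφ j hj
    choose s hs using hP.surj
    refine ⟨fun b => f (π (j • s b)), ⟨ψ, hψ, fun m hm => ?_⟩, fun m => ?_⟩
    · show ψ m = f (π (j • s (π m)))
      rw [e' m hm, e _ (smul_mem_em hj hm), pi_congr_J hP hj (hs (π m))]
    · show f (π (j • s (π m))) = _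
      rw [pi_congr_J hP hj (hs (π m))]

theorem GB.one {Φ : Subgroup (M → R)} (hG : GB J lam Φ) {φ : M → R} (hφ : φ ∈ Φ) : φ 1 = 1 := by
  have h := hG.mul φ hφ 1 (one_mem _) 1 (one_mem _)
  rw [mul_one] at h
  exact mul_eq_left.1 h.symm

theorem GB.map_inv {Φ : Subgroup (M → R)} (hG : GB J lam Φ) {φ : M → R} (hφ : φ ∈ Φ) {x : M} (hx : x ∈ em M J) :
    φ x⁻¹ = (φ x)⁻¹ := by
  have h := hG.mul φ hφ x hx x⁻¹ (inv_mem hx)
  rw [mul_inv_cancel, hG.one hφ] at h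
  exact (inv_eq_of_mul_eq_one_right h.symm).symm

theorem GB.exists_f {Φ : Subgroup (M → R)} (hG : GB J lam Φ) (hK : Blk T lam J) (hP : Proj F B J π)
    (hle : lam ≤ em M J) {a : M} (ha : a ∈ lam) (ha1 : a ≠ 1) : ∃ f ∈ KSL.fam J π Φ, ∃ z, f z ≠ 1 := by
  obtain ⟨φ, hφ, h1⟩ := hG.nt a ha ha1
  obtain ⟨ψ, hψ, h2, e, he, h3⟩ := exists_zero hK hG.mul hG.inv hφ (hle ha) h1
  choose s hs hs' using exists_em hK hP
  refine ⟨fun b => ψ (s b), ⟨ψ, hψ, fun x hx => ?_⟩, π e, fun h => h3 ?_⟩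
  · have h4 : x * (s (π x))⁻¹ ∈ zm M J := (pi_eq hP).1 (hs' (π x)).symm
    have h5 := h2 _ (mul_mem hx (inv_mem (hs (π x)))) h4
    rw [hG.mul ψ hψ x hx _ (inv_mem (hs _)), hG.map_inv hψ (hs _)] at h5
    exact mul_inv_eq_one.1 h5
  · have h4 : e * (s (π e))⁻¹ ∈ zm M J := (pi_eq hP).1 (hs' (π e)).symm
    have h5 := h2 _ (mul_mem he (inv_mem (hs (π e)))) h4
    rw [hG.mul ψ hψ e he _ (inv_mem (hs _)), hG.map_inv hψ (hs _)] at h5
    rw [mul_inv_eq_one.1 h5]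
    exact h

/-- an element of order a power of 2 of a field of characteristic 2 is 1 -/
theorem pow_two_pow {F : Type*} [Field F] (h2 : (2 : F) = 0) : ∀ (n : ℕ) (x : F), x ^ 2 ^ n = 1 → x = 1
  | 0, x, h => by simpa using h
  | n + 1, x, h => by
    rw [pow_succ, pow_mul] at h
    have h1 : (x ^ 2 ^ n - 1) ^ 2 = 0 := by
      have h3 : (x ^ 2 ^ n - 1) ^ 2 = (x ^ 2 ^ n) ^ 2 - 1 - 2 * (x ^ 2 ^ n - 1) := by ring
      rw [h3, h, h2]
      ring
    exact pow_two_pow h2 n x (sub_eq_zero.1 (pow_eq_zero_iff (two_ne_zero)|>.1 h1))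

/-- the case `|F| = |lam|`: `T` acts on `[M, J]` as a subgroup of `J` -/
theorem act_T (hK : Blk T lam J) (hB : IsSL F B J π) (hT : ∀ t ∈ T, cj t J = J) {a : M} (ha : a ∈ lam) (ha1 : a ≠ 1)
    (hall : ∀ x : F, ∃ a' ∈ lam, π a' = x • π a) : ∀ t ∈ T, ∃ j ∈ J, ∀ e ∈ em M J, t • e = j • e := by
  intro t ht
  have hP := hB.toProj
  have hv : π a ≠ 0 := pi_ne hK hB ha ha1
  have hn : t ∈ normalizer (J : Set H) := cj_eq_iff.1 (hT t ht)
  obtain ⟨τ, hτ⟩ := exists_act hP hn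
  have hlin : ∀ (c : F) (b : B), τ (c • b) = c • τ b := by
    intro c b
    obtain ⟨m, rfl⟩ := hP.surj b
    obtain ⟨n, hn'⟩ := hP.surj (c • π m)
    obtain ⟨a', ha', e⟩ := hall c
    have h1 := clin_T (lin_of hB) (schur hB) hv e hn (hK.fix t ht a ha) (hK.fix t ht a' ha') hn'
    rw [← hn', ← hτ, ← hτ, h1]
  let f : B ≃ₗ[F] B := { τ with map_smul' := hlin }
  have hf : ∀ m, π (t • m) = f (π m) := hτ
  have hfk : ∀ (k : ℕ) (m : M), π (t ^ k • m) = (f ^ k) (π m) := by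
    intro k
    induction k with
    | zero => intro m; rw [pow_zero, pow_zero, one_smul]; rfl
    | succ k ih => intro m; rw [pow_succ, pow_succ, mul_smul, ih, hf]; rfl
  obtain ⟨n, hn2⟩ := hK.two ⟨t, ht⟩
  have hn3 : t ^ 2 ^ n = 1 := congrArg Subtype.val hn2
  have h1 : f ^ 2 ^ n = 1 := by
    refine LinearEquiv.ext fun b => ?_
    obtain ⟨m, rfl⟩ := hP.surj b
    rw [← hfk, hn3, one_smul]
    rfl
  have h2 : (2 : F) = 0 := by
    have h3 : ((1 : F) + 1) • π a = 0 := by rw [add_smul, one_smul, add_self hK hP]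
    have h4 := (smul_eq_zero.1 h3).resolve_right hv
    rw [← h4]
    norm_num
  have h3 : LinearEquiv.det f = 1 := by
    have h4 : (LinearEquiv.det f) ^ 2 ^ n = 1 := by rw [← map_pow, h1, map_one]
    apply Units.ext
    refine pow_two_pow h2 n _ ?_
    rw [← Units.val_pow_eq_pow_val, h4]
    rfl
  obtain ⟨j, hj, e⟩ := hB.full f h3
  exact ⟨j, hj, act_eq hK hP hn hj (fun m => by rw [hf, e])⟩

/-! ### the elements of `lam^J` -/

/-- `lam^J` -/
def XJ (J : Subgroup H) (lam : Subgroup M) : Set M := {y | ∃ j ∈ J, ∃ a ∈ lam, y = j • a}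

theorem XJ_smul {j : H} (hj : j ∈ J) {y : M} (hy : y ∈ XJ J lam) : j • y ∈ XJ J lam := by
  obtain ⟨k, hk, a, ha, rfl⟩ := hy
  exact ⟨j * k, mul_mem hj hk, a, ha, by rw [mul_smul]⟩

theorem XJ_one : (1 : M) ∈ XJ J lam := ⟨1, one_mem _, 1, one_mem _, by rw [smul_one]⟩

theorem XJ_em (hle : lam ≤ em M J) {y : M} (hy : y ∈ XJ J lam) : y ∈ em M J := by
  obtain ⟨k, hk, a, ha, rfl⟩ := hy
  exact smul_mem_em hk (hle ha)

section lift

variable (hK : Blk T lam J) (hB : IsSL F B J π) (hT : ∀ t ∈ T, cj t J = J)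
include hK hB

theorem XJ_ex (b : B) : ∃ y ∈ XJ J lam, π y = b := by
  by_cases hb : b = 0
  · exact ⟨1, XJ_one, by rw [pi_one hB.toProj, hb]⟩
  · obtain ⟨a, ha, ha1, -⟩ := exists_ne hK.four 1 1
    obtain ⟨j, hj, h⟩ := (lin_of hB).tr (π a) b (pi_ne hK hB ha ha1) hb
    exact ⟨j • a, ⟨j, hj, a, ha, rfl⟩, h a rfl⟩

include hT

theorem XJ_uniq {y y' : M} (hy : y ∈ XJ J lam) (hy' : y' ∈ XJ J lam) (h : π y = π y') : y = y' := by
  have hP := hB.toProj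
  obtain ⟨j, hj, a, ha, rfl⟩ := hy
  obtain ⟨k, hk, b, hb, rfl⟩ := hy'
  have h0 : ∀ j ∈ J, ∀ a ∈ lam, π (j • a) = 0 → a = 1 := by
    intro j hj a ha e
    refine hK.inf a ha ((hP.ker a).1 ?_)
    have h1 : π (j • a) = π (1 : M) := by rw [e, pi_one hP]
    have h2 := pi_congr_J hP (inv_mem hj) h1
    rwa [inv_smul_smul, smul_one, pi_one hP] at h2
  by_cases ha1 : a = 1
  · subst ha1
    rw [smul_one, pi_one hP] at h
    rw [h0 k hk b hb h.symm, smul_one, smul_one]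
  by_cases hb1 : b = 1
  · subst hb1
    rw [smul_one, pi_one hP] at h
    rw [h0 j hj a ha h, smul_one, smul_one]
  obtain ⟨θ, hθ, -, e⟩ := exists_theta' hK (lin_of hB) (line hK hB) (schur hB) hT ha ha1 hb hb1
  have h1 : π ((k⁻¹ * j) • a) = π (θ • a) := by
    rw [mul_smul, pi_congr_J hP (inv_mem hk) h, inv_smul_smul, e]
  have h2 : π ((θ⁻¹ * (k⁻¹ * j)) • a) = π a := by
    rw [mul_smul, pi_congr_J hP (inv_mem hθ) h1, inv_smul_smul]
  have h3 := cent hK hP ha ha1 (mul_mem (inv_mem hθ) (mul_mem (inv_mem hk) hj)) h2 a ha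
  rw [mul_smul, mul_smul, inv_smul_eq_iff, inv_smul_eq_iff, e] at h3
  exact h3

theorem XJ_eq_one {y : M} (hy : y ∈ XJ J lam) (h : π y = 0) : y = 1 :=
  XJ_uniq hK hB hT hy XJ_one (by rw [h, pi_one hB.toProj])

/-- the lines -/
theorem XJ_line (hall : ∀ a ∈ lam, a ≠ 1 → ∀ x : F, ∃ a' ∈ lam, π a' = x • π a) {y y' : M} (hy : y ∈ XJ J lam)
    (hy1 : y ≠ 1) (hy' : y' ∈ XJ J lam) {x : F} (h : π y' = x • π y) :
    ∃ j ∈ J, ∃ a ∈ lam, a ≠ 1 ∧ y = j • a ∧ ∃ b ∈ lam, y' = j • b := by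
  obtain ⟨j, hj, a, ha, rfl⟩ := hy
  have ha1 : a ≠ 1 := by
    rintro rfl
    exact hy1 (smul_one _)
  obtain ⟨b, hb, e⟩ := hall a ha ha1 x
  refine ⟨j, hj, a, ha, ha1, rfl, b, hb, XJ_uniq hK hB hT hy' ⟨j, hj, b, hb, rfl⟩ ?_⟩
  rw [h, clin_J (lin_of hB) x hj e]

end lift

/-! ### `GoodB` -/

section goodB

variable {Φ : Subgroup (M → R)} {g α : H} {a : M}

/-- case 1: a function of the family is `1` at `z`, not at `μ z` -/
theorem goodB_one (hK : Blk T lam J) (hB : IsSL F B J π) (hE : ExJ lam A J) (hG : GB J lam Φ) (hle : lam ≤ em M J)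
    (h : At A J lam π F g α a) {f : B → R} (hf : f ∈ fam J π Φ) {z : B} {μ : F} (h1 : f z = 1) (h2 : f (μ • z) ≠ 1) :
    ∃ φ ∈ Φ, ∃ o ∈ oj lam A J, φ (g • a) = 1 ∧ φ (kap α (g • a)) = 1 ∧
      φ (kap (g * o * g⁻¹) (kap α (g • a))) ≠ 1 := by
  have hP := hB.toProj
  have hF := hG.fam hK hP
  have hz : z ≠ 0 := by
    rintro rfl
    rw [smul_zero] at h2
    exact h2 h1
  have hga : g • a ∈ em M J := smul_mem_em h.gJ (hle h.ha)
  have hc : kap α (g • a) ∈ em M J := kap_mem h.αA.2 hga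
  obtain ⟨f', ⟨φ, hφ, e⟩, h3, h4⟩ := hF.sep hB (pi_ne hK hB h.ha h.ha1) h.u0 h.w0 hf hz 1
  obtain ⟨k, hk, hk'⟩ := exists_dual h.w_notMem
  obtain ⟨o, ho, e'⟩ := exists_oj_conj hK hB hE h.gJ h.ha h.ha1 (h := μ • k)
    (by rw [LinearMap.smul_apply, hk, smul_zero])
  have hoJ : g * o * g⁻¹ ∈ J := mul_mem (mul_mem h.gJ (oj_le hE ho).1) (inv_mem h.gJ)
  refine ⟨φ, hφ, o, ho, ?_, ?_, ?_⟩
  · have h5 := h4 1
    rw [one_smul, mul_one, one_smul, h1] at h5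
    rw [e _ hga, h5]
  · rw [e _ hc, h3]
  · rw [e _ (kap_mem hoJ hc), pi_kap hP e', LinearMap.smul_apply, hk', h4, smul_eq_mul, mul_one, mul_one]
    exact h2

/-- case 2: the cardinalities -/
theorem card_all (hK : Blk T lam J) (hB : IsSL F B J π) (hR : Nat.card R = Nat.card lam)
    {f : B → R} {𝓕 : Set (B → R)} (hF : Fam J π 𝓕) (hf : f ∈ 𝓕) {z : B} (hz : f z ≠ 1)
    (hall : ∀ (z : B) (μ : F), f z = 1 → f (μ • z) = 1) :
    (∀ r : R, ∃ μ : F, f (μ • z) = r) ∧ ∀ a ∈ lam, a ≠ 1 → ∀ x : F, ∃ a' ∈ lam, π a' = x • π a := by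
  have hP := hB.toProj
  have := hK.finM
  have hlpos : 0 < Nat.card lam := Nat.card_pos
  have : Finite R := Nat.finite_of_card_ne_zero (by rw [hR]; exact hlpos.ne')
  have hinj : Function.Injective (fun μ : F => f (μ • z)) := by
    intro μ ν e
    have e' : f (μ • z) = f (ν • z) := e
    by_contra hne
    have h1 : μ - ν ≠ 0 := sub_ne_zero.2 hne
    have h2 : f ((μ - ν) • z) = 1 := by
      have h3 := hF.add f hf ((μ - ν) • z) (ν • z)
      rw [← add_smul, sub_add_cancel, e'] at h3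
      exact mul_eq_right.1 h3.symm
    have h3 := hall _ (μ - ν)⁻¹ h2
    rw [inv_smul_smul₀ h1] at h3
    exact hz h3
  have : Finite F := Finite.of_injective _ hinj
  have h1 : Nat.card F ≤ Nat.card R := Nat.card_le_card_of_injective _ hinj
  have key : ∀ a ∈ lam, a ≠ 1 → ∃ σ : lam → F, Function.Injective σ ∧ ∀ b : lam, π b = σ b • π a := by
    intro a ha ha1
    have h2 : ∀ b : lam, ∃ c : F, π (b : M) = c • π a := fun b =>
      exists_scal hK hP (line hK hB) ha ha1 b.2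
    choose σ hσ using h2
    refine ⟨σ, fun b b' e => ?_, hσ⟩
    have h3 : π (b : M) = π (b' : M) := by rw [hσ, hσ, e]
    have h4 := hK.inf _ (mul_mem b.2 (inv_mem b'.2)) ((pi_eq hP).1 h3)
    exact Subtype.ext (mul_inv_eq_one.1 h4)
  obtain ⟨a₁, ha₁, h11, -⟩ := exists_ne hK.four 1 1
  have h2 : Nat.card lam ≤ Nat.card F := by
    obtain ⟨σ, hσ, -⟩ := key a₁ ha₁ h11
    exact Nat.card_le_card_of_injective _ hσ
  constructor
  · intro r
    have h3 : Function.Bijective (fun μ : F => f (μ • z)) :=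
      (Nat.bijective_iff_injective_and_card _).2 ⟨hinj, by omega⟩
    exact h3.2 r
  · intro a ha ha1 x
    obtain ⟨σ, hσ, hσ'⟩ := key a ha ha1
    have h3 : Function.Bijective σ := (Nat.bijective_iff_injective_and_card _).2 ⟨hσ, by omega⟩
    obtain ⟨b, hb⟩ := h3.2 x
    exact ⟨b, b.2, by rw [hσ', hb]⟩

/-- case 2: the correction -/
theorem correct (hK : Blk T lam J) (hB : IsSL F B J π) (hG : GB J lam Φ) (hle : lam ≤ em M J)
    (h : At A J lam π F g α a) {f : B → R} (hf : f ∈ fam J π Φ) {z : B} (hz : z ≠ 0)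
    (hs : ∀ r : R, ∃ μ : F, f (μ • z) = r) {φ : M → R} (hφ : φ ∈ Φ) :
    ∃ φ' ∈ Φ, φ' (g • a) = 1 ∧ φ' (kap α (g • a)) = 1 ∧ ∀ d ∈ tm M J, φ' d = φ d := by
  have hP := hB.toProj
  have hF := hG.fam hK hP
  have hga : g • a ∈ em M J := smul_mem_em h.gJ (hle h.ha)
  have hc : kap α (g • a) ∈ em M J := kap_mem h.αA.2 hga
  obtain ⟨μ, hμ⟩ := hs (φ (g • a))⁻¹
  obtain ⟨ν, hν⟩ := hs (φ (kap α (g • a)))⁻¹
  obtain ⟨f', hf', h1, h2⟩ := hF.sep hB (pi_ne hK hB h.ha h.ha1) h.u0 h.w0 hf hz μ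
  obtain ⟨f'', hf'', h3, h4⟩ := hF.sep hB (ne_zero_of_notMem h.u0) h.w_notMem (Submodule.mem_span_singleton_self _)
    hf hz ν
  have h5 := h2 1
  have h6 := h4 1
  rw [one_smul, one_mul, hμ] at h5
  rw [one_smul, one_mul, hν] at h6
  have h7 := hF.zero hf'
  have h8 := hF.zero hf''
  obtain ⟨φ', hφ', e⟩ := hf'
  obtain ⟨φ'', hφ'', e'⟩ := hf''
  refine ⟨φ * φ' * φ'', mul_mem (mul_mem hφ hφ') hφ'', ?_, ?_, fun d hd => ?_⟩
  · rw [Pi.mul_apply, Pi.mul_apply, e _ hga, e' _ hga, h5, h3, mul_inv_cancel, one_mul]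
  · rw [Pi.mul_apply, Pi.mul_apply, e _ hc, e' _ hc, h6, h1, mul_one, mul_inv_cancel]
  · rw [Pi.mul_apply, Pi.mul_apply, e _ hd.1, e' _ hd.1, (hP.ker d).2 hd.2, h7, h8, mul_one, mul_one]

/-- case 2: the plane -/
theorem plane (hK : Blk T lam J) (hB : IsSL F B J π) (hE : ExJ lam A J) (hT : ∀ t ∈ T, cj t J = J)
    (hG : GB J lam Φ) (hle : lam ≤ em M J)
    (h : At A J lam π F g α a) (hall : ∀ a ∈ lam, a ≠ 1 → ∀ x : F, ∃ a' ∈ lam, π a' = x • π a)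
    (hno : ∀ φ ∈ Φ, ∀ o ∈ oj lam A J, φ (g • a) = 1 → φ (kap α (g • a)) = 1 →
      φ (kap (g * o * g⁻¹) (kap α (g • a))) = 1) {φ : M → R} (hφ : φ ∈ Φ) (h1 : φ (g • a) = 1)
    (h2 : φ (kap α (g • a)) = 1) {y : M} (hy : y ∈ XJ J lam)
    (hyp : π y ∈ Submodule.span F {π (g • a), π (kap α (g • a))}) : φ y = 1 := by
  have hP := hB.toProj
  have hga : g • a ∈ em M J := smul_mem_em h.gJ (hle h.ha)
  have hc : kap α (g • a) ∈ em M J := kap_mem h.αA.2 hga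
  -- TI
  have ti : ∀ y ∈ XJ J lam, y ≠ 1 → φ y = 1 → ∀ y' ∈ XJ J lam, ∀ x : F, π y' = x • π y → φ y' = 1 := by
    intro y hy hy1 e y' hy' x hx
    obtain ⟨j, hj, b, hb, hb1, rfl, b', hb', rfl⟩ := XJ_line hK hB hT hall hy hy1 hy' hx
    exact hG.ti φ hφ j hj b hb hb1 e b' hb'
  have hgX : g • a ∈ XJ J lam := ⟨g, h.gJ, a, h.ha, rfl⟩
  have hg1 : g • a ≠ 1 := by
    intro e
    apply h.u0
    rw [e, pi_one hP]
    exact zero_mem _
  obtain ⟨x, z, e⟩ := Submodule.mem_span_pair.1 hyp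
  by_cases hz : z = 0
  · subst hz
    rw [zero_smul, add_zero] at e
    exact ti _ hgX hg1 h1 y hy x e.symm
  · obtain ⟨k, hk, hk'⟩ := exists_dual h.w_notMem
    obtain ⟨o, ho, e'⟩ := exists_oj_conj hK hB hE h.gJ h.ha h.ha1 (h := (z⁻¹ * x - 1) • k)
      (by rw [LinearMap.smul_apply, hk, smul_zero])
    have hoJ : g * o * g⁻¹ ∈ J := mul_mem (mul_mem h.gJ (oj_le hE ho).1) (inv_mem h.gJ)
    have hog : (g * o * g⁻¹) • g • a = g • a := by
      rw [mul_smul, mul_smul, inv_smul_smul, (oj_le hE ho).2 a h.ha]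
    have hX : (g * o * g⁻¹) • α • g • a ∈ XJ J lam := XJ_smul hoJ (XJ_smul h.αA.2 hgX)
    have hX1 : (g * o * g⁻¹) • α • g • a = kap (g * o * g⁻¹) (kap α (g • a)) * kap α (g • a) * (g • a) := by
      rw [smul_eq_kap α (g • a), smul_mul', hog, smul_eq_kap (g * o * g⁻¹) (kap α (g • a))]
    have hX2 : φ ((g * o * g⁻¹) • α • g • a) = 1 := by
      have hkk := kap_mem hoJ hc
      rw [hX1, hG.mul φ hφ _ (mul_mem hkk hc) _ hga, hG.mul φ hφ _ hkk _ hc, h1, h2, hno φ hφ o ho h1 h2, mul_one,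
        mul_one]
    have hX3 : π ((g * o * g⁻¹) • α • g • a) = (z⁻¹ * x) • π (g • a) + π (kap α (g • a)) := by
      rw [hX1, hP.add, hP.add, pi_kap hP e', LinearMap.smul_apply, hk', smul_eq_mul, mul_one, sub_smul, one_smul]
      abel
    refine ti _ hX ?_ hX2 y hy z ?_
    · intro h3
      rw [h3, pi_one hP] at hX3
      apply h.w_notMem
      refine Submodule.mem_span_singleton.2 ⟨-(z⁻¹ * x), ?_⟩
      rw [neg_smul]
      exact neg_eq_of_add_eq_zero_right hX3.symm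
    · rw [hX3, smul_add, smul_smul, mul_inv_cancel_left₀ hz, e]

/-- moving two vectors: the first to `u`, the second into the plane of `u`, `w` -/
theorem exists_move (hB : IsSL F B J π) {u w x : B} (hw : w ∉ Submodule.span F {u}) (hu : u ≠ 0) (hx : x ≠ 0)
    {y : M} (hy : π y = x) (y' : M) :
    ∃ k ∈ J, π (k • y) = u ∧ π (k • y') ∈ Submodule.span F {u, w} := by
  obtain ⟨k, hk, h1⟩ := (lin_of hB).tr x u hx hu
  by_cases h2 : π (k • y') ∈ Submodule.span F {u, w}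
  · exact ⟨k, hk, h1 y hy, h2⟩
  · obtain ⟨q, hq, hq1, hq2⟩ := exists_dual_two hw h2
    obtain ⟨t, ht, e⟩ := exists_tr hB (g := q) (w := w - π (k • y')) (by rw [map_sub, hq1, hq2, sub_self])
    refine ⟨t * k, mul_mem ht hk, ?_, ?_⟩
    · rw [mul_smul, e, h1 y hy, hq, zero_smul, add_zero]
    · rw [mul_smul, e, hq2, one_smul, add_sub_cancel]
      exact Submodule.subset_span (by simp)

/-- case 2 -/
theorem goodB_two (hK : Blk T lam J) (hB : IsSL F B J π) (hE : ExJ lam A J) (hT : ∀ t ∈ T, cj t J = J)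
    (hG : GB J lam Φ) (hle : lam ≤ em M J)
    (h : At A J lam π F g α a) (hall : ∀ a ∈ lam, a ≠ 1 → ∀ x : F, ∃ a' ∈ lam, π a' = x • π a)
    {f : B → R} (hf : f ∈ fam J π Φ) {z : B} (hz : z ≠ 0) (hs : ∀ r : R, ∃ μ : F, f (μ • z) = r)
    (hno : ∀ φ ∈ Φ, ∀ o ∈ oj lam A J, φ (g • a) = 1 → φ (kap α (g • a)) = 1 →
      φ (kap (g * o * g⁻¹) (kap α (g • a))) = 1) {φ : M → R} (hφ : φ ∈ Φ) {d : M} (hd : d ∈ tm M J) : φ d = 1 := by
  have hP := hB.toProj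
  -- the elements of `tm` killed by `Φ`
  let D : Subgroup M :=
    { carrier := {d | d ∈ tm M J ∧ ∀ φ ∈ Φ, φ d = 1}
      one_mem' := ⟨one_mem _, fun φ hφ => hG.one hφ⟩
      mul_mem' := by
        rintro x y ⟨hx, hx'⟩ ⟨hy, hy'⟩
        exact ⟨mul_mem hx hy, fun φ hφ => by rw [hG.mul φ hφ x hx.1 y hy.1, hx' φ hφ, hy' φ hφ, one_mul]⟩
      inv_mem' := by
        rintro x ⟨hx, hx'⟩
        exact ⟨(tm M J).inv_mem hx, fun φ hφ => by rw [hG.map_inv hφ hx.1, hx' φ hφ, inv_one]⟩ }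
  have hDJ : ∀ j ∈ J, ∀ d ∈ D, j • d = d := fun j hj d hd => hd.1.2 j hj
  -- the products of two elements of `lam^J`
  have key : ∀ y ∈ XJ J lam, ∀ y' ∈ XJ J lam, ∃ y'' ∈ XJ J lam, y * y' * y''⁻¹ ∈ D := by
    intro y hy y' hy'
    by_cases hy1 : y = 1
    · exact ⟨y', hy', by rw [hy1, one_mul, mul_inv_cancel]; exact one_mem D⟩
    have hy0 : π y ≠ 0 := fun e => hy1 (XJ_eq_one hK hB hT hy e)
    obtain ⟨y'', hy'', e⟩ := XJ_ex hK hB (π y + π y')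
    refine ⟨y'', hy'', ?_⟩
    have hd1 : y * y' * y''⁻¹ ∈ tm M J := by
      have h9 : y * y' * y''⁻¹ ∈ em M J := mul_mem (mul_mem (XJ_em hle hy) (XJ_em hle hy')) (inv_mem (XJ_em hle hy''))
      refine ⟨h9, ?_⟩
      refine (hP.ker _).1 ?_
      rw [hP.add, hP.add, pi_inv hP, e, add_neg_cancel]
    refine ⟨hd1, fun ψ hψ => ?_⟩
    obtain ⟨ψ', hψ', h1, h2, h3⟩ := correct hK hB hG hle h hf hz hs hψ
    rw [← h3 _ hd1]
    obtain ⟨k, hk, h4, h5⟩ := exists_move hB h.w_notMem (ne_zero_of_notMem h.u0) hy0 rfl y'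
    have h6 : y * y' * y''⁻¹ = (k • y) * (k • y') * (k • y'')⁻¹ := by
      rw [← smul_mul', ← smul_inv', ← smul_mul', hd1.2 k hk]
    have hmem : ∀ {x : M}, x ∈ XJ J lam → π (k • x) ∈ Submodule.span F {π (g • a), π (kap α (g • a))} →
        ψ' (k • x) = 1 := fun hx hp =>
      plane hK hB hE hT hG hle h hall hno hψ' h1 h2 (XJ_smul hk hx) hp
    have h7 : π (k • y) ∈ Submodule.span F {π (g • a), π (kap α (g • a))} := by
      rw [h4]
      exact Submodule.subset_span (by simp)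
    have h8 : π (k • y'') = π (k • y) + π (k • y') := by
      rw [← hP.add, ← smul_mul']
      exact pi_congr_J hP hk (by rw [e, hP.add])
    have h9 := XJ_em hle (XJ_smul hk hy)
    have h10 := XJ_em hle (XJ_smul hk hy')
    have h11 := XJ_em hle (XJ_smul hk hy'')
    rw [h6, hG.mul ψ' hψ' _ (mul_mem h9 h10) _ (inv_mem h11), hG.mul ψ' hψ' _ h9 _ h10, hG.map_inv hψ' h11,
      hmem hy h7, hmem hy' h5, hmem hy'' (by rw [h8]; exact add_mem h7 h5), mul_one, inv_one, mul_one]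
  -- the subgroup
  let L : Subgroup M :=
    { carrier := {x | ∃ y ∈ XJ J lam, x * y⁻¹ ∈ D}
      one_mem' := ⟨1, XJ_one, by rw [inv_one, mul_one]; exact one_mem D⟩
      mul_mem' := by
        rintro x x' ⟨y, hy, e⟩ ⟨y', hy', e'⟩
        obtain ⟨y'', hy'', e''⟩ := key y hy y' hy'
        refine ⟨y'', hy'', ?_⟩
        have h1 : x * x' * y''⁻¹ = (x * y⁻¹) * (x' * y'⁻¹) * (y * y' * y''⁻¹) := by
          rw [mul_mul_mul_comm x y⁻¹ x' y'⁻¹, mul_assoc (x * x'), ← mul_assoc (y⁻¹ * y'⁻¹) (y * y') y''⁻¹,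
            mul_mul_mul_comm y⁻¹ y'⁻¹ y y', inv_mul_cancel, inv_mul_cancel, one_mul, one_mul]
        rw [h1]
        exact mul_mem (mul_mem e e') e''
      inv_mem' := by
        rintro x ⟨y, hy, e⟩
        refine ⟨y, hy, ?_⟩
        have h1 : ∀ m : M, m⁻¹ = m := fun m => inv_eq_of_mul_eq_one_right (hK.sq m)
        rw [h1 x]
        exact e }
  have hL : em M J ≤ L := by
    refine em_le_of_cover hP hK.perf (fun j hj x hx => ?_) (fun b => ?_)
    · obtain ⟨y, hy, e⟩ := hx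
      refine ⟨j • y, XJ_smul hj hy, ?_⟩
      rw [← smul_inv', ← smul_mul', hDJ j hj _ e]
      exact e
    · obtain ⟨y, hy, e⟩ := XJ_ex hK hB b
      exact ⟨y, ⟨y, hy, by rw [mul_inv_cancel]; exact one_mem D⟩, e⟩
  obtain ⟨y, hy, e⟩ := hL hd.1
  have h1 : y = 1 := by
    refine XJ_eq_one hK hB hT hy ?_
    have h2 := (hP.ker _).2 e.1.2
    rw [hP.add, pi_inv hP, (hP.ker d).2 hd.2, zero_add] at h2
    exact neg_eq_zero.1 h2
  rw [h1, inv_one, mul_one] at e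
  exact e.2 φ hφ

theorem goodB (hK : Blk T lam J) (hB : IsSL F B J π) (hE : ExJ lam A J) (hT : ∀ t ∈ T, cj t J = J)
    (hR : Nat.card R = Nat.card lam) (hle : lam ≤ em M J) (hat : ∀ a ∈ lam, a ≠ 1 → At A J lam π F g α a) :
    GoodB R T lam A J g α := by
  intro Φ hmul hinv hnt hti halt a ha ha1
  have hP := hB.toProj
  have hG : GB J lam Φ := ⟨hmul, hinv, hnt, hti⟩
  have hF := hG.fam hK hP
  have h := hat a ha ha1
  obtain ⟨f, hf, z, hfz⟩ := hG.exists_f hK hP hle ha ha1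
  by_cases hc : ∃ z : B, ∃ μ : F, f z = 1 ∧ f (μ • z) ≠ 1
  · obtain ⟨z, μ, h1, h2⟩ := hc
    exact goodB_one hK hB hE hG hle h hf h1 h2
  push Not at hc
  have hz := hF.ne_zero hf hfz
  obtain ⟨hs, hall⟩ := card_all hK hB hR hF hf hfz (fun z μ h1 => hc z μ h1)
  have h1 : ∃ φ ∈ Φ, ∃ e ∈ tm M J, φ e ≠ 1 := by
    rcases halt with h1 | h1
    · exact h1
    · exact absurd (act_T hK hB hT ha ha1 (hall a ha ha1)) h1
  obtain ⟨φ, hφ, e, he, h2⟩ := h1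
  by_contra hcon
  push Not at hcon
  exact h2 (goodB_two hK hB hE hT hG hle h hall hf hz hs hcon hφ he)

end goodB

/-! ### `KGood` and the K-facts -/

theorem kgood (hK : Blk T lam J) (hB : IsSL F B J π) (hE : ExJ lam A J) (hR : Nat.card R = Nat.card lam) :
    KGood R T lam A J := by
  have hP := hB.toProj
  obtain ⟨a₁, ha₁, h11, -⟩ := exists_ne hK.four 1 1
  have hv := pi_ne hK hB ha₁ h11
  obtain ⟨α₀, hα₀, g₀, hg₀, hg₀v, e₀⟩ := exists_ne_zero hK hB hE ha₁ h11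
  obtain ⟨u, hu⟩ : ∃ u, g₀ u ≠ 0 := by
    by_contra hcon
    push Not at hcon
    exact hg₀ (LinearMap.ext hcon)
  have hu0 : u ≠ 0 := by
    rintro rfl
    exact hu (map_zero _)
  obtain ⟨g, hg, h1⟩ := (lin_of hB).tr (π a₁) u hv hu0
  have h2 : π (g • a₁) = u := h1 a₁ rfl
  -- the elements `g a`
  have key : ∀ a ∈ lam, ∃ c : F, π a = c • π a₁ ∧ π (g • a) = c • u := by
    intro a ha
    obtain ⟨c, hc⟩ := exists_scal hK hP (line hK hB) ha₁ h11 ha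
    exact ⟨c, hc, by rw [clin_J (lin_of hB) c hg hc, h2]⟩
  have key1 : ∀ a ∈ lam, a ≠ 1 → ∃ c : F, c ≠ 0 ∧ π a = c • π a₁ ∧ π (g • a) = c • u := by
    intro a ha ha1
    obtain ⟨c, hc, hc'⟩ := key a ha
    refine ⟨c, ?_, hc, hc'⟩
    rintro rfl
    rw [zero_smul] at hc
    exact pi_ne hK hB ha ha1 hc
  refine ⟨g, hg, fun a ha ha1 => ⟨α₀, hα₀, fun h => ?_⟩, fun α hα => subset_closure ⟨hα, ?_⟩⟩
  · obtain ⟨c, hc0, -, hc⟩ := key1 a ha ha1
    have h3 : π (kap α₀ (g • a)) = 0 := (hP.ker _).2 h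
    rw [pi_kap hP e₀, hc, map_smul] at h3
    exact (smul_ne_zero (mul_ne_zero hc0 hu) hv) h3
  · obtain ⟨q, hq, e⟩ := tr_of_mem_oj hK hB hE ha₁ h11 (le_oj hα)
    by_cases hqu : q u = 0
    · left
      intro a ha
      obtain ⟨c, -, hc⟩ := key a ha
      refine (hP.ker _).1 ?_
      show π (kap α (g • a)) = 0
      rw [pi_kap hP e, hc, map_smul, hqu, smul_zero, zero_smul]
    · right
      have hat : ∀ a ∈ lam, a ≠ 1 → At A J lam π F g α a := by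
        intro a ha ha1
        obtain ⟨c, hc0, hc, hc'⟩ := key1 a ha ha1
        refine ⟨hg, hα, ha, ha1, ?_, ?_, fun h => ?_⟩
        · rw [pi_kap hP e]
          refine Submodule.mem_span_singleton.2 ⟨q (π (g • a)) * c⁻¹, ?_⟩
          rw [hc, smul_smul, inv_mul_cancel_right₀ hc0]
        · rw [pi_kap hP e, hc', map_smul]
          exact smul_ne_zero (mul_ne_zero hc0 hqu) hv
        · obtain ⟨d, hd⟩ := Submodule.mem_span_singleton.1 h
          have h3 : q (π (g • a)) = 0 := by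
            rw [← hd, hc, map_smul, map_smul, hq, smul_zero, smul_zero]
          rw [hc', map_smul, smul_eq_mul] at h3
          exact (mul_ne_zero hc0 hqu) h3
      exact ⟨goodA hK hB hE hat, fun _ hle _ hT => goodB hK hB hE hT hR hle hat⟩

/-- **The K-facts for `SL_m(r)`.** -/
theorem kfacts_sl (hR : Nat.card R = Nat.card lam) (hB : IsSL F B J π) : KFacts R T lam J where
  tor hK := tor hK hB
  gens A hK hE := by
    obtain ⟨a₁, ha₁, h11, -⟩ := exists_ne hK.four 1 1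
    exact gens hK hB hE ha₁ h11
  meets A hK hE := meets hK hB hE
  trans A _ _ := trans_of (lin_of hB)
  good A hK hE := kgood hK hB hE hR

end Cfsg.Agent.Omega.NO3S.FarQ.KSL
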