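import Cfsg.Agent.Omega.NO3S.FarQ.KCom
import Cfsg.Agent.Omega.Mix.SLn
import Mathlib.LinearAlgebra.Transvection.Basic
import Mathlib.LinearAlgebra.Dual.Lemmas

/-!
# FarQ: the K-facts for `SL_m(r)`, part 1 (transvections)

`Tr π t g w` : `t` acts on `B` as the transvection `b ↦ b + g(b) w`. `IsSL` gives all of them (`exists_tr`), hence
`Lin` (`lin_of`), Schur's lemma (`schur`), `C_B(T ∩ J) = F v` (`line`); so `KTor`, `KTrans`.
-/

set_option autoImplicit false

namespace Cfsg.Agent.Omega.NO3S.FarQ.KSL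

open Subgroup Module Cfsg.Agent.ZN Cfsg.Agent.Omega.NO3S.PT
open Cfsg.Agent.Omega.NO3S.FarQ.KCom
open Cfsg.Agent.ClassTwoFusion.Quad (cv mem_cv cv_anti)
open Cfsg.Agent.Omega.Mix.SLn (exists_dual)
open scoped Pointwise

section vec

variable {F B : Type*} [Field F] [AddCommGroup B] [Module F B]

theorem exists_notMem_span (h2 : 2 ≤ finrank F B) (a : B) : ∃ b : B, b ∉ Submodule.span F {a} := by
  by_contra hcon
  push Not at hcon
  have h1 : Submodule.span F {a} = ⊤ := by
    rw [eq_top_iff]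
    exact fun b _ => hcon b
  have h3 := finrank_span_le_card (R := F) ({a} : Set B)
  rw [h1, finrank_top, Set.toFinset_singleton, Finset.card_singleton] at h3
  omega

theorem notMem_symm {u w : B} (hw : w ≠ 0) (h : u ∉ Submodule.span F {w}) : w ∉ Submodule.span F {u} := by
  intro h1
  obtain ⟨c, rfl⟩ := Submodule.mem_span_singleton.1 h1
  have hc : c ≠ 0 := by
    rintro rfl
    exact hw (zero_smul F u)
  apply h
  refine Submodule.mem_span_singleton.2 ⟨c⁻¹, ?_⟩
  rw [inv_smul_smul₀ hc]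

theorem ne_zero_of_notMem {u w : B} (h : u ∉ Submodule.span F {w}) : u ≠ 0 := by
  rintro rfl
  exact h (zero_mem _)

/-- a functional vanishing on `v`, with the same value `1` on `x` and `y` -/
theorem exists_dual_two {v x y : B} (hx : x ∉ Submodule.span F {v}) (hy : y ∉ Submodule.span F {v, x}) :
    ∃ g : Dual F B, g v = 0 ∧ g x = 1 ∧ g y = 1 := by
  have h1 : x ∉ Submodule.span F {v, y - x} := by
    intro h
    obtain ⟨α, β, e⟩ := Submodule.mem_span_pair.1 h
    by_cases hβ : β = 0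
    · rw [hβ, zero_smul, add_zero] at e
      exact hx (Submodule.mem_span_singleton.2 ⟨α, e⟩)
    · apply hy
      refine Submodule.mem_span_pair.2 ⟨-(β⁻¹ * α), β⁻¹ + 1, ?_⟩
      have h2' : x - α • v = β • (y - x) := by
        rw [sub_eq_iff_eq_add, add_comm]
        exact e.symm
      have h2 : y - x = β⁻¹ • (x - α • v) := by
        rw [h2', inv_smul_smul₀ hβ]
      have h3 : y = (y - x) + x := (sub_add_cancel y x).symm
      rw [h3, h2, smul_sub, smul_smul, add_smul, one_smul, neg_smul]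
      abel
  obtain ⟨g, hg, hk⟩ := Submodule.exists_le_ker_of_notMem h1
  have hgv : g v = 0 := hk (Submodule.subset_span (by simp))
  have hgy : g (y - x) = 0 := hk (Submodule.subset_span (by simp))
  rw [map_sub, sub_eq_zero] at hgy
  refine ⟨(g x)⁻¹ • g, ?_, ?_, ?_⟩
  · rw [LinearMap.smul_apply, hgv, smul_zero]
  · rw [LinearMap.smul_apply, smul_eq_mul, inv_mul_cancel₀ hg]
  · rw [LinearMap.smul_apply, hgy, smul_eq_mul, inv_mul_cancel₀ hg]

/-- a vector on which two independent functionals are `1` -/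
theorem exists_vec_two {g g' : Dual F B} (hg : g ≠ 0) (h : ∀ c : F, g' ≠ c • g) : ∃ u : B, g u = 1 ∧ g' u = 1 := by
  obtain ⟨z, hz⟩ : ∃ z, g z ≠ 0 := by
    by_contra hcon
    push Not at hcon
    exact hg (LinearMap.ext hcon)
  obtain ⟨u₁, h1⟩ : ∃ u₁, g u₁ = 1 := ⟨(g z)⁻¹ • z, by rw [map_smul, smul_eq_mul, inv_mul_cancel₀ hz]⟩
  obtain ⟨u₂, h2, h3⟩ : ∃ u₂, g u₂ = 0 ∧ g' u₂ ≠ 0 := by
    by_contra hcon
    push Not at hcon
    apply h (g' u₁)
    ext b
    have h2 : g (b - g b • u₁) = 0 := by rw [map_sub, map_smul, h1, smul_eq_mul, mul_one, sub_self]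
    have h3 := hcon _ h2
    rw [map_sub, map_smul, sub_eq_zero] at h3
    rw [h3, LinearMap.smul_apply, smul_eq_mul, smul_eq_mul, mul_comm]
  refine ⟨u₁ + ((1 - g' u₁) * (g' u₂)⁻¹) • u₂, ?_, ?_⟩
  · rw [map_add, map_smul, h2, smul_zero, add_zero, h1]
  · rw [map_add, map_smul, smul_eq_mul, inv_mul_cancel_right₀ h3]
    ring

end vec

variable {H M : Type*} [Group H] [CommGroup M] [MulDistribMulAction H M]
variable {F B : Type*} [Field F] [AddCommGroup B] [Module F B]
variable {T J : Subgroup H} {lam : Subgroup M} {π : M → B}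

/-- `t` acts on `B` as `b ↦ b + g(b) w` -/
def Tr (π : M → B) (t : H) (g : Dual F B) (w : B) : Prop := ∀ m : M, π (t • m) = π m + g (π m) • w

theorem exists_tr (hB : IsSL F B J π) {g : Dual F B} {w : B} (h : g w = 0) : ∃ t ∈ J, Tr π t g w := by
  obtain ⟨t, ht, e⟩ := hB.full (LinearEquiv.transvection h) (LinearEquiv.transvection.det_eq_one h)
  exact ⟨t, ht, fun m => e m⟩

theorem eq_of_act (hK : Blk T lam J) (hP : Proj F B J π) {t t' : H} (ht : t ∈ J) (ht' : t' ∈ J)
    (h : ∀ m : M, π (t • m) = π (t' • m)) : t = t' := by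
  have h1 : t * t'⁻¹ = 1 := by
    refine hK.faith _ (mul_mem ht (inv_mem ht')) (fun m => (pi_eq hP).1 ?_)
    rw [mul_smul, h, smul_inv_smul]
  exact mul_inv_eq_one.1 h1

theorem Tr.eq (hK : Blk T lam J) (hP : Proj F B J π) {t t' : H} {g : Dual F B} {w : B} (ht : t ∈ J) (ht' : t' ∈ J)
    (h : Tr π t g w) (h' : Tr π t' g w) : t = t' :=
  eq_of_act hK hP ht ht' (fun m => by rw [h m, h' m])

theorem Tr.mul {t t' : H} {g g' : Dual F B} {w : B} (hw : g w = 0) (h : Tr π t g w) (h' : Tr π t' g' w) :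
    Tr π (t * t') (g + g') w := by
  intro m
  rw [mul_smul, h, h', map_add, map_smul, hw, smul_zero, add_zero, LinearMap.add_apply, add_smul, add_assoc]
  congr 1
  exact add_comm _ _

theorem Tr.smul {t : H} {g : Dual F B} {w : B} (c : F) (h : Tr π t (c • g) w) : Tr π t g (c • w) := by
  intro m
  rw [h m, LinearMap.smul_apply, smul_smul, smul_eq_mul, mul_comm]

/-- conjugation by a linear element -/
theorem Tr.conj {t j : H} {g : Dual F B} {w : B} {f : B ≃ₗ[F] B} (hf : ∀ m : M, π (j • m) = f (π m))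
    (h : Tr π t g w) : Tr π (j * t * j⁻¹) (g ∘ₗ (f.symm : B →ₗ[F] B)) (f w) := by
  intro m
  have h1 : π (j⁻¹ • m) = f.symm (π m) := by
    rw [LinearEquiv.eq_symm_apply, ← hf, smul_inv_smul]
  rw [mul_smul, mul_smul, hf, h, h1, map_add, map_smul, f.apply_symm_apply]
  rfl

/-! ### transitivity, Schur, the fixed line -/

theorem lin_of (hB : IsSL F B J π) : Lin F B J π where
  toProj := hB.toProj
  lin j hj := by
    obtain ⟨f, -, hf⟩ := hB.lin j hj
    exact ⟨f, hf⟩
  tr := by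
    -- the independent case
    have key : ∀ x y : B, x ≠ 0 → y ∉ Submodule.span F {x} → ∃ j ∈ J, ∀ m : M, π m = x → π (j • m) = y := by
      intro x y hx hy
      have h1 : x ∉ Submodule.span F {y - x} := by
        intro h
        obtain ⟨c, hc⟩ := Submodule.mem_span_singleton.1 h
        have hc0 : c ≠ 0 := by
          rintro rfl
          rw [zero_smul] at hc
          exact hx hc.symm
        apply hy
        refine Submodule.mem_span_singleton.2 ⟨c⁻¹ + 1, ?_⟩
        have h2 : y - x = c⁻¹ • x := by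
          nth_rewrite 2 [← hc]
          rw [inv_smul_smul₀ hc0]
        rw [add_smul, one_smul, ← h2, sub_add_cancel]
      obtain ⟨g, hg, hg'⟩ := exists_dual h1
      obtain ⟨t, ht, e⟩ := exists_tr hB hg
      refine ⟨t, ht, fun m hm => ?_⟩
      rw [e m, hm, hg', one_smul, add_sub_cancel]
    intro x y hx hy
    by_cases h : y ∈ Submodule.span F {x}
    · obtain ⟨w, hw⟩ := exists_notMem_span hB.dim x
      obtain ⟨j, hj, e⟩ := key x w hx hw
      have h1 : y ∉ Submodule.span F {w} := by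
        intro h2
        apply hw
        obtain ⟨c, rfl⟩ := Submodule.mem_span_singleton.1 h2
        have hc : c ≠ 0 := by
          rintro rfl
          exact hy (zero_smul F w)
        have h3 := Submodule.smul_mem _ c⁻¹ h
        rwa [inv_smul_smul₀ hc] at h3
      obtain ⟨k, hk, e'⟩ := key w y (ne_zero_of_notMem hw) h1
      exact ⟨k * j, mul_mem hk hj, fun m hm => by rw [mul_smul]; exact e' _ (e m hm)⟩
    · exact key x y hx h

/-- **Schur's lemma** -/
theorem schur (hB : IsSL F B J π) (f : B →+ B)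
    (hf : ∀ j ∈ J, ∀ m n : M, f (π m) = π n → f (π (j • m)) = π (j • n)) : ∃ c : F, ∀ b, f b = c • b := by
  have hstar : ∀ (g : Dual F B) (w b : B), g w = 0 → f (g b • w) = g (f b) • w := by
    intro g w b hg
    obtain ⟨t, ht, e⟩ := exists_tr hB hg
    obtain ⟨m, rfl⟩ := hB.surj b
    obtain ⟨n, hn⟩ := hB.surj (f (π m))
    have h1 := hf t ht m n hn.symm
    rw [e m, e n, hn, map_add] at h1
    exact add_left_cancel h1
  -- every nonzero vector is an eigenvector
  have heig : ∀ w : B, w ≠ 0 → ∃ s : F, f w = s • w := by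
    intro w hw
    obtain ⟨x, hx⟩ := exists_notMem_span hB.dim w
    obtain ⟨g, hg, hg'⟩ := exists_dual hx
    have h1 := hstar g w x hg
    rw [hg', one_smul] at h1
    exact ⟨_, h1⟩
  choose! s hs using heig
  have hsm : ∀ (x w : B) (μ : F), μ ≠ 0 → w ≠ 0 → x ∉ Submodule.span F {w} → s (μ • w) = s x := by
    intro x w μ hμ hw hx
    obtain ⟨g, hg, hg'⟩ := exists_dual hx
    have h1 := hstar (μ • g) w x (by rw [LinearMap.smul_apply, hg, smul_zero])
    have hx0 := ne_zero_of_notMem hx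
    have e1 : (μ • g) x = μ := by rw [LinearMap.smul_apply, hg', smul_eq_mul, mul_one]
    have e2 : (μ • g) (f x) = s x * μ := by
      rw [hs x hx0, map_smul, e1, smul_eq_mul]
    have hw' : μ • w ≠ 0 := smul_ne_zero hμ hw
    rw [e1, e2, hs _ hw', smul_smul] at h1
    exact mul_right_cancel₀ hμ (smul_left_injective F hw h1)
  obtain ⟨w₀, hw₀⟩ := exists_notMem_span hB.dim (0 : B)
  have hw0 : w₀ ≠ 0 := ne_zero_of_notMem hw₀
  refine ⟨s w₀, fun b => ?_⟩
  by_cases hb : b = 0
  · rw [hb, map_zero, smul_zero]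
  · suffices s b = s w₀ by rw [hs b hb, this]
    by_cases h : b ∈ Submodule.span F {w₀}
    · obtain ⟨μ, rfl⟩ := Submodule.mem_span_singleton.1 h
      have hμ : μ ≠ 0 := by
        rintro rfl
        exact hb (zero_smul F w₀)
      obtain ⟨x, hx⟩ := exists_notMem_span hB.dim w₀
      have h1 := hsm x w₀ μ hμ hw0 hx
      have h2 := hsm x w₀ 1 one_ne_zero hw0 hx
      rw [one_smul] at h2
      rw [h1, h2]
    · have h1 := hsm b w₀ 1 one_ne_zero hw0 h
      rw [one_smul] at h1
      exact h1.symm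

/-- the transvections with centre `v` -/
def tv (_hB : IsSL F B J π) (v : B) : Subgroup H where
  carrier := {t | t ∈ J ∧ ∃ g : Dual F B, g v = 0 ∧ Tr π t g v}
  one_mem' := ⟨one_mem _, 0, rfl, fun m => by rw [one_smul, LinearMap.zero_apply, zero_smul, add_zero]⟩
  mul_mem' := by
    rintro t t' ⟨ht, g, hg, e⟩ ⟨ht', g', hg', e'⟩
    exact ⟨mul_mem ht ht', g + g', by rw [LinearMap.add_apply, hg, hg', add_zero], e.mul hg e'⟩
  inv_mem' := by
    rintro t ⟨ht, g, hg, e⟩
    refine ⟨inv_mem ht, -g, by rw [LinearMap.neg_apply, hg, neg_zero], fun m => ?_⟩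
    have h1 := e (t⁻¹ • m)
    rw [smul_inv_smul] at h1
    have h2 : g (π m) = g (π (t⁻¹ • m)) := by
      rw [h1, map_add, map_smul, hg, smul_zero, add_zero]
    rw [LinearMap.neg_apply, neg_smul, h2, h1, add_neg_cancel_right]

theorem mem_tv (hB : IsSL F B J π) {v : B} {t : H} : t ∈ tv hB v ↔ t ∈ J ∧ ∃ g : Dual F B, g v = 0 ∧ Tr π t g v :=
  Iff.rfl

theorem add_self (hK : Blk T lam J) (hP : Proj F B J π) (b : B) : b + b = 0 := by
  obtain ⟨m, rfl⟩ := hP.surj b
  rw [← hP.add, hK.sq, pi_one hP]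

theorem isPGroup_tv (hK : Blk T lam J) (hB : IsSL F B J π) (v : B) : IsPGroup 2 (tv hB v) := by
  rintro ⟨t, ht, g, hg, e⟩
  refine ⟨1, ?_⟩
  rw [pow_one, pow_two]
  apply Subtype.ext
  show t * t = 1
  refine eq_of_act hK hB.toProj (mul_mem ht ht) (one_mem _) (fun m => ?_)
  rw [e.mul hg e, one_smul, LinearMap.add_apply, add_smul, add_self hK hB.toProj, add_zero]

/-- **`C_B(T ∩ J) = F v`** -/
theorem line (hK : Blk T lam J) (hB : IsSL F B J π) (v w : B) (hv : v ≠ 0)
    (h1 : ∀ t ∈ T ⊓ J, ∀ m, π m = v → π (t • m) = v) (h2 : ∀ t ∈ T ⊓ J, ∀ m, π m = w → π (t • m) = w) :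
    ∃ c : F, w = c • v := by
  have := hK.finH
  have hP := hB.toProj
  obtain ⟨a, rfl⟩ := hP.surj v
  obtain ⟨n, rfl⟩ := hP.surj w
  set C : Subgroup H := stab hP a ⊓ J with hC
  have hSC : T ⊓ J ≤ C := fun t ht => ⟨⟨le_normalizer ht.2, h1 t ht a rfl⟩, ht.2⟩
  have hsyl : ¬ 2 ∣ (T ⊓ J).relIndex C := by
    intro h
    exact hK.syl (h.trans (Dvd.intro _ (relIndex_mul_relIndex _ C J hSC inf_le_right)))
  have htvC : tv hB (π a) ≤ C := by
    rintro t ⟨ht, g, hg, e⟩
    exact ⟨⟨le_normalizer ht, by rw [e a, hg, zero_smul, add_zero]⟩, ht⟩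
  obtain ⟨k, hk, hkX⟩ := exists_conj_le (hK.two.to_le inf_le_left) hsyl (isPGroup_tv hK hB _) htvC
  by_contra hcon
  have hw : π n ∉ Submodule.span F {π a} := by
    intro h
    obtain ⟨c, hc⟩ := Submodule.mem_span_singleton.1 h
    exact hcon ⟨c, hc.symm⟩
  obtain ⟨g, hg, hg'⟩ := exists_dual hw
  obtain ⟨t, ht, e⟩ := exists_tr hB hg
  -- `k⁻¹ t k` is a transvection with centre `v`
  obtain ⟨f, -, hf⟩ := hB.lin k⁻¹ (inv_mem hk.2)
  have h3 : k⁻¹ * t * k ∈ tv hB (π a) := by
    have h4 := e.conj hf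
    rw [inv_inv] at h4
    have h5 : f (π a) = π a := by
      rw [← hf]
      exact (inv_mem hk.1 : k⁻¹ ∈ stab hP a).2
    rw [h5] at h4
    refine ⟨mul_mem (mul_mem (inv_mem hk.2) ht) hk.2, _, ?_, h4⟩
    show g (f.symm (π a)) = 0
    have h6 : f.symm (π a) = π a := by rw [LinearEquiv.symm_apply_eq, h5]
    rw [h6, hg]
  have h4 := hkX _ h3
  have h5 : k * (k⁻¹ * t * k) * k⁻¹ = t := by group
  rw [h5] at h4
  have h6 := h2 t h4 n rfl
  rw [e n, hg', one_smul] at h6
  exact hv (add_eq_left.1 h6)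

theorem tor (hK : Blk T lam J) (hB : IsSL F B J π) : KTor T lam J :=
  tor_of hK (lin_of hB) (line hK hB) (schur hB)

end Cfsg.Agent.Omega.NO3S.FarQ.KSL
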