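import Cfsg.Agent.Omega.NO3S.FarQ.KSLBase

/-!
# FarQ: the K-facts for `SL_m(r)`, part 2 (the shape of `A ∩ J`)

`tr_of_mem_oj` : the elements of `O_J = ⟨(A ∩ J)^{C_J(lam)}⟩` act as transvections with centre `v = π a₁`;
`smul_mem` : the functionals of `A ∩ J` form an `F`-subspace; `exists_oj` : all the transvections with centre `v` are in
`O_J`; `gens` : `J = ⟨(A ∩ J)^J⟩`.
-/

set_option autoImplicit false

namespace Cfsg.Agent.Omega.NO3S.FarQ.KSL

open Subgroup Module Cfsg.Agent.ZN Cfsg.Agent.Omega.NO3S.PT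
open Cfsg.Agent.Omega.NO3S.FarQ.KCom
open Cfsg.Agent.ClassTwoFusion.Quad (cv mem_cv cv_anti)
open Cfsg.Agent.Omega.Mix.SLn (exists_dual)
open scoped Pointwise

/-- a 2-group acting on a finite elementary abelian 2-group fixes a nontrivial coset of an invariant proper subgroup -/
theorem exists_fixed_mod {L B : Type*} [Group L] [AddCommGroup B] [Finite B] (ρ : L → B →+ B)
    (hρ1 : ∀ b, ρ 1 b = b) (hρm : ∀ l l' b, ρ (l * l') b = ρ l (ρ l' b)) (hL : IsPGroup 2 L)
    (h2 : ∀ b : B, b + b = 0) (N : AddSubgroup B) (hN : ∀ l, ∀ n ∈ N, ρ l n ∈ N) {b₀ : B} (hb₀ : b₀ ∉ N) :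
    ∃ x, x ∉ N ∧ ∀ l, ρ l x - x ∈ N := by
  classical
  have : Fact (Nat.Prime 2) := ⟨Nat.prime_two⟩
  have hN' : ∀ l, N ≤ AddSubgroup.comap (ρ l) N := fun l n hn => hN l n hn
  let A : MulAction L (B ⧸ N) :=
    { smul := fun l x => QuotientAddGroup.map N N (ρ l) (hN' l) x
      one_smul := fun x => by
        induction x using QuotientAddGroup.induction_on with
        | H b =>
          exact congrArg (fun y : B => (y : B ⧸ N)) (hρ1 b)
      mul_smul := fun l l' x => by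
        induction x using QuotientAddGroup.induction_on with
        | H b =>
          exact congrArg (fun y : B => (y : B ⧸ N)) (hρm l l' b) }
  have hsm : ∀ (l : L) (b : B), l • (b : B ⧸ N) = ((ρ l b : B) : B ⧸ N) := fun l b => rfl
  have h3 : (b₀ : B ⧸ N) ≠ 0 := by
    intro h
    exact hb₀ ((QuotientAddGroup.eq_zero_iff b₀).1 h)
  have h4 : addOrderOf (b₀ : B ⧸ N) = 2 := by
    refine addOrderOf_eq_prime ?_ h3
    rw [two_nsmul, ← QuotientAddGroup.mk_add, h2, QuotientAddGroup.mk_zero]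
  have h5 : 2 ∣ Nat.card (B ⧸ N) := h4 ▸ addOrderOf_dvd_natCard _
  obtain ⟨y, hy, hy0⟩ := hL.exists_fixed_point_of_prime_dvd_card_of_fixed_point (B ⧸ N) h5
    (a := (0 : B ⧸ N)) (by
      intro l
      rw [← QuotientAddGroup.mk_zero, hsm, map_zero])
  obtain ⟨x, rfl⟩ := QuotientAddGroup.mk_surjective y
  refine ⟨x, fun h => hy0 ((QuotientAddGroup.eq_zero_iff x).2 h).symm, fun l => ?_⟩
  have h6 := hy l
  rw [hsm, QuotientAddGroup.eq] at h6
  have h7 : ρ l x - x = -(-(ρ l x) + x) := by abel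
  rw [h7]
  exact N.neg_mem h6

variable {H M : Type*} [Group H] [CommGroup M] [MulDistribMulAction H M]
variable {F B : Type*} [Field F] [AddCommGroup B] [Module F B]
variable {T J A : Subgroup H} {lam : Subgroup M} {π : M → B}

theorem Tr.unique (hP : Proj F B J π) {t : H} {g g' : Dual F B} {w : B} (hw : w ≠ 0) (h : Tr π t g w)
    (h' : Tr π t g' w) : g = g' := by
  ext b
  obtain ⟨m, rfl⟩ := hP.surj b
  have h1 := h m
  rw [h' m] at h1
  exact (smul_left_injective F hw (add_left_cancel h1)).symm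

theorem mem_fixer {h : H} : h ∈ fixer lam ↔ ∀ a ∈ lam, h • a = a := Iff.rfl

theorem oj_le (hE : ExJ lam A J) : oj lam A J ≤ J ⊓ fixer lam := by
  rw [oj, closure_le]
  rintro _ ⟨c, hc, y, hy, rfl⟩
  have h1 : y ∈ J ⊓ fixer lam := ⟨hy.2, fun a ha => hE.fix y hy a ha⟩
  exact mul_mem (mul_mem hc h1) (inv_mem hc)

theorem le_oj : A ⊓ J ≤ oj lam A J := fun y hy => subset_closure ⟨1, one_mem _, y, hy, by group⟩

theorem oj_conj {c o : H} (hc : c ∈ J ⊓ fixer lam) (ho : o ∈ oj lam A J) : c * o * c⁻¹ ∈ oj lam A J := by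
  have h1 : oj lam A J ≤ (oj lam A J).comap (MulAut.conj c).toMonoidHom := by
    conv_lhs => rw [oj]
    rw [closure_le]
    rintro _ ⟨d, hd, y, hy, rfl⟩
    refine subset_closure ⟨c * d, mul_mem hc hd, y, hy, ?_⟩
    show c * (d * y * d⁻¹) * c⁻¹ = _
    group
  exact h1 ho

section ex

variable (hK : Blk T lam J) (hB : IsSL F B J π) (hE : ExJ lam A J) {a₁ : M} (ha₁ : a₁ ∈ lam) (h11 : a₁ ≠ 1)
include hK hB ha₁ h11

theorem pi_ne : π a₁ ≠ 0 := fun h => h11 (hK.inf a₁ ha₁ ((hB.ker a₁).1 h))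

/-- the elements of `J` fixing `v` fix `lam` -/
theorem mem_fixer_of {c : H} (hc : c ∈ J) (h : π (c • a₁) = π a₁) : c ∈ J ⊓ fixer lam :=
  ⟨hc, fun b hb => cent hK hB.toProj ha₁ h11 hc h b hb⟩

theorem tr_mem_fixer {c : H} (hc : c ∈ J) {g : Dual F B} {w : B} (h : Tr π c g w) (hg : g (π a₁) = 0) :
    c ∈ J ⊓ fixer lam :=
  mem_fixer_of hK hB ha₁ h11 hc (by rw [h a₁, hg, zero_smul, add_zero])

include hE

/-- **the elements of `O_J` are transvections with centre `v`** -/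
theorem tr_of_mem_oj {o : H} (ho : o ∈ oj lam A J) : ∃ g : Dual F B, g (π a₁) = 0 ∧ Tr π o g (π a₁) := by
  have hP := hB.toProj
  have hv := pi_ne hK hB ha₁ h11
  have := hK.finM
  have : Finite B := Finite.of_surjective π hP.surj
  -- the linear maps
  have hlin : ∀ o ∈ oj lam A J, ∃ f : B ≃ₗ[F] B, ∀ m : M, π (o • m) = f (π m) := fun o ho => by
    obtain ⟨f, -, hf⟩ := hB.lin o (oj_le hE ho).1
    exact ⟨f, hf⟩
  have hfv : ∀ o ∈ oj lam A J, π (o • a₁) = π a₁ := fun o ho => by rw [(oj_le hE ho).2 a₁ ha₁]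
  choose s hs using hP.surj
  let ρ : ↥(oj lam A J) → B →+ B := fun o =>
    { toFun := fun b => π ((o : H) • s b)
      map_zero' := by
        rw [pi_congr_J hP (oj_le hE o.2).1 ((hs 0).trans (pi_one hP).symm), smul_one, pi_one hP]
      map_add' := fun b c => by
        rw [← hP.add, ← smul_mul']
        exact pi_congr_J hP (oj_le hE o.2).1 (by rw [hs, hP.add, hs, hs]) }
  have hρ : ∀ (o : ↥(oj lam A J)) (m : M), ρ o (π m) = π ((o : H) • m) := fun o m =>
    pi_congr_J hP (oj_le hE o.2).1 (hs (π m))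
  obtain ⟨b₀, hb₀⟩ := exists_notMem_span hB.dim (π a₁)
  obtain ⟨x, hx, hxo⟩ := exists_fixed_mod ρ
    (fun b => by
      obtain ⟨m, rfl⟩ := hP.surj b
      rw [hρ, coe_one, one_smul])
    (fun l l' b => by
      obtain ⟨m, rfl⟩ := hP.surj b
      rw [hρ, hρ, hρ, coe_mul, mul_smul])
    hE.o2 (add_self hK hP) (Submodule.span F {π a₁}).toAddSubgroup
    (by
      rintro ⟨o, ho⟩ n hn
      obtain ⟨c, rfl⟩ := Submodule.mem_span_singleton.1 hn
      obtain ⟨f, hf⟩ := hlin o ho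
      obtain ⟨n, hn'⟩ := hP.surj (c • π a₁)
      rw [← hn', hρ]
      show π (o • n) ∈ Submodule.span F {π a₁}
      rw [hf, hn', map_smul, ← hf, hfv o ho]
      exact Submodule.smul_mem _ _ (Submodule.mem_span_singleton_self _)) hb₀
  have hxo' : ∀ o ∈ oj lam A J, ∀ m, π m = x → ∃ η : F, π (o • m) = x + η • π a₁ := by
    intro o ho m hm
    have h1 : ρ ⟨o, ho⟩ x - x ∈ Submodule.span F {π a₁} := hxo ⟨o, ho⟩
    obtain ⟨η, hη⟩ := Submodule.mem_span_singleton.1 h1
    refine ⟨η, ?_⟩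
    rw [hη, add_sub_cancel, ← hm, hρ]
  -- all vectors
  have hall : ∀ o ∈ oj lam A J, ∀ b : B, ∃ η : F, ∀ m, π m = b → π (o • m) = b + η • π a₁ := by
    intro o ho b
    obtain ⟨f, hf⟩ := hlin o ho
    have hf1 : f (π a₁) = π a₁ := by rw [← hf, hfv o ho]
    by_cases h : b ∈ Submodule.span F {π a₁, x}
    · obtain ⟨α, β, rfl⟩ := Submodule.mem_span_pair.1 h
      obtain ⟨mx, hmx⟩ := hP.surj x
      obtain ⟨η, hη⟩ := hxo' o ho mx hmx
      rw [hf, hmx] at hη
      refine ⟨β * η, fun m hm => ?_⟩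
      rw [hf, hm, map_add, map_smul, map_smul, hf1, hη, smul_add, smul_smul, add_assoc]
    · obtain ⟨g, hg1, hg2, hg3⟩ := exists_dual_two hx h
      have hg4 : g (b - x) = 0 := by rw [map_sub, hg3, hg2, sub_self]
      obtain ⟨c, hc, e⟩ := exists_tr hB hg4
      have hcf := tr_mem_fixer hK hB ha₁ h11 hc e hg1
      have ho' : c⁻¹ * o * c ∈ oj lam A J := by
        have h1 := oj_conj (inv_mem hcf) ho
        rwa [inv_inv] at h1
      obtain ⟨mx, hmx⟩ := hP.surj x
      obtain ⟨η, hη⟩ := hxo' _ ho' mx hmx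
      obtain ⟨fc, -, hfc⟩ := hB.lin c hc
      refine ⟨η, fun m hm => ?_⟩
      have h1 : π (c • mx) = b := by rw [e mx, hmx, hg2, one_smul, add_sub_cancel]
      have h2 : π (o • m) = π (c • (c⁻¹ * o * c) • mx) := by
        have h3 : c • (c⁻¹ * o * c) • mx = o • c • mx := by
          simp only [smul_smul]
          congr 1
          group
        rw [h3]
        exact pi_congr_J hP (oj_le hE ho).1 (hm.trans h1.symm)
      rw [h2, hfc, hη, map_add, map_smul]
      have h4 : fc x = b := by rw [← h1, hfc, hmx]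
      have h5 : fc (π a₁) = π a₁ := by rw [← hfc, hcf.2 a₁ ha₁]
      rw [h4, h5]
  obtain ⟨ψ, hψ0, hψ⟩ : ∃ ψ : Dual F B, ψ 0 = 0 ∧ ψ (π a₁) = 1 := by
    refine exists_dual ?_
    rw [Submodule.span_zero_singleton, Submodule.mem_bot]
    exact hv
  obtain ⟨f, hf⟩ := hlin o ho
  have hform : ∀ b, f b - b = ψ (f b - b) • π a₁ := by
    intro b
    obtain ⟨η, hη⟩ := hall o ho b
    obtain ⟨m, rfl⟩ := hP.surj b
    have h1 := hη m rfl
    rw [hf] at h1
    rw [h1, add_sub_cancel_left, map_smul, hψ, smul_eq_mul, mul_one]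
  refine ⟨ψ ∘ₗ ((f : B →ₗ[F] B) - LinearMap.id), ?_, fun m => ?_⟩
  · show ψ (f (π a₁) - π a₁) = 0
    rw [← hf, hfv o ho, sub_self, map_zero]
  · show π (o • m) = π m + ψ (f (π m) - π m) • π a₁
    rw [← hform, hf, add_sub_cancel]

/-- **the functionals of `A ∩ J` form an `F`-subspace** -/
theorem smul_mem {α : H} (hα : α ∈ A ⊓ J) {g : Dual F B} (h : Tr π α g (π a₁)) (c : F) :
    ∃ β ∈ A ⊓ J, Tr π β (c • g) (π a₁) := by
  classical
  have hP := hB.toProj
  have hv := pi_ne hK hB ha₁ h11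
  have := hK.finM
  have := hK.finH
  have : Finite B := Finite.of_surjective π hP.surj
  have : Finite F := Finite.of_injective (fun c : F => c • π a₁) (smul_left_injective F hv)
  have hFD : FiniteDimensional F B := Module.finite_of_finrank_pos (by have := hB.dim; omega)
  have hex : ∀ α : ↥(A ⊓ J : Subgroup H), ∃ g : Dual F B, g (π a₁) = 0 ∧ Tr π (α : H) g (π a₁) := fun α =>
    tr_of_mem_oj hK hB hE ha₁ h11 (le_oj α.2)
  choose G hG0 hG using hex
  have hinj : Function.Injective G := by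
    intro α β e
    apply Subtype.ext
    have h1 := hG β
    rw [← e] at h1
    exact (hG α).eq hK hP α.2.2 β.2.2 h1
  set W : Submodule F (Dual F B) := Submodule.span F (Set.range G) with hW
  -- `|A ∩ J| ≥ |W|`
  let πM : M →* Multiplicative B :=
    { toFun := fun m => Multiplicative.ofAdd (π m)
      map_one' := by rw [pi_one hP]; rfl
      map_mul' := fun m n => by rw [hP.add]; rfl }
  have hπM : Function.Surjective πM := by
    intro b
    obtain ⟨m, hm⟩ := hP.surj b.toAdd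
    exact ⟨m, by
      show Multiplicative.ofAdd (π m) = b
      rw [hm]
      rfl⟩
  let C : Subgroup (Multiplicative B) := AddSubgroup.toSubgroup W.dualCoannihilator.toAddSubgroup
  have h1 : zm M (A ⊓ J) ≤ C.comap πM := by
    intro m hm
    show π m ∈ W.dualCoannihilator
    rw [Submodule.mem_dualCoannihilator]
    intro φ hφ
    have h2 : W ≤ LinearMap.ker (Dual.eval F B (π m)) := by
      rw [hW, Submodule.span_le]
      rintro _ ⟨α, rfl⟩
      show G α (π m) = 0
      have h3 := hG α m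
      have h4 : (α : H) • m = m := hm _ α.2
      rw [h4] at h3
      have h5 := (add_eq_left.1 h3.symm)
      exact (smul_eq_zero.1 h5).resolve_right hv
    exact h2 hφ
  have h2 : C.index ≤ Nat.card (A ⊓ J : Subgroup H) := by
    rw [hE.card, ← index_comap_of_surjective C hπM]
    exact Nat.le_of_dvd (Nat.pos_of_ne_zero index_ne_zero_of_finite) (index_dvd_of_le h1)
  have h3 : Nat.card W.dualCoannihilator * C.index = Nat.card B := by
    have h4 := card_mul_index C
    exact h4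
  have h4 : Nat.card W * Nat.card W.dualCoannihilator = Nat.card B := by
    rw [Module.natCard_eq_pow_finrank (K := F) (V := W), Module.natCard_eq_pow_finrank (K := F) (V := W.dualCoannihilator),
      Module.natCard_eq_pow_finrank (K := F) (V := B), ← pow_add, Subspace.finrank_add_finrank_dualCoannihilator_eq]
  have h5 : Nat.card W ≤ Nat.card (A ⊓ J : Subgroup H) := by
    have h6 : 0 < Nat.card W.dualCoannihilator := Nat.card_pos
    have h7 : Nat.card W = C.index := by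
      apply Nat.eq_of_mul_eq_mul_left h6
      rw [h3, mul_comm, h4]
    rw [h7]
    exact h2
  -- `G` is onto `W`
  have h6 : ∀ φ ∈ W, ∃ α, G α = φ := by
    let G' : ↥(A ⊓ J : Subgroup H) → W := fun α => ⟨G α, Submodule.subset_span ⟨α, rfl⟩⟩
    have hG' : Function.Injective G' := fun α β e => hinj (congrArg Subtype.val e)
    have hWfin : Finite W := Module.finite_of_finite F
    have hsurj : Function.Surjective G' := by
      have h7 : Nat.card (A ⊓ J : Subgroup H) = Nat.card W :=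
        le_antisymm (Nat.card_le_card_of_injective G' hG') h5
      exact ((Nat.bijective_iff_injective_and_card G').2 ⟨hG', h7⟩).2
    intro φ hφ
    obtain ⟨α, hα⟩ := hsurj ⟨φ, hφ⟩
    exact ⟨α, congrArg Subtype.val hα⟩
  have h7 : G ⟨α, hα⟩ = g := (hG ⟨α, hα⟩).unique hP hv h
  obtain ⟨β, hβ⟩ := h6 (c • g) (Submodule.smul_mem _ _ (Submodule.subset_span ⟨⟨α, hα⟩, h7⟩))
  refine ⟨β, β.2, ?_⟩
  rw [← hβ]
  exact hG β

/-- `A ∩ J` contains a nontrivial transvection -/
theorem exists_ne_zero : ∃ α ∈ A ⊓ J, ∃ g : Dual F B, g ≠ 0 ∧ g (π a₁) = 0 ∧ Tr π α g (π a₁) := by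
  obtain ⟨⟨α, hα⟩, h1'⟩ := Subgroup.ne_bot_iff_exists_ne_one.1 hE.ne
  have h1 : α ≠ 1 := fun e => h1' (Subtype.ext e)
  obtain ⟨g, hg, e⟩ := tr_of_mem_oj hK hB hE ha₁ h11 (le_oj hα)
  refine ⟨α, hα, g, ?_, hg, e⟩
  rintro rfl
  apply h1
  refine eq_of_act hK hB.toProj hα.2 (one_mem _) (fun m => ?_)
  rw [e m, LinearMap.zero_apply, zero_smul, add_zero, one_smul]

/-- **all the transvections with centre `v` are in `O_J`**; precisely they are `C_J(lam)`-conjugate to elements of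
`A ∩ J` -/
theorem exists_oj' {g : Dual F B} (hg : g (π a₁) = 0) :
    ∃ c ∈ J ⊓ fixer lam, ∃ y ∈ A ⊓ J, Tr π (c * y * c⁻¹) g (π a₁) := by
  have hP := hB.toProj
  by_cases hg0 : g = 0
  · refine ⟨1, one_mem _, 1, one_mem _, fun m => ?_⟩
    rw [hg0, LinearMap.zero_apply, zero_smul, add_zero]
    simp
  obtain ⟨α, hα, g₀, h0, h1, e⟩ := exists_ne_zero hK hB hE ha₁ h11
  by_cases h : ∃ c : F, g = c • g₀
  · obtain ⟨c, rfl⟩ := h
    obtain ⟨β, hβ, e'⟩ := smul_mem hK hB hE ha₁ h11 hα e c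
    refine ⟨1, one_mem _, β, hβ, ?_⟩
    rw [one_mul, inv_one, mul_one]
    exact e'
  · push Not at h
    obtain ⟨u, hu, hu'⟩ := exists_vec_two h0 h
    have hhu : (g - g₀) u = 0 := by rw [LinearMap.sub_apply, hu', hu, sub_self]
    obtain ⟨c, hc, ec⟩ := exists_tr hB hhu
    have hcf := tr_mem_fixer hK hB ha₁ h11 hc ec (by rw [LinearMap.sub_apply, hg, h1, sub_self])
    refine ⟨c⁻¹, inv_mem hcf, α, hα, ?_⟩
    obtain ⟨f, -, hf⟩ := hB.lin c⁻¹ (inv_mem hc)
    have h2 := e.conj hf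
    have h3 : f (π a₁) = π a₁ := by
      have h4 : c⁻¹ • a₁ = a₁ := (inv_mem hcf : c⁻¹ ∈ J ⊓ fixer lam).2 a₁ ha₁
      rw [← hf, h4]
    have h4 : g₀ ∘ₗ (f.symm : B →ₗ[F] B) = g := by
      ext b
      obtain ⟨m, rfl⟩ := hP.surj b
      have h5 : f.symm (π m) = π (c • m) := by rw [LinearEquiv.symm_apply_eq, ← hf, inv_smul_smul]
      show g₀ (f.symm (π m)) = g (π m)
      rw [h5, ec m, map_add, map_smul, hu, LinearMap.sub_apply, smul_eq_mul, mul_one, add_sub_cancel]
    rwa [h3, h4] at h2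

theorem exists_oj {g : Dual F B} (hg : g (π a₁) = 0) : ∃ o ∈ oj lam A J, Tr π o g (π a₁) := by
  obtain ⟨c, hc, y, hy, e⟩ := exists_oj' hK hB hE ha₁ h11 hg
  exact ⟨_, oj_conj hc (le_oj hy), e⟩

/-- every transvection is conjugate to an element of `A ∩ J` -/
theorem exists_conj {g : Dual F B} {w : B} (hw : w ≠ 0) (hg : g w = 0) :
    ∃ c ∈ J, ∃ y ∈ A ⊓ J, Tr π (c * y * c⁻¹) g w := by
  obtain ⟨j, hj, h1⟩ := (lin_of hB).tr (π a₁) w (pi_ne hK hB ha₁ h11) hw
  obtain ⟨f, -, hf⟩ := hB.lin j hj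
  have h2 : f (π a₁) = w := by rw [← hf, h1 a₁ rfl]
  obtain ⟨c, hc, y, hy, e⟩ := exists_oj' hK hB hE ha₁ h11 (g := g ∘ₗ (f : B →ₗ[F] B)) (by
    show g (f (π a₁)) = 0
    rw [h2, hg])
  refine ⟨j * c, mul_mem hj hc.1, y, hy, ?_⟩
  have h3 := e.conj hf
  have h4 : (g ∘ₗ (f : B →ₗ[F] B)) ∘ₗ (f.symm : B →ₗ[F] B) = g := by
    ext b
    show g (f (f.symm b)) = g b
    rw [f.apply_symm_apply]
  rw [h4, h2] at h3
  have h5 : j * c * y * (j * c)⁻¹ = j * (c * y * c⁻¹) * j⁻¹ := by group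
  rw [h5]
  exact h3

/-- **`KGens`** -/
theorem gens : KGens A J := by
  have hP := hB.toProj
  have hv := pi_ne hK hB ha₁ h11
  have hFD : FiniteDimensional F B := Module.finite_of_finrank_pos (by have := hB.dim; omega)
  set K : Subgroup H := closure {x | ∃ c ∈ J, ∃ y ∈ A ⊓ J, x = c * y * c⁻¹} with hKdef
  have hKJ : K ≤ J := by
    rw [hKdef, closure_le]
    rintro _ ⟨c, hc, y, hy, rfl⟩
    exact J.mul_mem (J.mul_mem hc hy.2) (J.inv_mem hc)
  choose s hs using hP.surj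
  let ρ₀ : ↥K → B →+ B := fun o =>
    { toFun := fun b => π ((o : H) • s b)
      map_zero' := by
        rw [pi_congr_J hP (hKJ o.2) ((hs 0).trans (pi_one hP).symm), smul_one, pi_one hP]
      map_add' := fun b c => by
        rw [← hP.add, ← smul_mul']
        exact pi_congr_J hP (hKJ o.2) (by rw [hs, hP.add, hs, hs]) }
  have hρ₀ : ∀ (o : ↥K) (m : M), ρ₀ o (π m) = π ((o : H) • m) := fun o m =>
    pi_congr_J hP (hKJ o.2) (hs (π m))
  let ρ : ↥K →* AddMonoid.End B :=
    { toFun := ρ₀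
      map_one' := by
        refine AddMonoidHom.ext fun b => ?_
        obtain ⟨m, rfl⟩ := hP.surj b
        rw [hρ₀, coe_one, one_smul]
        rfl
      map_mul' := fun l l' => by
        refine AddMonoidHom.ext fun b => ?_
        obtain ⟨m, rfl⟩ := hP.surj b
        show ρ₀ (l * l') (π m) = ρ₀ l (ρ₀ l' (π m))
        rw [hρ₀, hρ₀, hρ₀, coe_mul, mul_smul] }
  have hρ : ∀ (o : ↥K) (m : M), ρ o (π m) = π ((o : H) • m) := hρ₀
  have htr : ∀ (g : Dual F B) (w : B), w ≠ 0 → g w = 0 → ∃ k : ↥K, ∀ b, ρ k b = b + g b • w := by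
    intro g w hw hg
    obtain ⟨c, hc, y, hy, e⟩ := exists_conj hK hB hE ha₁ h11 hw hg
    refine ⟨⟨c * y * c⁻¹, subset_closure ⟨c, hc, y, hy, rfl⟩⟩, fun b => ?_⟩
    obtain ⟨m, rfl⟩ := hP.surj b
    rw [hρ]
    exact e m
  have hsemi : Mix.SLn.Semi F ρ := by
    intro k
    refine ⟨RingEquiv.refl F, fun c b => ?_⟩
    obtain ⟨f, -, hf⟩ := hB.lin k (hKJ k.2)
    have h1 : ∀ b, ρ k b = f b := by
      intro b
      obtain ⟨m, rfl⟩ := hP.surj b
      rw [hρ, hf]
    rw [h1, h1, map_smul]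
    rfl
  have htv : Mix.SLn.Tv F ρ (π a₁) := fun g hg => htr g (π a₁) hv hg
  have hspan : Submodule.span F {w : B | ∃ g : ↥K, ρ g (π a₁) = w} = ⊤ := by
    rw [eq_top_iff]
    intro w _
    by_cases h : w ∈ Submodule.span F {π a₁}
    · refine Submodule.span_mono ?_ h
      rintro _ rfl
      refine ⟨1, ?_⟩
      rw [map_one]
      rfl
    · refine Submodule.subset_span ?_
      have h1 : π a₁ ∉ Submodule.span F {w - π a₁} := by
        intro h2
        obtain ⟨c, hc⟩ := Submodule.mem_span_singleton.1 h2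
        have hc0 : c ≠ 0 := by
          rintro rfl
          rw [zero_smul] at hc
          exact hv hc.symm
        apply h
        refine Submodule.mem_span_singleton.2 ⟨c⁻¹ + 1, ?_⟩
        have h2 : w - π a₁ = c⁻¹ • π a₁ := by
          nth_rewrite 2 [← hc]
          rw [inv_smul_smul₀ hc0]
        rw [add_smul, one_smul, ← h2, sub_add_cancel]
      obtain ⟨g, hg, hg'⟩ := exists_dual h1
      have h2 : w - π a₁ ≠ 0 := by
        intro h3
        apply h
        rw [sub_eq_zero] at h3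
        rw [h3]
        exact Submodule.mem_span_singleton_self _
      obtain ⟨k, hk⟩ := htr g (w - π a₁) h2 hg
      exact ⟨k, by rw [hk, hg', one_smul, add_sub_cancel]⟩
  intro j hj
  obtain ⟨f, hf1, hf⟩ := hB.lin j hj
  obtain ⟨k, hk⟩ := Mix.SLn.exists_sl hsemi htv hspan (f : B →ₗ[F] B) (by
    rw [← LinearEquiv.coe_det, hf1]
    rfl)
  have h1 : j = (k : H) := eq_of_act hK hP hj (hKJ k.2) (fun m => by rw [hf, ← hρ, hk]; rfl)
  rw [h1]
  exact k.2

end ex

end Cfsg.Agent.Omega.NO3S.FarQ.KSL
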