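import Cfsg.Agent.Omega.NO3S.FarQ.KSLEx

/-!
# FarQ: the K-facts for `SL_m(r)`, part 3 (`KMeets`)

If `[E, A ∩ J] ∩ C_M(J) = 1` then the elements `[e, t]`, `t` a transvection with centre `w`, `e ∈ E = [M, J]`, depend only
on their image in `F w` (`kap_eq`), and give an additive `J`-equivariant section `s : B → E`; so `E = s(B)`,
`C_E(J) = 1`.
-/

set_option autoImplicit false

namespace Cfsg.Agent.Omega.NO3S.FarQ.KSL

open Subgroup Module Cfsg.Agent.ZN Cfsg.Agent.Omega.NO3S.PT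
open Cfsg.Agent.Omega.NO3S.FarQ.KCom
open Cfsg.Agent.ClassTwoFusion.Quad (cv mem_cv cv_anti)
open Cfsg.Agent.Omega.Mix.SLn (exists_dual)
open scoped Pointwise

variable {H M : Type*} [Group H] [CommGroup M] [MulDistribMulAction H M]
variable {F B : Type*} [Field F] [AddCommGroup B] [Module F B]
variable {T J A : Subgroup H} {lam : Subgroup M} {π : M → B}

/-- a vector with given values of two independent functionals -/
theorem exists_vec {g g' : Dual F B} (hg : g ≠ 0) (h : ∀ c : F, g' ≠ c • g) (α β : F) : ∃ u : B, g u = α ∧ g' u = β := by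
  obtain ⟨z, hz⟩ : ∃ z, g z ≠ 0 := by
    by_contra hcon
    push Not at hcon
    exact hg (LinearMap.ext hcon)
  obtain ⟨u₁, h1⟩ : ∃ u₁, g u₁ = 1 := ⟨(g z)⁻¹ • z, by rw [map_smul, smul_eq_mul, inv_mul_cancel₀ hz]⟩
  obtain ⟨u₂, h2, h3⟩ : ∃ u₂, g u₂ = 0 ∧ g' u₂ ≠ 0 := by
    by_contra hcon
    push Not at hcon
    apply h (g' u₁)
    ext b
    have h2 : g (b - g b • u₁) = 0 := by rw [map_sub, map_smul, h1, smul_eq_mul, mul_one, sub_self]
    have h3 := hcon _ h2
    rw [map_sub, map_smul, sub_eq_zero] at h3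
    rw [h3, LinearMap.smul_apply, smul_eq_mul, smul_eq_mul, mul_comm]
  refine ⟨α • u₁ + ((β - α * g' u₁) * (g' u₂)⁻¹) • u₂, ?_, ?_⟩
  · rw [map_add, map_smul, map_smul, h2, smul_zero, add_zero, h1, smul_eq_mul, mul_one]
  · rw [map_add, map_smul, map_smul, smul_eq_mul, smul_eq_mul, inv_mul_cancel_right₀ h3]
    ring

theorem exists_em (hK : Blk T lam J) (hP : Proj F B J π) (b : B) : ∃ e ∈ em M J, π e = b := by
  obtain ⟨m, rfl⟩ := hP.surj b
  have h1 : m ∈ em M J ⊔ zm M J := by rw [hK.cover]; exact mem_top m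
  obtain ⟨e, he, z, hz, rfl⟩ := mem_sup.1 h1
  exact ⟨e, he, by rw [hP.add, (hP.ker z).2 hz, add_zero]⟩

/-- `[e, t]` -/
def kap (t : H) (e : M) : M := (t • e) * e⁻¹

theorem kap_mem {t : H} (ht : t ∈ J) {e : M} (he : e ∈ em M J) : kap t e ∈ em M J :=
  mul_mem (smul_mem_em ht he) (inv_mem he)

theorem smul_eq_kap (t : H) (e : M) : t • e = kap t e * e := by rw [kap, inv_mul_cancel_right]

theorem kap_mul (t : H) (e e' : M) : kap t (e * e') = kap t e * kap t e' := by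
  rw [kap, kap, kap, smul_mul', mul_inv, mul_mul_mul_comm]

theorem kap_inv (t : H) (e : M) : kap t e⁻¹ = (kap t e)⁻¹ := by
  rw [kap, kap, smul_inv', mul_inv, inv_inv]

theorem kap_conj (j t : H) (e : M) : kap (j * t * j⁻¹) (j • e) = j • kap t e := by
  rw [kap, kap, smul_mul', smul_inv']
  congr 1
  simp only [smul_smul]
  congr 1
  group

theorem pi_kap (hP : Proj F B J π) {t : H} {g : Dual F B} {w : B} (h : Tr π t g w) (e : M) :
    π (kap t e) = g (π e) • w := by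
  rw [kap, hP.add, pi_inv hP, h e, add_neg_eq_iff_eq_add, add_comm]

section meets

variable (hK : Blk T lam J) (hB : IsSL F B J π) (hE : ExJ lam A J) {a₁ : M} (ha₁ : a₁ ∈ lam) (h11 : a₁ ≠ 1)
  (hC : cm (em M J) (A ⊓ J) ⊓ zm M J = ⊥)
include hC hB

theorem kap_eq_same {c y y' : H} (hc : c ∈ J) (hy : y ∈ A ⊓ J) (hy' : y' ∈ A ⊓ J) {e e' : M} (he : e ∈ em M J)
    (he' : e' ∈ em M J) (h : π (kap (c * y * c⁻¹) e) = π (kap (c * y' * c⁻¹) e')) :
    kap (c * y * c⁻¹) e = kap (c * y' * c⁻¹) e' := by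
  have hP := hB.toProj
  have h1 : ∀ (y : H) (e : M), kap (c * y * c⁻¹) e = c • kap y (c⁻¹ • e) := by
    intro y e
    rw [← kap_conj, smul_inv_smul]
  rw [h1, h1] at h ⊢
  congr 1
  have h2 : ∀ y ∈ A ⊓ J, ∀ e ∈ em M J, kap y e ∈ cm (em M J) (A ⊓ J) := fun y hy e he =>
    subset_closure ⟨y, hy, e, he, rfl⟩
  have h3 : π (kap y (c⁻¹ • e)) = π (kap y' (c⁻¹ • e')) := by
    have h4 := pi_congr_J hP (inv_mem hc) h
    rwa [inv_smul_smul, inv_smul_smul] at h4
  have h4 : kap y (c⁻¹ • e) * (kap y' (c⁻¹ • e'))⁻¹ ∈ cm (em M J) (A ⊓ J) ⊓ zm M J :=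
    ⟨(cm (em M J) (A ⊓ J)).mul_mem (h2 y hy _ (smul_mem_em (inv_mem hc) he))
      ((cm (em M J) (A ⊓ J)).inv_mem (h2 y' hy' _ (smul_mem_em (inv_mem hc) he'))), (pi_eq hP).1 h3⟩
  rw [hC, mem_bot] at h4
  exact mul_inv_eq_one.1 h4

include hK hE ha₁ h11

/-- the same root group -/
theorem kap_eq_root {t t' : H} (ht : t ∈ J) (ht' : t' ∈ J) {g : Dual F B} {w : B} (hw : w ≠ 0) (hg : g w = 0) {c : F}
    (h : Tr π t g w) (h' : Tr π t' (c • g) w) {e e' : M} (he : e ∈ em M J) (he' : e' ∈ em M J)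
    (hee : g (π e) = c * g (π e')) : kap t e = kap t' e' := by
  have hP := hB.toProj
  have hv := pi_ne hK hB ha₁ h11
  obtain ⟨d, hd, y, hy, e1⟩ := exists_conj hK hB hE ha₁ h11 hw hg
  have hdyJ : ∀ y ∈ A ⊓ J, d * y * d⁻¹ ∈ J := fun y hy => mul_mem (mul_mem hd hy.2) (inv_mem hd)
  have h1 : t = d * y * d⁻¹ := h.eq hK hP ht (hdyJ y hy) e1
  obtain ⟨g₁, -, e2⟩ := tr_of_mem_oj hK hB hE ha₁ h11 (le_oj hy)
  obtain ⟨y', hy', e3⟩ := smul_mem hK hB hE ha₁ h11 hy e2 c
  obtain ⟨f, -, hf⟩ := hB.lin d hd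
  have e4 := e2.conj hf
  have e5 := e3.conj hf
  have h2 : Tr π (d * y' * d⁻¹) (c • g) w := by
    intro m
    rw [e5 m]
    congr 1
    have h3 : (g₁ ∘ₗ (f.symm : B →ₗ[F] B)) (π m) • f (π a₁) = g (π m) • w := by
      have h4 := e1 m
      rw [e4 m] at h4
      exact add_left_cancel h4
    show (c • g₁) (f.symm (π m)) • f (π a₁) = (c • g) (π m) • w
    have h5 : (c • g₁) (f.symm (π m)) • f (π a₁) = c • ((g₁ ∘ₗ (f.symm : B →ₗ[F] B)) (π m) • f (π a₁)) := by
      rw [smul_smul]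
      rfl
    rw [h5, h3, smul_smul]
    rfl
  have h3 : t' = d * y' * d⁻¹ := h'.eq hK hP ht' (hdyJ y' hy') h2
  have h4 : π (kap t e) = π (kap t' e') := by
    rw [pi_kap hP h, pi_kap hP h', hee]
    rfl
  rw [h1, h3] at h4 ⊢
  exact kap_eq_same hB hC hd hy hy' he he' h4

theorem kap_one {t : H} (ht : t ∈ J) {g : Dual F B} {w : B} (hw : w ≠ 0) (hg : g w = 0) (h : Tr π t g w) {e : M}
    (he : e ∈ em M J) (h0 : g (π e) = 0) : kap t e = 1 := by
  have h1 := kap_eq_root hK hB hE ha₁ h11 hC ht ht hw hg (c := 1) h (by rw [one_smul]; exact h) he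
    (one_mem (em M J)) (by rw [h0, pi_one hB.toProj, map_zero, mul_zero])
  rw [h1, kap, smul_one, inv_one, mul_one]

theorem kap_congr {t : H} (ht : t ∈ J) {g : Dual F B} {w : B} (hw : w ≠ 0) (hg : g w = 0) (h : Tr π t g w) {e e' : M}
    (he : e ∈ em M J) (he' : e' ∈ em M J) (h0 : g (π e) = g (π e')) : kap t e = kap t e' := by
  have hP := hB.toProj
  have h1 : kap t (e * e'⁻¹) = 1 := kap_one hK hB hE ha₁ h11 hC ht hw hg h (mul_mem he (inv_mem he'))
    (by rw [hP.add, pi_inv hP, map_add, map_neg, h0, add_neg_cancel])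
  rw [kap_mul, kap_inv] at h1
  exact mul_inv_eq_one.1 h1

/-- **the same centre** -/
theorem kap_eq {t t' : H} (ht : t ∈ J) (ht' : t' ∈ J) {g g' : Dual F B} {w : B} (hw : w ≠ 0) (hg : g w = 0)
    (hg' : g' w = 0) (h : Tr π t g w) (h' : Tr π t' g' w) {e e' : M} (he : e ∈ em M J) (he' : e' ∈ em M J)
    (hee : g (π e) = g' (π e')) : kap t e = kap t' e' := by
  have hP := hB.toProj
  by_cases hg0 : g = 0
  · have h1 : g (π e) = 0 := by rw [hg0]; rfl
    rw [kap_one hK hB hE ha₁ h11 hC ht hw hg h he h1, kap_one hK hB hE ha₁ h11 hC ht' hw hg' h' he' (by rw [← hee, h1])]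
  by_cases hc : ∃ c : F, g' = c • g
  · obtain ⟨c, rfl⟩ := hc
    exact kap_eq_root hK hB hE ha₁ h11 hC ht ht' hw hg h h' he he' hee
  · push Not at hc
    set μ := g (π e) with hμ
    obtain ⟨b₁, h1, h2⟩ := exists_vec hg0 hc μ 0
    obtain ⟨b₂, h3, h4⟩ := exists_vec hg0 hc 0 μ
    obtain ⟨e₁, he₁, rfl⟩ := exists_em hK hP b₁
    obtain ⟨e₂, he₂, rfl⟩ := exists_em hK hP b₂
    have hgg : (g + g') w = 0 := by rw [LinearMap.add_apply, hg, hg', add_zero]
    have h5 : kap t e = kap t e₁ := kap_congr hK hB hE ha₁ h11 hC ht hw hg h he he₁ (by rw [h1])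
    have h6 : kap t' e' = kap t' e₂ := kap_congr hK hB hE ha₁ h11 hC ht' hw hg' h' he' he₂ (by rw [h4, hee])
    have h7 : kap (t * t') e₁ = kap (t * t') e₂ :=
      kap_congr hK hB hE ha₁ h11 hC (mul_mem ht ht') hw hgg (h.mul hg h') he₁ he₂
        (by rw [LinearMap.add_apply, LinearMap.add_apply, h1, h2, h3, h4, add_zero, zero_add])
    have h8 : t' • e₁ = e₁ := by
      rw [smul_eq_kap, kap_one hK hB hE ha₁ h11 hC ht' hw hg' h' he₁ h2, one_mul]
    have h9 : kap (t * t') e₁ = kap t e₁ := by rw [kap, mul_smul, h8]; rfl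
    have h10 : t • e₂ = e₂ := by
      rw [smul_eq_kap, kap_one hK hB hE ha₁ h11 hC ht hw hg h he₂ h3, one_mul]
    have h11' : t • kap t' e₂ = kap t' e₂ := by
      rw [smul_eq_kap, kap_one hK hB hE ha₁ h11 hC ht hw hg h (kap_mem ht' he₂)
        (by rw [pi_kap hP h', map_smul, hg, smul_zero]), one_mul]
    have h12 : kap (t * t') e₂ = kap t' e₂ := by
      rw [kap, mul_smul, smul_eq_kap t' e₂, smul_mul', h11', h10, mul_inv_cancel_right]
    rw [h5, h6, ← h9, ← h12, h7]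

/-- the section -/
theorem exists_sec : ∃ s : B → M, (∀ w, s w ∈ em M J) ∧ s 0 = 1 ∧ (∀ w, π (s w) = w) ∧
    (∀ (t : H) (g : Dual F B) (w : B) (e : M), t ∈ J → w ≠ 0 → g w = 0 → Tr π t g w → e ∈ em M J →
      kap t e = s (g (π e) • w)) := by
  classical
  have hP := hB.toProj
  have hex : ∀ w : B, ∃ x ∈ em M J, (w = 0 → x = 1) ∧ ∀ (t : H) (g : Dual F B) (e : M), t ∈ J → w ≠ 0 → g w = 0 →
      Tr π t g w → e ∈ em M J → g (π e) = 1 → kap t e = x := by
    intro w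
    by_cases hw : w = 0
    · exact ⟨1, one_mem _, fun _ => rfl, fun _ _ _ _ h => absurd hw h⟩
    · obtain ⟨u, hu⟩ := exists_notMem_span hB.dim w
      obtain ⟨g₀, hg₀, hg₁⟩ := exists_dual hu
      obtain ⟨t₀, ht₀, e₀⟩ := exists_tr hB hg₀
      obtain ⟨x₀, hx₀, hxu⟩ := exists_em hK hP u
      refine ⟨kap t₀ x₀, kap_mem ht₀ hx₀, fun h => absurd h hw, fun t g e ht _ hg h he h1 => ?_⟩
      exact kap_eq hK hB hE ha₁ h11 hC ht ht₀ hw hg hg₀ h e₀ he hx₀ (by rw [h1, hxu, hg₁])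
  choose s hs h0 hs1 using hex
  have hgen : ∀ (t : H) (g : Dual F B) (w : B) (e : M), t ∈ J → w ≠ 0 → g w = 0 → Tr π t g w → e ∈ em M J →
      kap t e = s (g (π e) • w) := by
    intro t g w e ht hw hg h he
    by_cases hμ : g (π e) = 0
    · rw [kap_one hK hB hE ha₁ h11 hC ht hw hg h he hμ, hμ, zero_smul, h0 0 rfl]
    · refine hs1 _ t ((g (π e))⁻¹ • g) e ht (smul_ne_zero hμ hw) ?_ ?_ he ?_
      · rw [LinearMap.smul_apply, map_smul, hg, smul_zero, smul_zero]
      · intro m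
        rw [h m, LinearMap.smul_apply, smul_smul, smul_eq_mul]
        congr 2
        rw [mul_comm, mul_inv_cancel_left₀ hμ]
      · rw [LinearMap.smul_apply, smul_eq_mul, inv_mul_cancel₀ hμ]
  refine ⟨s, hs, h0 0 rfl, fun w => ?_, hgen⟩
  by_cases hw : w = 0
  · rw [hw, h0 0 rfl, pi_one hP]
  · obtain ⟨u, hu⟩ := exists_notMem_span hB.dim w
    obtain ⟨g₀, hg₀, hg₁⟩ := exists_dual hu
    obtain ⟨t₀, ht₀, e₀⟩ := exists_tr hB hg₀
    obtain ⟨x₀, hx₀, hxu⟩ := exists_em hK hP u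
    rw [← hs1 w t₀ g₀ x₀ ht₀ hw hg₀ e₀ hx₀ (by rw [hxu, hg₁]), pi_kap hP e₀, hxu, hg₁, one_smul]

/-- **`KMeets`** -/
theorem meets_aux : tm M J = ⊥ := by
  have hP := hB.toProj
  obtain ⟨s, hs, h0, hπ, hgen⟩ := exists_sec hK hB hE ha₁ h11 hC
  -- equivariance
  have heq : ∀ j ∈ J, ∀ w : B, j • s w = s (π (j • s w)) := by
    intro j hj w
    by_cases hw : w = 0
    · rw [hw, h0, smul_one, pi_one hP, h0]
    · obtain ⟨u, hu⟩ := exists_notMem_span hB.dim w
      obtain ⟨g₀, hg₀, hg₁⟩ := exists_dual hu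
      obtain ⟨t₀, ht₀, e₀⟩ := exists_tr hB hg₀
      obtain ⟨x₀, hx₀, hxu⟩ := exists_em hK hP u
      obtain ⟨f, -, hf⟩ := hB.lin j hj
      have h1 : s w = kap t₀ x₀ := by
        rw [hgen t₀ g₀ w x₀ ht₀ hw hg₀ e₀ hx₀, hxu, hg₁, one_smul]
      have hfw : f w ≠ 0 := fun h => hw (f.injective (by rw [h, map_zero]))
      have h2 := hgen (j * t₀ * j⁻¹) _ (f w) (j • x₀) (mul_mem (mul_mem hj ht₀) (inv_mem hj)) hfw
        (by
          show g₀ (f.symm (f w)) = 0
          rw [f.symm_apply_apply, hg₀]) (e₀.conj hf) (smul_mem_em hj hx₀)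
      have h3 : (g₀ ∘ₗ (f.symm : B →ₗ[F] B)) (π (j • x₀)) = 1 := by
        show g₀ (f.symm (π (j • x₀))) = 1
        rw [hf, f.symm_apply_apply, hxu, hg₁]
      rw [kap_conj, h3, one_smul] at h2
      rw [hf, hπ, h1, h2]
  -- additivity
  have hadd1 : ∀ u w : B, u ≠ 0 → w ∉ Submodule.span F {u} → s (u + w) = s u * s w := by
    intro u w hu hw
    obtain ⟨g, hg, hg'⟩ := exists_dual hw
    obtain ⟨t, ht, e⟩ := exists_tr hB hg
    have h1 : kap t (s w) = s u := by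
      rw [hgen t g u (s w) ht hu hg e (hs w), hπ, hg', one_smul]
    have h2 : t • s w = s (u + w) := by
      rw [heq t ht w, e (s w), hπ, hg', one_smul, add_comm]
    rw [← h2, smul_eq_kap, h1]
  have hadd : ∀ u w : B, s (u + w) = s u * s w := by
    intro u w
    by_cases hu : u = 0
    · rw [hu, zero_add, h0, one_mul]
    by_cases hw : w ∈ Submodule.span F {u}
    · by_cases hw0 : w = 0
      · rw [hw0, add_zero, h0, mul_one]
      obtain ⟨z, hz⟩ := exists_notMem_span hB.dim u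
      have hz0 : z ≠ 0 := ne_zero_of_notMem hz
      have hzw : z ∉ Submodule.span F {w} := by
        intro h
        apply hz
        have h1 : Submodule.span F {w} ≤ Submodule.span F {u} := by
          rw [Submodule.span_singleton_le_iff_mem]
          exact hw
        exact h1 h
      have hwz : w + z ∉ Submodule.span F {u} := by
        intro h
        apply hz
        have h1 := Submodule.sub_mem _ h hw
        rwa [add_sub_cancel_left] at h1
      have h1 : s (u + (w + z)) = s u * (s w * s z) := by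
        rw [hadd1 u (w + z) hu hwz, hadd1 w z hw0 hzw]
      by_cases huw : u + w = 0
      · rw [← add_assoc, huw, zero_add, ← mul_assoc] at h1
        rw [huw, h0]
        exact mul_eq_right.1 h1.symm ▸ rfl
      · have hzuw : z ∉ Submodule.span F {u + w} := by
          intro h
          apply hz
          have h1 : Submodule.span F {u + w} ≤ Submodule.span F {u} := by
            rw [Submodule.span_singleton_le_iff_mem]
            exact Submodule.add_mem _ (Submodule.mem_span_singleton_self u) hw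
          exact h1 h
        rw [← add_assoc, hadd1 (u + w) z huw hzuw, ← mul_assoc] at h1
        exact mul_right_cancel h1
    · exact hadd1 u w hu hw
  let L : Subgroup M :=
    { carrier := {x | ∃ b, x = s b}
      one_mem' := ⟨0, h0.symm⟩
      mul_mem' := by
        rintro _ _ ⟨b, rfl⟩ ⟨c, rfl⟩
        exact ⟨b + c, (hadd b c).symm⟩
      inv_mem' := by
        rintro _ ⟨b, rfl⟩
        refine ⟨-b, ?_⟩
        rw [inv_eq_iff_mul_eq_one, ← hadd, add_neg_cancel, h0] }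
  have h1 : em M J ≤ L := em_le_of_cover hP hK.perf (by
    rintro j hj _ ⟨b, rfl⟩
    exact ⟨_, heq j hj b⟩) (fun b => ⟨s b, ⟨b, rfl⟩, hπ b⟩)
  rw [eq_bot_iff]
  rintro x ⟨hx, hx'⟩
  obtain ⟨b, rfl⟩ := h1 hx
  have h2 : π (s b) = 0 := (hP.ker _).2 hx'
  rw [hπ] at h2
  rw [h2, h0]
  exact one_mem _

end meets

theorem meets (hK : Blk T lam J) (hB : IsSL F B J π) (hE : ExJ lam A J) : KMeets M A J := by
  intro ht hC
  obtain ⟨a₁, ha₁, h11, -⟩ := exists_ne hK.four 1 1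
  exact ht (meets_aux hK hB hE ha₁ h11 hC)

end Cfsg.Agent.Omega.NO3S.FarQ.KSL
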