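import Cfsg.Agent.Omega.NO3S.FarQ.KSpTor

/-!
# FarQ, K-facts for `Sp(B)`, part 3: the separating elements and the final theorem

* `rank_one` : density; `goodA`, `goodB`;
* **`kfacts_sp`** : the K-facts for a symplectic block (`dim B ≥ 2`, so `SL₂(F)` is included, `kfacts_symp`).
-/

set_option autoImplicit false

namespace Cfsg.Agent.Omega.NO3S.FarQ.KSp

open Subgroup Cfsg.Agent.ZN Cfsg.Agent.Omega.NO3S.PT SpLin
open Cfsg.Agent.ClassTwoFusion.Quad (cv mem_cv cv_anti)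
open scoped Pointwise

variable {H M : Type*} [Group H] [CommGroup M] [MulDistribMulAction H M]
variable {F B : Type*} [Field F] [AddCommGroup B] [Module F B] {ω : LinearMap.BilinForm F B}

/-! ### Density -/

theorem exists_both [CharP F 2] (hs : Sy ω) {x v : B} (hx : x ≠ 0) (hv : v ≠ 0) :
    ∃ h, ω x h ≠ 0 ∧ ω v h ≠ 0 := by
  obtain ⟨a, ha⟩ := hs.exists_ne hx
  obtain ⟨b, hb⟩ := hs.exists_ne hv
  by_cases c1 : ω v a = 0
  · by_cases c2 : ω x b = 0
    · refine ⟨a + b, ?_, ?_⟩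
      · rw [map_add, c2, add_zero]; exact ha
      · rw [map_add, c1, zero_add]; exact hb
    · exact ⟨b, c2, hb⟩
  · exact ⟨a, ha, c1⟩

/-- **Density**: rank one operators -/
theorem rank_one [CharP F 2] (hs : Sy ω) {R : Type*} [CommGroup R] {Ψ : Subgroup (B → R)}
    (hadd : ∀ ψ ∈ Ψ, ∀ x y, ψ (x + y) = ψ x * ψ y)
    (hinv : ∀ ψ ∈ Ψ, ∀ u d, (fun x => ψ (tv ω u d x)) ∈ Ψ) {ψ : B → R} (hψ : ψ ∈ Ψ) (c : F) (w u : B) :
    (fun x => ψ ((c * ω x w) • u)) ∈ Ψ := by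
  have h0 : ∀ ψ ∈ Ψ, ψ 0 = 1 := by
    intro ψ hψ
    have := hadd ψ hψ 0 0
    rw [add_zero] at this
    exact left_eq_mul.mp this
  have step1 : ∀ ψ ∈ Ψ, ∀ (d : F) (u : B), (fun x => ψ ((d * ω x u) • u)) ∈ Ψ := by
    intro ψ hψ d u
    have h1 := mul_mem (hinv ψ hψ u d) (inv_mem hψ)
    have e : (fun x => ψ (tv ω u d x)) * ψ⁻¹ = fun x => ψ ((d * ω x u) • u) := by
      funext x
      rw [Pi.mul_apply, Pi.inv_apply, tv_apply, hadd ψ hψ, mul_comm, ← mul_assoc, inv_mul_cancel, one_mul]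
    rw [← e]; exact h1
  have step2 : ∀ ψ ∈ Ψ, ∀ (c : F) (w u : B), ω w u ≠ 0 → (fun x => ψ ((c * ω x w) • u)) ∈ Ψ := by
    intro ψ hψ c w u hwu
    have h1 := step1 _ (step1 ψ hψ c u) (ω w u)⁻¹ w
    have e : (fun x => (fun x => ψ ((c * ω x u) • u)) (((ω w u)⁻¹ * ω x w) • w)) =
        fun x => ψ ((c * ω x w) • u) := by
      funext x
      change ψ ((c * ω (((ω w u)⁻¹ * ω x w) • w) u) • u) = _
      rw [map_smul, LinearMap.smul_apply, smul_eq_mul]
      congr 2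
      field_simp
    rw [← e]; exact h1
  by_cases hw : w = 0
  · have e : (fun x => ψ ((c * ω x w) • u)) = 1 := by
      funext x
      rw [hw, map_zero, mul_zero, zero_smul, h0 ψ hψ]; rfl
    rw [e]; exact one_mem _
  by_cases hu : u = 0
  · have e : (fun x => ψ ((c * ω x w) • u)) = 1 := by
      funext x
      rw [hu, smul_zero, h0 ψ hψ]; rfl
    rw [e]; exact one_mem _
  -- z', z
  obtain ⟨z', hz'⟩ := hs.exists_ne hu
  have hz'0 : z' ≠ 0 := by rintro rfl; exact hz' (map_zero _)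
  obtain ⟨z, hz1, hz2⟩ := exists_both hs hw hz'0
  have hz'u : ω z' u ≠ 0 := by rw [hs.symm]; exact hz'
  have hzz' : ω z z' ≠ 0 := by rw [hs.symm]; exact hz2
  have h1 := step2 _ (step2 ψ hψ c z' u hz'u) (ω z z')⁻¹ w z hz1
  have e : (fun x => (fun x => ψ ((c * ω x z') • u)) (((ω z z')⁻¹ * ω x w) • z)) =
      fun x => ψ ((c * ω x w) • u) := by
    funext x
    change ψ ((c * ω (((ω z z')⁻¹ * ω x w) • z) z') • u) = _
    rw [map_smul, LinearMap.smul_apply, smul_eq_mul]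
    congr 2
    field_simp
  rw [← e]; exact h1

variable {T : Subgroup H} {lam : Subgroup M} {J : Subgroup H} {π : M → B} (hb : Blk T lam J)
  (hS : IsSymp F B ω J π)
include hb hS

theorem oj_of_tv {A : Subgroup H} (hA : ExJ lam A J) {a : M} (ha : a ∈ lam) (ha1 : a ≠ 1) (d : F) :
    ∃ h ∈ oj lam A J, ∀ m : M, π (h • m) = π m + (d * ω (π m) (π a)) • π a := by
  have := blk_charTwo hb hS
  obtain ⟨j, hj, hjm⟩ := exists_tv hS (π a) d
  have hjA := tv_mem hb hS hA ha ha1 hj hjm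
  exact ⟨j, subset_closure ⟨1, one_mem _, j, hjA, by group⟩, hjm⟩

omit hb in
/-- the commutator `[c, g h g⁻¹]` -/
theorem comm_eq {g : H} (hg : g ∈ J) {a : M} {h : H} {d : F}
    (hh : ∀ m : M, π (h • m) = π m + (d * ω (π m) (π a)) • π a) (c : M) :
    π (((g * h * g⁻¹) • c) * c⁻¹) = (d * ω (π c) (π (g • a))) • π (g • a) := by
  rw [hS.mul_inv, conj_tv hS hg hh, add_sub_cancel_left]

/-- **GoodA** -/
theorem goodA {R : Type*} [CommGroup R] {A : Subgroup H} (hA : ExJ lam A J) {g α : H} (hg : g ∈ J)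
    (hne : ∀ a ∈ lam, a ≠ 1 → ω (π (α • g • a)) (π (g • a)) ≠ 0) : GoodA R lam A J g α := by
  classical
  have := blk_charTwo hb hS
  intro Φ hΦ hinv hz a ha ha1
  obtain ⟨φ0, hφ0, hφ1⟩ : ∃ φ ∈ Φ, φ ≠ 1 := by
    by_contra h
    push Not at h
    exact hΦ ((eq_bot_iff_forall _).mpr h)
  obtain ⟨m0, hm0⟩ : ∃ m, φ0 m ≠ 1 := by
    by_contra h
    push Not at h
    exact hφ1 (MonoidHom.ext h)
  let s : B → M := Function.surjInv hS.surj
  have hs : ∀ x, π (s x) = x := Function.surjInv_eq hS.surj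
  have hfac : ∀ φ ∈ Φ, ∀ m n, π m = π n → φ m = φ n := by
    intro φ hφ m n hmn
    have h1 := hz φ hφ (m * n⁻¹) ((hS.eq_iff _ _).mpr hmn)
    rw [map_mul, map_inv] at h1
    exact mul_inv_eq_one.mp h1
  let Ψ : Subgroup (B → R) :=
    { carrier := {ψ | ∃ φ ∈ Φ, ∀ m, ψ (π m) = φ m}
      one_mem' := ⟨1, one_mem _, fun m => rfl⟩
      mul_mem' := by
        rintro ψ ψ' ⟨φ, hφ, h1⟩ ⟨φ', hφ', h2⟩
        exact ⟨φ * φ', mul_mem hφ hφ', fun m => by rw [Pi.mul_apply, h1, h2]; rfl⟩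
      inv_mem' := by
        rintro ψ ⟨φ, hφ, h1⟩
        exact ⟨φ⁻¹, inv_mem hφ, fun m => by rw [Pi.inv_apply, h1]; rfl⟩ }
  have hadd : ∀ ψ ∈ Ψ, ∀ x y, ψ (x + y) = ψ x * ψ y := by
    rintro ψ ⟨φ, hφ, h1⟩ x y
    have e : x + y = π (s x * s y) := by rw [hS.add, hs, hs]
    rw [e, h1, map_mul, ← h1, ← h1, hs, hs]
  have hΨinv : ∀ ψ ∈ Ψ, ∀ u d, (fun x => ψ (tv ω u d x)) ∈ Ψ := by
    rintro ψ ⟨φ, hφ, h1⟩ u d
    obtain ⟨j, hj, hjm⟩ := exists_tv hS u d
    obtain ⟨φ', hφ', h2⟩ := hinv φ hφ j hj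
    refine ⟨φ', hφ', fun m => ?_⟩
    rw [h2, ← h1, hjm]; rfl
  have hψ0 : (fun x => φ0 (s x)) ∈ Ψ := ⟨φ0, hφ0, fun m => hfac φ0 hφ0 _ _ (hs _)⟩
  set c := (α • g • a) * (g • a)⁻¹ with hc
  set b := π (g • a) with hbdef
  have he : ω (π c) b ≠ 0 := by
    rw [hc, hS.mul_inv, map_sub, LinearMap.sub_apply, hS.sy.alt, sub_zero]
    exact hne a ha ha1
  obtain ⟨φ, hφ, hφψ⟩ := rank_one hS.sy hadd hΨinv hψ0 ((ω (π c) b * ω (π c) b)⁻¹) (π c) (π m0)
  obtain ⟨h, hh, hhm⟩ := oj_of_tv hb hS hA ha ha1 1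
  refine ⟨φ, hφ, h, hh, ?_, ?_⟩
  · rw [← hφψ]
    change φ0 (s (((ω (π c) b * ω (π c) b)⁻¹ * ω (π c) (π c)) • π m0)) = 1
    rw [hS.sy.alt, mul_zero, zero_smul]
    have := hz φ0 hφ0 (s 0) ((hS.ker _).mp (hs 0))
    exact this
  · rw [← hφψ, comm_eq hS hg hhm]
    change φ0 (s (((ω (π c) b * ω (π c) b)⁻¹ * ω ((1 * ω (π c) b) • b) (π c)) • π m0)) ≠ 1
    rw [one_mul, map_smul, LinearMap.smul_apply, smul_eq_mul, hS.sy.symm b (π c), inv_mul_cancel₀ (mul_ne_zero he he),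
      one_smul]
    rw [hfac φ0 hφ0 _ _ (hs _)]
    exact hm0

omit hS hb in
theorem em_inv {j : H} (hj : j ∈ J) {e : M} (he : e ∈ em M J) : j • e ∈ em M J := by
  have h2 : (j • e) * e⁻¹ ∈ em M J := subset_closure ⟨j, hj, e, mem_top _, rfl⟩
  have h3 := mul_mem h2 he
  rwa [inv_mul_cancel_right] at h3

/-- a vector of `em M J` over `x` -/
theorem exists_em (x : B) : ∃ e ∈ em M J, π e = x := by
  obtain ⟨m, hm⟩ := hS.surj x
  have hm' : m ∈ em M J ⊔ zm M J := by rw [hb.cover]; exact mem_top _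
  obtain ⟨e, he, z, hz, rfl⟩ := mem_sup.mp hm'
  exact ⟨e, he, by rw [← hm, hS.add, (hS.ker z).mpr hz, add_zero]⟩

theorem card_lam_le [Finite F] {a : M} (ha : a ∈ lam) (ha1 : a ≠ 1) : Nat.card lam ≤ Nat.card F := by
  choose! μ hμ using fun b (hb' : b ∈ lam) => exists_smul hb hS ha ha1 hb'
  refine Nat.card_le_card_of_injective (fun b : lam => μ b) ?_
  intro b c hbc
  refine Subtype.ext (π_inj hb hS b.2 c.2 ?_)
  rw [hμ b b.2, hμ c c.2]
  have : μ b = μ c := hbc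
  rw [this]

/-- the group of homomorphisms `B → R` coming from `Φ` -/
theorem goodB_aux {R : Type*} [CommGroup R] {Φ : Subgroup (M → R)}
    (hmul : ∀ φ ∈ Φ, ∀ x ∈ em M J, ∀ y ∈ em M J, φ (x * y) = φ x * φ y)
    (hinv : ∀ φ ∈ Φ, ∀ j ∈ J, ∃ ψ ∈ Φ, ∀ x ∈ em M J, ψ x = φ (j • x))
    (hlam : lam ≤ em M J) {a : M} (ha : a ∈ lam) (hnt : ∃ φ ∈ Φ, φ a ≠ 1) :
    ∃ Ψ : Subgroup (B → R), (∀ ψ ∈ Ψ, ∀ x y, ψ (x + y) = ψ x * ψ y) ∧
      (∀ ψ ∈ Ψ, ∃ φ ∈ Φ, ∀ e ∈ em M J, φ e = ψ (π e)) ∧ (∃ ψ ∈ Ψ, ∃ u, ψ u ≠ 1) ∧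
      ∀ ψ ∈ Ψ, ∀ (c : F) (w u : B), (fun x => ψ ((c * ω x w) • u)) ∈ Ψ := by
  classical
  have := blk_charTwo hb hS
  let Ψ : Subgroup (B → R) :=
    { carrier := {ψ | (∀ x y, ψ (x + y) = ψ x * ψ y) ∧ ∃ φ ∈ Φ, ∀ e ∈ em M J, φ e = ψ (π e)}
      one_mem' := ⟨fun _ _ => (mul_one 1).symm, 1, one_mem _, fun _ _ => rfl⟩
      mul_mem' := by
        rintro ψ ψ' ⟨h1, φ, hφ, h2⟩ ⟨h1', φ', hφ', h2'⟩
        exact ⟨fun x y => by rw [Pi.mul_apply, Pi.mul_apply, Pi.mul_apply, h1, h1', mul_mul_mul_comm],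
          φ * φ', mul_mem hφ hφ', fun e he => by rw [Pi.mul_apply, Pi.mul_apply, h2 e he, h2' e he]⟩
      inv_mem' := by
        rintro ψ ⟨h1, φ, hφ, h2⟩
        exact ⟨fun x y => by rw [Pi.inv_apply, Pi.inv_apply, Pi.inv_apply, h1, mul_inv],
          φ⁻¹, inv_mem hφ, fun e he => by rw [Pi.inv_apply, Pi.inv_apply, h2 e he]⟩ }
  have hΨinv : ∀ ψ ∈ Ψ, ∀ u d, (fun x => ψ (tv ω u d x)) ∈ Ψ := by
    rintro ψ ⟨h1, φ, hφ, h2⟩ u d
    obtain ⟨j, hj, hjm⟩ := exists_tv hS u d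
    obtain ⟨φ', hφ', h3⟩ := hinv φ hφ j hj
    refine ⟨fun x y => ?_, φ', hφ', fun e he => ?_⟩
    · change ψ (tv ω u d (x + y)) = ψ (tv ω u d x) * ψ (tv ω u d y)
      rw [map_add, h1]
    · rw [h3 e he, h2 _ (em_inv hj he), hjm]; rfl
  refine ⟨Ψ, fun ψ hψ => hψ.1, fun ψ hψ => hψ.2, ?_, fun ψ hψ c w u =>
    rank_one hS.sy (Ψ := Ψ) (fun ψ hψ => hψ.1) hΨinv hψ c w u⟩
  by_contra htriv
  push Not at htriv
  obtain ⟨φ, hφ, hφa⟩ := hnt
  -- `φ` is `J`-invariant on `em M J`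
  have h1 : ∀ j ∈ J, ∀ e ∈ em M J, φ (j • e) = φ e := by
    intro j hj
    obtain ⟨φ', hφ', h3⟩ := hinv φ hφ j hj
    choose s hsE hsπ using exists_em hb hS
    have hfac : ∀ e ∈ em M J, ∀ e' ∈ em M J, π e = π e' → φ' e * (φ e)⁻¹ = φ' e' * (φ e')⁻¹ := by
      intro e he e' he' hee
      have hz : e * e'⁻¹ ∈ zm M J := (hS.eq_iff _ _).mpr hee
      have hzE : e * e'⁻¹ ∈ em M J := mul_mem he (inv_mem he')
      have e1 : e = (e * e'⁻¹) * e' := by rw [inv_mul_cancel_right]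
      have e2 : φ' e = φ (e * e'⁻¹) * φ' e' := by
        rw [h3 e he, h3 e' he']
        conv_lhs => rw [e1, smul_mul', zfix hz hj]
        exact hmul φ hφ _ hzE _ (em_inv hj he')
      have e3 : φ e = φ (e * e'⁻¹) * φ e' := by
        conv_lhs => rw [e1]
        exact hmul φ hφ _ hzE _ he'
      rw [e2, e3, mul_inv, mul_mul_mul_comm, mul_inv_cancel, one_mul]
    have hψ : (fun x => φ' (s x) * (φ (s x))⁻¹) ∈ Ψ := by
      refine ⟨fun x y => ?_, φ' * φ⁻¹, mul_mem hφ' (inv_mem hφ), fun e he => ?_⟩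
      · change φ' (s (x + y)) * (φ (s (x + y)))⁻¹ = φ' (s x) * (φ (s x))⁻¹ * (φ' (s y) * (φ (s y))⁻¹)
        have e1 := hfac (s (x + y)) (hsE _) (s x * s y) (mul_mem (hsE x) (hsE y)) (by
          rw [hsπ, hS.add, hsπ, hsπ])
        rw [e1, h3 _ (mul_mem (hsE x) (hsE y)), smul_mul',
          hmul φ hφ _ (em_inv hj (hsE x)) _ (em_inv hj (hsE y)), hmul φ hφ _ (hsE x) _ (hsE y),
          ← h3 _ (hsE x), ← h3 _ (hsE y), mul_inv, mul_mul_mul_comm]
      · exact hfac e he (s (π e)) (hsE _) (hsπ _).symm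
    intro e he
    have h4 := htriv _ hψ (π e)
    change φ' (s (π e)) * (φ (s (π e)))⁻¹ = 1 at h4
    rw [hfac (s (π e)) (hsE _) e he (hsπ _), h3 e he] at h4
    exact mul_inv_eq_one.mp h4
  apply hφa
  have h2 : ∀ e ∈ em M J, φ e = 1 := by
    intro e he
    rw [← hb.perf] at he
    have h11 : φ 1 = 1 := by
      have := hmul φ hφ 1 (one_mem _) 1 (one_mem _)
      rw [mul_one] at this
      exact left_eq_mul.mp this
    have : e ∈ em M J ∧ φ e = 1 := by
      induction he using closure_induction with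
      | mem x hx =>
        obtain ⟨j, hj, m, hm, rfl⟩ := hx
        refine ⟨mul_mem (em_inv hj hm) (inv_mem hm), ?_⟩
        have e1 := hmul φ hφ ((j • m) * m⁻¹) (mul_mem (em_inv hj hm) (inv_mem hm)) m hm
        rw [inv_mul_cancel_right, h1 j hj m hm] at e1
        exact right_eq_mul.mp e1
      | one => exact ⟨one_mem _, h11⟩
      | mul x y _ _ hx hy => exact ⟨mul_mem hx.1 hy.1, by rw [hmul φ hφ x hx.1 y hy.1, hx.2, hy.2, one_mul]⟩
      | inv x _ hx =>
        refine ⟨inv_mem hx.1, ?_⟩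
        have e1 := hmul φ hφ x hx.1 x⁻¹ (inv_mem hx.1)
        rw [mul_inv_cancel, h11, hx.2, one_mul] at e1
        exact e1.symm
    exact this.2
  exact h2 a (hlam ha)

/-- `T` acts on `[M, J]` as a subgroup of `J` if `π(lam) = F v` -/
theorem t_linear {a : M} (ha : a ∈ lam) (ha1 : a ≠ 1) (hsurj : ∀ c : F, ∃ a' ∈ lam, π a' = c • π a)
    {t : H} (ht : t ∈ T) (htJ : cj t J = J) : ∃ j ∈ J, ∀ e ∈ em M J, t • e = j • e := by
  classical
  have := blk_charTwo hb hS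
  have hfinM := hb.finM
  have hfinB : Finite B := Finite.of_surjective π hS.surj
  have : FiniteDimensional F B := Module.Finite.of_finite
  have ha0 := π_ne hb hS ha ha1
  have hta : t • a = a := hb.fix t ht a ha
  have hlin : ∀ (c : F) (m n : M), π n = c • π m → π (t • n) = c • π (t • m) := by
    intro c
    obtain ⟨μ, hμ⟩ := semi hS ha0 htJ c
    obtain ⟨a', ha', haa⟩ := hsurj c
    have h1 := hμ a a' haa
    rw [hta, hb.fix t ht a' ha', haa] at h1
    have h2 : μ = c := smul_left_injective F ha0 h1.symm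
    rw [h2] at hμ; exact hμ
  let s : B → M := Function.surjInv hS.surj
  have hs : ∀ x, π (s x) = x := Function.surjInv_eq hS.surj
  let τ : B →ₗ[F] B :=
    { toFun := fun x => π (t • s x)
      map_add' := fun x y => by
        rw [← hS.add, ← smul_mul']
        refine hS.tcongr htJ ?_
        rw [hs, hS.add, hs, hs]
      map_smul' := fun c x => hlin c (s x) (s (c • x)) (by rw [hs, hs]) }
  have hτ : ∀ m : M, π (t • m) = τ (π m) := fun m => hS.tcongr htJ (hs (π m)).symm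
  have hτa : τ (π a) = π a := by rw [← hτ, hta]
  -- relation (*)
  have star : ∀ x y u : B, ω y u * ω (τ x) (τ u) = ω x u * ω (τ y) (τ u) := by
    intro x y u
    obtain ⟨z, hz, hzm⟩ := exists_tv hS u 1
    have ht' := cj_inv htJ
    have hg : t * z * t⁻¹ ∈ J := by
      have h1 := cj_inv_mem ht' hz
      rwa [inv_inv] at h1
    have h1 : ∀ n : M, π ((t * z * t⁻¹) • t • n) = τ (π n) + ω (π n) u • τ u := by
      intro n
      rw [mul_smul, mul_smul, inv_smul_smul, hτ, hzm, one_mul, map_add, map_smul]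
    obtain ⟨m, rfl⟩ := hS.surj x
    obtain ⟨n, rfl⟩ := hS.surj y
    have h2 := hS.iso hg (t • m) (t • n)
    rw [h1, h1, hτ, hτ] at h2
    simp only [map_add, LinearMap.add_apply, map_smul, LinearMap.smul_apply, hS.sy.alt, smul_eq_mul, mul_zero,
      add_zero] at h2
    have h3 : ω (π m) u * ω (τ u) (τ (π n)) + ω (π n) u * ω (τ (π m)) (τ u) = 0 := by
      have h4 : ω (τ (π m)) (τ (π n)) + (ω (π m) u * ω (τ u) (τ (π n)) + ω (π n) u * ω (τ (π m)) (τ u)) =
          ω (τ (π m)) (τ (π n)) := by rw [← add_assoc]; exact h2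
      exact add_eq_left.mp h4
    have h5 := CharTwo.add_eq_zero.mp h3
    rw [← h5, hS.sy.symm (τ u)]
  -- κ
  obtain ⟨y0, hy0⟩ := hS.sy.exists_one ha0
  have hy0' : ω y0 (π a) = 1 := by rw [hS.sy.symm]; exact hy0
  set κ := ω (τ y0) (π a) with hκ
  have h1 : ∀ x, ω (τ x) (π a) = κ * ω x (π a) := by
    intro x
    have := star x y0 (π a)
    rw [hτa, hy0', one_mul] at this
    rw [this, mul_comm]
  have h2 : ∀ n : ℕ, ∀ m : M, ω (π (t ^ n • m)) (π a) = κ ^ n * ω (π m) (π a) := by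
    intro n
    induction n with
    | zero => intro m; rw [pow_zero, one_smul, pow_zero, one_mul]
    | succ n ih => intro m; rw [pow_succ', mul_smul, hτ, h1, ih, pow_succ', mul_assoc]
  have hκ1 : κ = 1 := by
    obtain ⟨k, hk⟩ := hb.two ⟨t, ht⟩
    have hk' : t ^ (2 ^ k) = 1 := congrArg Subtype.val hk
    obtain ⟨m, hm⟩ := hS.surj y0
    have h3 := h2 (2 ^ k) m
    rw [hk', one_smul, hm, hy0', mul_one] at h3
    have key : ∀ k : ℕ, κ ^ (2 ^ k) = 1 → κ = 1 := by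
      intro k
      induction k with
      | zero => intro h; rwa [pow_zero, pow_one] at h
      | succ k ih =>
        intro h
        apply ih
        have h4 : (κ ^ (2 ^ k) + 1) ^ 2 = 0 := by
          rw [CharTwo.add_sq, one_pow, ← pow_mul, ← pow_succ, h]
          exact add_self_F 1
        have h5 := pow_eq_zero_iff (two_ne_zero) |>.mp h4
        exact CharTwo.add_eq_zero.mp h5
    exact key k h3.symm
  have h3 : ∀ x u, ω u (π a) ≠ 0 → ω (τ x) (τ u) = ω x u := by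
    intro x u hu
    have h4 := star x (π a) u
    rw [hτa, hS.sy.symm (π a) (τ u), h1, hκ1, one_mul, hS.sy.symm (π a) u, mul_comm] at h4
    exact mul_right_cancel₀ hu h4
  have hiso : ∀ x u, ω (τ x) (τ u) = ω x u := by
    intro x u
    by_cases hu : ω u (π a) = 0
    · have e1 : ω (τ x) (τ (u + y0)) = ω x (u + y0) := h3 x (u + y0) (by
        rw [map_add, LinearMap.add_apply, hu, hy0', zero_add]; exact one_ne_zero)
      have e2 : ω (τ x) (τ y0) = ω x y0 := h3 x y0 (by rw [hy0']; exact one_ne_zero)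
      rw [map_add, map_add, map_add, e2] at e1
      exact add_right_cancel e1
    · exact h3 x u hu
  have hinj : Function.Injective τ := by
    rw [← LinearMap.ker_eq_bot, LinearMap.ker_eq_bot']
    intro x hx
    refine hS.sy.nd x fun y => ?_
    rw [← hiso, hx, map_zero]; rfl
  obtain ⟨j, hj, hjm⟩ := hS.full (LinearEquiv.ofInjectiveEndo τ hinj) (fun x y => hiso x y)
  refine ⟨j, hj, ?_⟩
  have hjt : ∀ m : M, π (j • m) = π (t • m) := fun m => by rw [hjm, hτ]; rfl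
  set k := j⁻¹ * t with hk
  have hkJ : cj k J = J := by
    rw [hk, ← PT.cj_cj, htJ]
    ext x
    rw [PT.mem_cj]
    constructor
    · intro h
      have := mul_mem (mul_mem (inv_mem hj) h) hj
      rw [inv_inv] at this
      convert this using 1
      group
    · intro h
      rw [inv_inv]
      exact mul_mem (mul_mem hj h) (inv_mem hj)
  have hkm : ∀ m : M, π (k • m) = π m := by
    intro m
    rw [hk, mul_smul]
    have := hS.congr (inv_mem hj) (hjt m)
    rw [inv_smul_smul] at this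
    exact this.symm
  have hkc : ∀ j' ∈ J, k * j' = j' * k := by
    intro j' hj'
    have hkj : k * j' * k⁻¹ ∈ J := by
      have h1 := cj_inv_mem (cj_inv hkJ) hj'
      rwa [inv_inv] at h1
    have h1 : k * j' * k⁻¹ = j' := by
      refine faith' hb hS hkj hj' fun m => ?_
      rw [mul_smul, mul_smul, hkm]
      refine hS.congr hj' ?_
      have := hkm (k⁻¹ • m)
      rw [smul_inv_smul] at this
      exact this.symm
    rw [mul_inv_eq_iff_eq_mul] at h1
    exact h1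
  have hke : ∀ e ∈ em M J, k • e = e := by
    intro e he
    rw [← hb.perf] at he
    induction he using closure_induction with
    | mem x hx =>
      obtain ⟨j', hj', m, hm, rfl⟩ := hx
      have hz : (k • m) * m⁻¹ ∈ zm M J := (hS.eq_iff _ _).mpr (hkm m)
      have h1 := zfix hz hj'
      rw [smul_mul', smul_inv'] at h1
      rw [smul_mul', smul_inv', ← mul_smul, hkc j' hj', mul_smul]
      -- (j' k m) (k m)⁻¹ = (j' m) m⁻¹
      rw [mul_inv_eq_iff_eq_mul] at h1 ⊢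
      rw [h1]
      calc (k • m) * m⁻¹ * (j' • m) = (j' • m) * ((k • m) * m⁻¹) := mul_comm _ _
        _ = (j' • m) * (m⁻¹ * (k • m)) := by rw [mul_comm (k • m)]
        _ = (j' • m) * m⁻¹ * (k • m) := (mul_assoc _ _ _).symm
    | one => rw [smul_one]
    | mul x y _ _ hx hy => rw [smul_mul', hx, hy]
    | inv x _ hx => rw [smul_inv', hx]
  intro e he
  have h1 := hke e he
  rw [hk, mul_smul, inv_smul_eq_iff] at h1
  exact h1

/-- **GoodB** -/
theorem goodB {R : Type*} [CommGroup R] (hR : ∀ r : R, r * r = 1) (hcard : Nat.card R = Nat.card lam)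
    {A : Subgroup H} (hA : ExJ lam A J) {g α : H} (hg : g ∈ J) (hα : α ∈ J)
    (hne : ∀ a ∈ lam, a ≠ 1 → ω (π (α • g • a)) (π (g • a)) ≠ 0) (hlam : lam ≤ em M J)
    (hTJ : ∀ t ∈ T, cj t J = J) : GoodB R T lam A J g α := by
  classical
  have := blk_charTwo hb hS
  have hfinM := hb.finM
  have hfinH := hb.finH
  have hfinB : Finite B := Finite.of_surjective π hS.surj
  intro Φ hmul hinv hnt hTI halt a ha ha1
  have ha0 := π_ne hb hS ha ha1
  have hfinF : Finite F := Finite.of_injective (fun c : F => c • π a) (smul_left_injective F ha0)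
  have hle := card_lam_le hb hS ha ha1
  have hfinR : Finite R := by
    apply Nat.finite_of_card_ne_zero
    rw [hcard]; exact Nat.card_pos.ne'
  obtain ⟨Ψ, hadd, hΨ, ⟨ψ0, hψ0, u0, hu0⟩, hrk⟩ := goodB_aux hb hS hmul hinv hlam ha (hnt a ha ha1)
  have hψ00 : ψ0 0 = 1 := by
    have := hadd ψ0 hψ0 0 0
    rw [add_zero] at this
    exact left_eq_mul.mp this
  have hgaE : g • a ∈ em M J := em_inv hg (hlam ha)
  have hαgaE : α • g • a ∈ em M J := em_inv hα hgaE
  set c := (α • g • a) * (g • a)⁻¹ with hc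
  have hcE : c ∈ em M J := mul_mem hαgaE (inv_mem hgaE)
  set b := π (g • a) with hbdef
  set y := π (α • g • a) with hydef
  have he : ω y b ≠ 0 := hne a ha ha1
  have he' : ω b y ≠ 0 := by rw [hS.sy.symm]; exact he
  have hπc : π c = y - b := by rw [hc, hS.mul_inv]
  have hπcb : ω (π c) b = ω y b := by
    rw [hπc, map_sub, LinearMap.sub_apply, hS.sy.alt, sub_zero]
  have hcomE : ∀ h ∈ oj lam A J, ((g * h * g⁻¹) • c) * c⁻¹ ∈ em M J := by
    intro h hh
    have hhJ := (oj_perp hb hS hA ha ha1 hh).1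
    exact mul_mem (em_inv (mul_mem (mul_mem hg hhJ) (inv_mem hg)) hcE) (inv_mem hcE)
  by_cases hcase : Nat.card R < Nat.card F
  · -- `r > q`
    have : ∃ t1 t2 : F, t1 ≠ t2 ∧ ψ0 (t1 • u0) = ψ0 (t2 • u0) := by
      by_contra h
      push Not at h
      have hinj : Function.Injective (fun t : F => ψ0 (t • u0)) := by
        intro t1 t2 h12
        by_contra hne'
        exact h t1 t2 hne' h12
      exact absurd (Nat.card_le_card_of_injective _ hinj) (not_le.mpr hcase)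
    obtain ⟨t1, t2, ht12, hts⟩ := this
    have ht0 : t1 + t2 ≠ 0 := fun h => ht12 (CharTwo.add_eq_zero.mp h)
    have ht1 : ψ0 ((t1 + t2) • u0) = 1 := by
      rw [add_smul, hadd ψ0 hψ0, hts, ← hadd ψ0 hψ0, add_self_eq (F := F), hψ00]
    set t := t1 + t2 with htdef
    obtain ⟨φ, hφ, hφψ⟩ := hΨ _ (hrk ψ0 hψ0 (ω b y)⁻¹ y (t • u0))
    obtain ⟨h, hh, hhm⟩ := oj_of_tv hb hS hA ha ha1 (t⁻¹ * (ω y b)⁻¹)
    have hval1 : (fun x => ψ0 (((ω b y)⁻¹ * ω x y) • t • u0)) b = 1 := by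
      change ψ0 (((ω b y)⁻¹ * ω b y) • t • u0) = 1
      rw [inv_mul_cancel₀ he', one_smul, ht1]
    have hvaly : (fun x => ψ0 (((ω b y)⁻¹ * ω x y) • t • u0)) y = 1 := by
      change ψ0 (((ω b y)⁻¹ * ω y y) • t • u0) = 1
      rw [hS.sy.alt, mul_zero, zero_smul, hψ00]
    refine ⟨φ, hφ, h, hh, ?_, ?_, ?_⟩
    · rw [hφψ _ hgaE]; exact hval1
    · rw [hc, hmul φ hφ _ hαgaE _ (inv_mem hgaE), hφψ _ hαgaE, hφψ _ (inv_mem hgaE)]
      have e1 : π (g • a)⁻¹ = b := by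
        have := hS.mul_inv 1 (g • a)
        rw [one_mul, hS.one, zero_sub] at this
        rw [this, neg_eq_iff_add_eq_zero, add_self_eq (F := F)]
      rw [e1]
      exact (congrArg₂ (· * ·) hvaly hval1).trans (one_mul 1)
    · rw [hφψ _ (hcomE h hh), comm_eq hS hg hhm]
      change ψ0 (((ω b y)⁻¹ * ω ((t⁻¹ * (ω y b)⁻¹ * ω (π c) b) • b) y) • t • u0) ≠ 1
      rw [hπcb, mul_assoc, inv_mul_cancel₀ he, mul_one, map_smul, LinearMap.smul_apply, smul_eq_mul,
        mul_left_comm, inv_mul_cancel₀ he', mul_one, smul_smul, inv_mul_cancel₀ ht0, one_smul]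
      exact hu0
  -- `r = q`
  have hq : Nat.card F = Nat.card lam := le_antisymm (by rw [← hcard]; exact not_lt.mp hcase) hle
  have hRF : Nat.card F = Nat.card R := by rw [hq, hcard]
  -- all scalars
  have hsurj : ∀ μ : F, ∃ a' ∈ lam, π a' = μ • π a := by
    choose! μ hμ using fun b (hb' : b ∈ lam) => exists_smul hb hS ha ha1 hb'
    have hinj : Function.Injective (fun b : lam => μ b) := by
      intro b1 b2 hbc
      refine Subtype.ext (π_inj hb hS b1.2 b2.2 ?_)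
      rw [hμ b1 b1.2, hμ b2 b2.2]
      have : μ b1 = μ b2 := hbc
      rw [this]
    have hbij := (Nat.bijective_iff_injective_and_card _).mpr ⟨hinj, hq.symm⟩
    intro ν
    obtain ⟨a', ha'⟩ := hbij.2 ν
    exact ⟨a', a'.2, by rw [hμ a' a'.2]; congr 1⟩
  -- uniqueness of `s`
  have huniq : ∀ j ∈ J, ∀ k ∈ J, π (j • a) = π (k • a) → j • a = k • a := by
    intro j hj k hk h
    have h1 : π ((k⁻¹ * j) • a) = π a := by
      rw [mul_smul, hS.congr (inv_mem hk) h, inv_smul_smul]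
    have h2 := stab hb hS ha ha1 (mul_mem (inv_mem hk) hj) h1 a ha
    rw [mul_smul, inv_smul_eq_iff] at h2
    exact h2
  have hex : ∀ x : B, x ≠ 0 → ∃ j ∈ J, π (j • a) = x := fun x hx => exists_one' hS ha0 hx
  choose! jx hjx hjxπ using hex
  let s : B → M := fun x => if x = 0 then 1 else jx x • a
  have hs0 : s 0 = 1 := if_pos rfl
  have hs : ∀ j ∈ J, s (π (j • a)) = j • a := by
    intro j hj
    have h0 : π (j • a) ≠ 0 := by
      intro h
      apply ha0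
      have h1 := hS.congr (inv_mem hj) (h.trans hS.one.symm)
      rw [smul_one, hS.one, inv_smul_smul] at h1
      exact h1
    have h1 : s (π (j • a)) = jx (π (j • a)) • a := if_neg h0
    rw [h1]
    exact huniq _ (hjx _ h0) _ hj (hjxπ _ h0)
  have hs' : ∀ x, x ≠ 0 → ∃ j ∈ J, s x = j • a ∧ π (j • a) = x := by
    intro x hx
    exact ⟨jx x, hjx x hx, if_neg hx, hjxπ x hx⟩
  have hsπ : ∀ x, π (s x) = x := by
    intro x
    by_cases hx : x = 0
    · rw [hx, hs0, hS.one]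
    · obtain ⟨j, hj, h1, h2⟩ := hs' x hx
      rw [h1, h2]
  have hsE : ∀ x, s x ∈ em M J := by
    intro x
    by_cases hx : x = 0
    · rw [hx, hs0]; exact one_mem _
    · obtain ⟨j, hj, h1, h2⟩ := hs' x hx
      rw [h1]; exact em_inv hj (hlam ha)
  have hsj : ∀ j ∈ J, ∀ m : M, j • s (π m) = s (π (j • m)) := by
    intro j hj m
    by_cases hm : π m = 0
    · have h1 := hS.congr hj (hm.trans hS.one.symm)
      rw [smul_one, hS.one] at h1
      rw [hm, h1, hs0, smul_one]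
    · obtain ⟨k, hk, h1, h2⟩ := hs' _ hm
      rw [h1, ← mul_smul, ← hs _ (mul_mem hj hk), mul_smul]
      congr 1
      exact hS.congr hj h2
  -- scalars
  have hscal : ∀ (j : H), j ∈ J → ∀ a' ∈ lam, a' ≠ 1 → s (π (j • a')) = j • a' := by
    intro j hj a' ha' ha'1
    obtain ⟨μ, hμ⟩ := exists_smul hb hS ha ha1 ha'
    have hμ0 : μ ≠ 0 := by
      rintro rfl
      rw [zero_smul] at hμ
      exact π_ne hb hS ha' ha'1 hμ
    obtain ⟨θ, hθ, hθT, hθa⟩ := torus hb hS ha ha1 ha' hμ0 hμ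
    have hθn : θ ∈ normalizer (T : Set H) := by
      refine mem_normalizer_fintype fun t ht => ?_
      have h1 := (hθT t⁻¹ (inv_mem ht) (by
        exact hTJ _ (inv_mem ht))).1
      have h2 := T.mul_mem ht h1
      have h3 : t * (t⁻¹ * θ * t⁻¹⁻¹ * θ⁻¹) = θ * t * θ⁻¹ := by group
      rw [h3] at h2
      exact h2
    have h1 : θ • a = a' := π_inj hb hS (hb.norm θ hθn a ha) ha' (by rw [hθa, hμ])
    rw [← h1, ← mul_smul, hs _ (mul_mem hj hθ)]
  have hTIs : ∀ φ ∈ Φ, ∀ x, φ (s x) = 1 → ∀ μ : F, φ (s (μ • x)) = 1 := by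
    intro φ hφ x hx μ
    by_cases hx0 : x = 0
    · rw [hx0] at hx
      rw [hx0, smul_zero]; exact hx
    obtain ⟨j, hj, h1, h2⟩ := hs' x hx0
    obtain ⟨a', ha', haa⟩ := hsurj μ
    have h3 := hTI φ hφ j hj a ha ha1 (by rw [← h1]; exact hx) a' ha'
    by_cases ha'1 : a' = 1
    · have hμ0 : μ • x = 0 := by
        rw [ha'1, hS.one] at haa
        rcases smul_eq_zero.mp haa.symm with h | h
        · rw [h, zero_smul]
        · exact absurd h ha0
      rw [hμ0, hs0]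
      rw [ha'1, smul_one] at h3
      exact h3
    · have h4 := hscal j hj a' ha' ha'1
      rw [hS.smul_eq hj haa, h2] at h4
      rw [h4]; exact h3
  -- `t ↦ ψ0 (t u0)` is onto
  have hu00 : u0 ≠ 0 := by rintro rfl; exact hu0 hψ00
  have honto : ∀ r : R, ∃ t : F, ψ0 (t • u0) = r := by
    have hinj : Function.Injective (fun t : F => ψ0 (t • u0)) := by
      intro t1 t2 h12
      by_contra ht12
      have ht0 : t1 + t2 ≠ 0 := fun h => ht12 (CharTwo.add_eq_zero.mp h)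
      have ht1 : ψ0 ((t1 + t2) • u0) = 1 := by
        have h12' : ψ0 (t1 • u0) = ψ0 (t2 • u0) := h12
        rw [add_smul, hadd ψ0 hψ0, h12', ← hadd ψ0 hψ0, add_self_eq (F := F), hψ00]
      obtain ⟨φ, hφ, hφψ⟩ := hΨ ψ0 hψ0
      have h1 := hTIs φ hφ ((t1 + t2) • u0) (by rw [hφψ _ (hsE _), hsπ]; exact ht1) (t1 + t2)⁻¹
      rw [smul_smul, inv_mul_cancel₀ ht0, one_smul, hφψ _ (hsE _), hsπ] at h1
      exact hu0 h1
    have hbij := (Nat.bijective_iff_injective_and_card _).mpr ⟨hinj, hRF⟩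
    exact hbij.2
  by_contra hbad
  push Not at hbad
  have hφ1 : ∀ φ ∈ Φ, φ 1 = 1 := by
    intro φ hφ
    have := hmul φ hφ 1 (one_mem _) 1 (one_mem _)
    rw [mul_one] at this
    exact left_eq_mul.mp this
  -- additivity for nonperpendicular pairs
  have hnp : ∀ φ ∈ Φ, ∀ x z, ω x z ≠ 0 → φ (s (x + z)) = φ (s x) * φ (s z) := by
    intro φ hφ x z hxz
    have hzx : ω z x ≠ 0 := by rw [hS.sy.symm]; exact hxz
    obtain ⟨t1, ht1⟩ := honto (φ (s x))
    obtain ⟨t2, ht2⟩ := honto (φ (s z))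
    have hψ1 := hrk ψ0 hψ0 (t1 * (ω x z)⁻¹) z u0
    have hψ2 := hrk ψ0 hψ0 (t2 * (ω z x)⁻¹) x u0
    have hψ12 := mul_mem hψ1 hψ2
    set ψ := (fun w => ψ0 ((t1 * (ω x z)⁻¹ * ω w z) • u0)) * (fun w => ψ0 ((t2 * (ω z x)⁻¹ * ω w x) • u0)) with hψdef
    have hψx : ψ x = φ (s x) := by
      change ψ0 ((t1 * (ω x z)⁻¹ * ω x z) • u0) * ψ0 ((t2 * (ω z x)⁻¹ * ω x x) • u0) = _
      rw [mul_assoc, inv_mul_cancel₀ hxz, mul_one, ht1, hS.sy.alt, mul_zero, zero_smul, hψ00, mul_one]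
    have hψz : ψ z = φ (s z) := by
      change ψ0 ((t1 * (ω x z)⁻¹ * ω z z) • u0) * ψ0 ((t2 * (ω z x)⁻¹ * ω z x) • u0) = _
      rw [mul_assoc, mul_assoc, inv_mul_cancel₀ hzx, mul_one, ht2, hS.sy.alt, mul_zero, mul_zero, zero_smul, hψ00,
        one_mul]
    obtain ⟨φψ, hφψ, hφψE⟩ := hΨ ψ hψ12
    have hφ' : φ * φψ⁻¹ ∈ Φ := mul_mem hφ (inv_mem hφψ)
    have hval : ∀ w, (φ * φψ⁻¹) (s w) = φ (s w) * (ψ w)⁻¹ := by
      intro w
      rw [Pi.mul_apply, Pi.inv_apply, hφψE _ (hsE _), hsπ]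
    have h1 : (φ * φψ⁻¹) (s x) = 1 := by rw [hval, hψx, mul_inv_cancel]
    have h2 : (φ * φψ⁻¹) (s z) = 1 := by rw [hval, hψz, mul_inv_cancel]
    -- move to the pair `(b, y)`
    set μ := ω b y * (ω x z)⁻¹ with hμ
    obtain ⟨mx, hmx⟩ := hS.surj (μ • x)
    obtain ⟨mz, hmz⟩ := hS.surj z
    obtain ⟨j, hj, hj1, hj2⟩ := exists_pair' hS (x := g • a) (y := α • g • a) (x' := mx) (y' := mz) (by
      rw [hmx, hmz, map_smul, LinearMap.smul_apply, smul_eq_mul, hμ, mul_assoc, inv_mul_cancel₀ hxz, mul_one]) he'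
    rw [hmx] at hj1
    rw [hmz] at hj2
    obtain ⟨φ'', hφ'', hφ''E⟩ := hinv _ hφ' j hj
    have h3 : φ'' (g • a) = 1 := by
      rw [hφ''E _ hgaE, ← mul_smul, ← hs _ (mul_mem hj hg), mul_smul, hj1]
      exact hTIs _ hφ' x h1 μ
    have h4 : φ'' (α • g • a) = 1 := by
      rw [hφ''E _ hαgaE, ← mul_smul α g a, ← mul_smul, ← hs _ (mul_mem hj (mul_mem hα hg)), mul_smul, mul_smul, hj2]
      exact h2
    have h5 : φ'' c = 1 := by
      have e1 := hmul φ'' hφ'' c hcE (g • a) hgaE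
      rw [hc, inv_mul_cancel_right, h3, h4, mul_one] at e1
      rw [hc]; exact e1.symm
    obtain ⟨h, hh, hhm⟩ := oj_of_tv hb hS hA ha ha1 ((ω y b)⁻¹ * μ⁻¹)
    have h6 := hbad φ'' hφ'' h hh h3 h5
    obtain ⟨hhJ, hhf, _⟩ := oj_perp hb hS hA ha ha1 hh
    have hkJ : g * h * g⁻¹ ∈ J := mul_mem (mul_mem hg hhJ) (inv_mem hg)
    -- `[c, h'] = (h' α g a) (α g a)⁻¹`
    have h7 : (g * h * g⁻¹) • g • a = g • a := by
      rw [← mul_smul, inv_mul_cancel_right, mul_smul, hhf a ha]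
    have h8 : ((g * h * g⁻¹) • c) * c⁻¹ = ((g * h * g⁻¹) • α • g • a) * (α • g • a)⁻¹ := by
      rw [hc, smul_mul', smul_inv', h7, mul_inv_rev, inv_inv, mul_assoc, ← mul_assoc (g • a)⁻¹, inv_mul_cancel,
        one_mul]
    have h9 : φ'' ((g * h * g⁻¹) • α • g • a) = 1 := by
      have e1 := hmul φ'' hφ'' (((g * h * g⁻¹) • c) * c⁻¹) (hcomE h hh) (α • g • a) hαgaE
      rw [h6, h4, one_mul, h8, inv_mul_cancel_right] at e1
      exact e1
    have h10 : (φ * φψ⁻¹) (s (x + z)) = 1 := by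
      rw [hφ''E _ (em_inv hkJ hαgaE)] at h9
      have e1 : j • (g * h * g⁻¹) • α • g • a = (j * (g * h * g⁻¹) * α * g) • a := by
        simp only [mul_smul]
      rw [e1, ← hs _ (mul_mem (mul_mem (mul_mem hj hkJ) hα) hg), ← e1] at h9
      have e2 : π (j • (g * h * g⁻¹) • α • g • a) = x + z := by
        have e3 := conj_tv hS hg hhm (α • g • a)
        obtain ⟨k, hk⟩ := hS.surj (((ω y b)⁻¹ * μ⁻¹ * ω y b) • b)
        have e4 : π ((g * h * g⁻¹) • α • g • a) = π (α • g • a) + π k := by rw [e3, hk]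
        have e5 := hS.add_eq hj e4
        have hμ0 : μ ≠ 0 := mul_ne_zero he' (inv_ne_zero hxz)
        rw [e5, hj2, hS.smul_eq hj hk, hj1, smul_smul]
        have e6 : (ω y b)⁻¹ * μ⁻¹ * ω y b * μ = 1 := by field_simp
        rw [e6, one_smul, add_comm]
      rw [e2] at h9
      exact h9
    rw [hval, hadd ψ hψ12, hψx, hψz] at h10
    exact mul_inv_eq_one.mp h10
  have hadd' : ∀ φ ∈ Φ, ∀ x z, φ (s (x + z)) = φ (s x) * φ (s z) := by
    intro φ hφ
    refine additive_of_nonperp hS.sy (exists_four hb hS) (fun x => φ (s x)) (by rw [hs0, hφ1 φ hφ]) (fun x => hR _) (hnp φ hφ)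
  have hE : ∀ φ ∈ Φ, ∀ e ∈ em M J, φ e = φ (s (π e)) := by
    intro φ hφ e he
    rw [← hb.perf] at he
    have hinv1 : ∀ x ∈ em M J, φ x⁻¹ = (φ x)⁻¹ := by
      intro x hx
      have e1 := hmul φ hφ x hx x⁻¹ (inv_mem hx)
      rw [mul_inv_cancel, hφ1 φ hφ] at e1
      exact (inv_eq_of_mul_eq_one_right e1.symm).symm
    have : e ∈ em M J ∧ φ e = φ (s (π e)) := by
      induction he using closure_induction with
      | mem x hx =>
        obtain ⟨j, hj, m, hm, rfl⟩ := hx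
        have hjm := em_inv hj hm
        refine ⟨mul_mem hjm (inv_mem hm), ?_⟩
        have hz : m * (s (π m))⁻¹ ∈ zm M J := by rw [hS.eq_iff, hsπ]
        have hzE : m * (s (π m))⁻¹ ∈ em M J := mul_mem hm (inv_mem (hsE _))
        have e1 : φ m = φ (m * (s (π m))⁻¹) * φ (s (π m)) := by
          rw [← hmul φ hφ _ hzE _ (hsE _), inv_mul_cancel_right]
        have e2 : φ (j • m) = φ (m * (s (π m))⁻¹) * φ (s (π (j • m))) := by
          rw [← hmul φ hφ _ hzE _ (hsE _), ← hsj j hj m]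
          congr 1
          have e3 := zfix hz hj
          rw [← e3, smul_mul', smul_inv', inv_mul_cancel_right]
        have e4 : φ (s (π (j • m))) = φ (s (π ((j • m) * m⁻¹))) * φ (s (π m)) := by
          rw [← hadd' φ hφ, ← hS.add, inv_mul_cancel_right]
        rw [hmul φ hφ _ hjm _ (inv_mem hm), hinv1 m hm, e2, e1, e4, mul_left_comm, mul_inv_cancel_right]
      | one => exact ⟨one_mem _, by rw [hS.one, hs0]⟩
      | mul x z _ _ hx hz =>
        exact ⟨mul_mem hx.1 hz.1, by rw [hmul φ hφ _ hx.1 _ hz.1, hS.add, hadd' φ hφ, hx.2, hz.2]⟩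
      | inv x _ hx =>
        refine ⟨inv_mem hx.1, ?_⟩
        have e1 : π x⁻¹ = π x := by
          have := hS.mul_inv 1 x
          rw [one_mul, hS.one, zero_sub] at this
          rw [this, neg_eq_iff_add_eq_zero, add_self_eq (F := F)]
        rw [hinv1 x hx.1, hx.2, e1]
        exact inv_eq_of_mul_eq_one_right (hR _)
    exact this.2
  rcases halt with ⟨φ, hφ, e, he, hφe⟩ | halt
  · apply hφe
    rw [hE φ hφ e he.1, (hS.ker e).mpr he.2, hs0, hφ1 φ hφ]
  · exact halt fun t ht => t_linear hb hS ha ha1 hsurj ht (hTJ t ht)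

/-- **good** -/
theorem kgood {R : Type*} [CommGroup R] (hR : ∀ r : R, r * r = 1) (hcard : Nat.card R = Nat.card lam)
    {A : Subgroup H} (hA : ExJ lam A J) : KGood R T lam A J := by
  classical
  have := blk_charTwo hb hS
  obtain ⟨a, ha, ha1⟩ := exists_ne_one hb.four
  have ha0 := π_ne hb hS ha ha1
  obtain ⟨u, hu⟩ := hS.sy.exists_one ha0
  have hu0 : u ≠ 0 := by
    rintro rfl
    rw [map_zero] at hu
    exact zero_ne_one hu
  obtain ⟨g, hg, hgu⟩ := exists_one' hS ha0 hu0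
  -- for all elements of `lam`
  have hall : ∀ a' ∈ lam, a' ≠ 1 → ω (π (g • a')) (π a') ≠ 0 ∧ ∃ μ : F, μ ≠ 0 ∧ π a' = μ • π a := by
    intro a' ha' ha'1
    obtain ⟨μ, hμ⟩ := exists_smul hb hS ha ha1 ha'
    have hμ0 : μ ≠ 0 := by
      rintro rfl
      rw [zero_smul] at hμ
      exact π_ne hb hS ha' ha'1 hμ
    refine ⟨?_, μ, hμ0, hμ⟩
    rw [hS.smul_eq hg hμ, hμ, hgu, map_smul, map_smul, LinearMap.smul_apply, smul_eq_mul, smul_eq_mul,
      hS.sy.symm u, hu, mul_one]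
    exact mul_ne_zero hμ0 hμ0
  -- the transvections
  have htv : ∀ z : H, z ∈ J → ∀ d : F, d ≠ 0 → (∀ m : M, π (z • m) = π m + (d * ω (π m) (π a)) • π a) →
      ∀ β ∈ J, (∀ m : M, ω (π (β • m)) (π a) = ω (π m) (π a)) →
      ω (π ((z * β) • g • a)) (π (g • a)) = ω (π (β • g • a)) (π (g • a)) + d * ω u (π a) * ω (π a) u := by
    intro z hz d hd hzm β hβ hβa
    rw [mul_smul, hzm, map_add, LinearMap.add_apply, map_smul, LinearMap.smul_apply, hβa, smul_eq_mul, hgu]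
  have hgood : ∀ β ∈ A ⊓ J, ω (π (β • g • a)) (π (g • a)) ≠ 0 →
      β ∈ {α | α ∈ A ⊓ J ∧ ((∀ a ∈ lam, (α • g • a) * (g • a)⁻¹ ∈ zm M J) ∨
        (GoodA R lam A J g α ∧ (A ≤ J → lam ≤ em M J → tm M J ≠ ⊥ → (∀ t ∈ T, cj t J = J) →
          GoodB R T lam A J g α)))} := by
    intro β hβ hβne
    have hne : ∀ a' ∈ lam, a' ≠ 1 → ω (π (β • g • a')) (π (g • a')) ≠ 0 := by
      intro a' ha' ha'1
      obtain ⟨_, μ, hμ0, hμ⟩ := hall a' ha' ha'1
      have e1 := hS.smul_eq hg hμ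
      have e2 := hS.smul_eq hβ.2 e1
      rw [e1, e2, map_smul, map_smul, LinearMap.smul_apply, smul_eq_mul, smul_eq_mul]
      exact mul_ne_zero hμ0 (mul_ne_zero hμ0 hβne)
    exact ⟨hβ, Or.inr ⟨goodA hb hS hA hg hne, fun _ hlam _ hTJ => goodB hb hS hR hcard hA hg hβ.2 hne hlam hTJ⟩⟩
  have hua : ω u (π a) = 1 := by rw [hS.sy.symm]; exact hu
  obtain ⟨z, hz, hzm⟩ := exists_tv hS (π a) 1
  have hzA := tv_mem hb hS hA ha ha1 hz hzm
  have hfa : ∀ β ∈ A ⊓ J, ∀ m : M, ω (π (β • m)) (π a) = ω (π m) (π a) := by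
    intro β hβ m
    have h1 := hS.iso hβ.2 m a
    rw [hA.fix β hβ a ha] at h1
    exact h1
  have hz1 : ω (π (z • g • a)) (π (g • a)) ≠ 0 := by
    have h1 := htv z hz 1 one_ne_zero hzm 1 (one_mem _) (fun m => by rw [one_smul])
    rw [mul_one, one_smul, hS.sy.alt, zero_add, hua, hu, one_mul, one_mul] at h1
    rw [h1]; exact one_ne_zero
  refine ⟨g, hg, ?_, ?_⟩
  · intro a' ha' ha'1
    refine ⟨z, hzA, fun hcon => ?_⟩
    obtain ⟨_, μ, hμ0, hμ⟩ := hall a' ha' ha'1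
    have e1 := hS.smul_eq hg hμ
    have e2 := hS.smul_eq hz e1
    rw [hS.eq_iff, e1, e2] at hcon
    have h1 : π (z • g • a) = π (g • a) := smul_right_injective B hμ0 hcon
    rw [h1] at hz1
    exact hz1 (hS.sy.alt _)
  · intro β hβ
    by_cases hβne : ω (π (β • g • a)) (π (g • a)) = 0
    · have h1 : z * β ∈ A ⊓ J := mul_mem hzA hβ
      have h2 := htv z hz 1 one_ne_zero hzm β hβ.2 (hfa β hβ)
      rw [hβne, zero_add, hua, hu, one_mul, one_mul] at h2
      have h3 := mul_mem (inv_mem (subset_closure (hgood z hzA hz1)))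
        (subset_closure (hgood _ h1 (by rw [h2]; exact one_ne_zero)))
      rwa [inv_mul_cancel_left] at h3
    · exact subset_closure (hgood β hβ hβne)

omit hb in
/-- **K-facts for a symplectic block** (any dimension `≥ 2`; `SL₂(F)` included). -/
theorem kfacts_symp {R : Type*} [CommGroup R] (hR : ∀ r : R, r * r = 1) (hcard : Nat.card R = Nat.card lam) :
    KFacts R T lam J where
  tor hb := ktor hb hS
  gens _ hb hA := kgens hb hS hA
  meets _ hb hA := kmeets hb hS hA (exists_four hb hS)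
  trans _ hb _ := ktrans hb hS
  good _ hb hA := kgood hb hS hR hcard hA

omit hb hS in
/-- **K-facts for `Sp(B)`.** -/
theorem kfacts_sp {R : Type*} [CommGroup R] (hR : ∀ r : R, r * r = 1) (hcard : Nat.card R = Nat.card lam)
    (hB : IsSp F B ω J π) : KFacts R T lam J := kfacts_symp (IsSymp.of hB) hR hcard

end Cfsg.Agent.Omega.NO3S.FarQ.KSp
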