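import Mathlib

/-!
# FarQ, K-facts for `Sp`: linear algebra of a nondegenerate alternating form in characteristic 2

* `tv`, `tvE` : transvections; `hy`, `hyE` : hyperbolic rotations;
* `exists_pair` : transitivity of the group generated by the transvections with centre in `X` on hyperbolic pairs
  of `X`; `mem_NX` : this group contains every isometry `g` with `(g - 1) B ≤ X`;
* `exists_scalar` : an additive map commuting with all transvections is a scalar;
* `exists_smul_of_perp` : `(v^⊥)^⊥ = F v`; `additive_of_nonperp` : third vector lemma.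
-/

set_option autoImplicit false

namespace Cfsg.Agent.Omega.NO3S.FarQ.SpLin

variable {F B : Type*} [Field F] [AddCommGroup B] [Module F B] {ω : LinearMap.BilinForm F B}

/-- `ω` is alternating and nondegenerate -/
structure Sy (ω : LinearMap.BilinForm F B) : Prop where
  alt : ∀ x, ω x x = 0
  nd : ∀ x, (∀ y, ω x y = 0) → x = 0

theorem add_self_eq [CharP F 2] (x : B) : x + x = 0 := by
  have h := two_smul F x
  rw [CharTwo.two_eq_zero, zero_smul] at h
  exact h.symm

theorem add_self_F [CharP F 2] (x : F) : x + x = 0 := CharTwo.add_self_eq_zero x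

theorem Sy.symm [CharP F 2] (hs : Sy ω) (x y : B) : ω x y = ω y x := by
  have h := hs.alt (x + y)
  simp only [map_add, LinearMap.add_apply, hs.alt x, hs.alt y, zero_add, add_zero] at h
  first
    | exact CharTwo.add_eq_zero.mp h
    | exact (CharTwo.add_eq_zero.mp h).symm

theorem Sy.exists_ne (hs : Sy ω) {x : B} (hx : x ≠ 0) : ∃ y, ω x y ≠ 0 := by
  by_contra h
  push Not at h
  exact hx (hs.nd x h)

theorem Sy.exists_one (hs : Sy ω) {x : B} (hx : x ≠ 0) : ∃ y, ω x y = 1 := by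
  obtain ⟨y, hy⟩ := hs.exists_ne hx
  exact ⟨(ω x y)⁻¹ • y, by rw [map_smul, smul_eq_mul, inv_mul_cancel₀ hy]⟩

/-! ### Transvections -/

variable (ω) in
/-- `x ↦ x + d ω(x, u) u` -/
def tv (u : B) (d : F) : B →ₗ[F] B where
  toFun x := x + (d * ω x u) • u
  map_add' x y := by
    rw [map_add, LinearMap.add_apply, mul_add, add_smul]; abel
  map_smul' c x := by
    rw [map_smul, LinearMap.smul_apply, smul_eq_mul, RingHom.id_apply, smul_add, smul_smul]
    congr 2; ring

theorem tv_apply (u : B) (d : F) (x : B) : tv ω u d x = x + (d * ω x u) • u := rfl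

theorem tv_tv [CharP F 2] (hs : Sy ω) (u : B) (d : F) (x : B) : tv ω u d (tv ω u d x) = x := by
  rw [tv_apply, tv_apply, map_add, LinearMap.add_apply, map_smul, LinearMap.smul_apply, hs.alt u, smul_zero,
    add_zero, add_assoc, add_self_eq (F := F), add_zero]

theorem tv_iso [CharP F 2] (hs : Sy ω) (u : B) (d : F) (x y : B) : ω (tv ω u d x) (tv ω u d y) = ω x y := by
  simp only [tv_apply, map_add, LinearMap.add_apply, map_smul, LinearMap.smul_apply, smul_eq_mul, hs.alt u,
    mul_zero, add_zero]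
  rw [hs.symm u y, add_assoc]
  have : d * ω y u * ω x u + d * ω x u * ω y u = 0 := by
    rw [show d * ω y u * ω x u = d * ω x u * ω y u by ring]; exact add_self_F _
  rw [add_comm (d * ω x u * ω y u)] at *
  rw [this, add_zero]

/-- the transvection as an equivalence -/
def tvE [CharP F 2] (hs : Sy ω) (u : B) (d : F) : B ≃ₗ[F] B :=
  LinearEquiv.ofInvolutive (tv ω u d) (fun x => tv_tv hs u d x)

theorem tvE_apply [CharP F 2] (hs : Sy ω) (u : B) (d : F) (x : B) : tvE hs u d x = x + (d * ω x u) • u := rfl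

theorem tvE_iso [CharP F 2] (hs : Sy ω) (u : B) (d : F) (x y : B) : ω (tvE hs u d x) (tvE hs u d y) = ω x y :=
  tv_iso hs u d x y

/-! ### Hyperbolic rotations -/

variable (ω) in
/-- `v ↦ c v`, `f ↦ c⁻¹ f`, trivial on `{v, f}^⊥` -/
def hy (v f : B) (c : F) : B →ₗ[F] B where
  toFun x := x + ((c + 1) * ω x f) • v + ((c⁻¹ + 1) * ω x v) • f
  map_add' x y := by
    rw [map_add, LinearMap.add_apply, LinearMap.add_apply, mul_add, mul_add, add_smul, add_smul]; abel
  map_smul' a x := by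
    rw [map_smul, LinearMap.smul_apply, LinearMap.smul_apply, smul_eq_mul, smul_eq_mul, RingHom.id_apply,
      smul_add, smul_add, smul_smul, smul_smul]
    rw [show (c + 1) * (a * ω x f) = a * ((c + 1) * ω x f) by ring,
      show (c⁻¹ + 1) * (a * ω x v) = a * ((c⁻¹ + 1) * ω x v) by ring]

theorem hy_apply (v f : B) (c : F) (x : B) :
    hy ω v f c x = x + ((c + 1) * ω x f) • v + ((c⁻¹ + 1) * ω x v) • f := rfl

theorem hy_form [CharP F 2] (hs : Sy ω) {v f : B} (h : ω v f = 1) {c : F} (x : B) :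
    ω (hy ω v f c x) f = c * ω x f ∧ ω (hy ω v f c x) v = c⁻¹ * ω x v := by
  have h' : ω f v = 1 := by rw [hs.symm]; exact h
  constructor
  · rw [hy_apply, map_add, map_add, LinearMap.add_apply, LinearMap.add_apply, map_smul, map_smul,
      LinearMap.smul_apply, LinearMap.smul_apply, h, hs.alt f, smul_eq_mul, smul_zero, mul_one, add_zero]
    have := add_self_F (ω x f)
    linear_combination this
  · rw [hy_apply, map_add, map_add, LinearMap.add_apply, LinearMap.add_apply, map_smul, map_smul,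
      LinearMap.smul_apply, LinearMap.smul_apply, h', hs.alt v, smul_eq_mul, smul_eq_mul, mul_zero, mul_one,
      add_zero]
    have := add_self_F (ω x v)
    linear_combination this

theorem hy_hy [CharP F 2] (hs : Sy ω) {v f : B} (h : ω v f = 1) {c : F} (hc : c ≠ 0) (x : B) :
    hy ω v f c⁻¹ (hy ω v f c x) = x := by
  rw [hy_apply v f c⁻¹, (hy_form hs h x).1, (hy_form hs h x).2, hy_apply, inv_inv]
  have e1 : (c⁻¹ + 1) * (c * ω x f) = (c + 1) * ω x f := by
    field_simp; ring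
  have e2 : (c + 1) * (c⁻¹ * ω x v) = (c⁻¹ + 1) * ω x v := by
    field_simp; ring
  rw [e1, e2]
  have h1 := add_self_eq (F := F) (((c + 1) * ω x f) • v)
  have h2 := add_self_eq (F := F) (((c⁻¹ + 1) * ω x v) • f)
  calc x + ((c + 1) * ω x f) • v + ((c⁻¹ + 1) * ω x v) • f + ((c + 1) * ω x f) • v + ((c⁻¹ + 1) * ω x v) • f
      = x + (((c + 1) * ω x f) • v + ((c + 1) * ω x f) • v)
        + (((c⁻¹ + 1) * ω x v) • f + ((c⁻¹ + 1) * ω x v) • f) := by abel
    _ = x := by rw [h1, h2, add_zero, add_zero]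

theorem hy_iso [CharP F 2] (hs : Sy ω) {v f : B} (h : ω v f = 1) {c : F} (hc : c ≠ 0) (x y : B) :
    ω (hy ω v f c x) (hy ω v f c y) = ω x y := by
  have hf := (hy_form hs h (c := c) x).1
  have hv := (hy_form hs h (c := c) x).2
  conv_lhs => rw [hy_apply v f c y]
  rw [map_add, map_add, map_smul, map_smul, hf, hv, smul_eq_mul, smul_eq_mul, hy_apply]
  simp only [map_add, LinearMap.add_apply, map_smul, LinearMap.smul_apply, smul_eq_mul]
  rw [hs.symm v y, hs.symm f y]
  have h1 := add_self_F (c * ω x f * ω y v)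
  have h2 := add_self_F (c * ω x v * ω y f)
  have h3 := add_self_F (c⁻¹ * ω x v * ω y f)
  have h4 := add_self_F (ω x f * ω y v)
  have h5 := add_self_F (ω x v * ω y f)
  have h6 : c * c⁻¹ = 1 := mul_inv_cancel₀ hc
  linear_combination h1 + h3 + (ω x f * ω y v + ω x v * ω y f) * h6 + h4 + h5

/-- the hyperbolic rotation as an equivalence -/
def hyE [CharP F 2] (hs : Sy ω) {v f : B} (h : ω v f = 1) {c : F} (hc : c ≠ 0) : B ≃ₗ[F] B :=
  LinearEquiv.ofLinearMap (hy ω v f c) (hy ω v f c⁻¹)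
    (by
      ext x
      have := hy_hy hs h (inv_ne_zero hc) x
      rw [inv_inv] at this
      exact this)
    (by ext x; exact hy_hy hs h hc x)

theorem hyE_apply [CharP F 2] (hs : Sy ω) {v f : B} (h : ω v f = 1) {c : F} (hc : c ≠ 0) (x : B) :
    hyE hs h hc x = hy ω v f c x := rfl

/-! ### Perp -/

theorem exists_smul_of_perp (hs : Sy ω) {v x : B} (hv : v ≠ 0)
    (h : ∀ u, ω v u = 0 → ω x u = 0) : ∃ μ : F, x = μ • v := by
  obtain ⟨f, hf⟩ := hs.exists_one hv
  refine ⟨ω x f, ?_⟩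
  rw [← sub_eq_zero]
  apply hs.nd
  intro u
  have h1 : ω v (u - ω v u • f) = 0 := by
    rw [map_sub, map_smul, hf, smul_eq_mul, mul_one, sub_self]
  have h2 := h _ h1
  rw [map_sub, map_smul, smul_eq_mul, sub_eq_zero] at h2
  rw [map_sub, LinearMap.sub_apply, map_smul, LinearMap.smul_apply, smul_eq_mul, h2]
  ring

/-- **Third vector lemma**. -/
theorem additive_of_nonperp [CharP F 2] (hs : Sy ω) (hF : ∃ μ : F, μ ≠ 0 ∧ μ ≠ 1) {R : Type*} [CommGroup R]
    (s : B → R) (h0 : s 0 = 1) (hsq : ∀ x, s x * s x = 1)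
    (h : ∀ x y, ω x y ≠ 0 → s (x + y) = s x * s y) (x y : B) : s (x + y) = s x * s y := by
  by_cases hp : ω x y = 0
  swap
  · exact h _ _ hp
  by_cases hx : x = 0
  · rw [hx, zero_add, h0, one_mul]
  by_cases hy : y = 0
  · rw [hy, add_zero, h0, mul_one]
  by_cases hxy : x = y
  · rw [hxy, add_self_eq (F := F), h0, hsq]
  have key : ∃ z, ω x z ≠ 0 ∧ ω y z ≠ 0 ∧ ω (x + y) z ≠ 0 := by
    obtain ⟨c, hc0, hc1⟩ := hF
    have hc1' : 1 + c ≠ 0 := by
      intro h1
      exact hc1 (CharTwo.add_eq_zero.mp h1).symm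
    by_cases hyx : ∃ μ : F, y = μ • x
    · obtain ⟨μ, rfl⟩ := hyx
      obtain ⟨z, hz⟩ := hs.exists_one hx
      have hμ0 : μ ≠ 0 := by rintro rfl; exact hy (zero_smul _ _)
      have hμ1 : 1 + μ ≠ 0 := by
        intro h1
        have : μ = 1 := (CharTwo.add_eq_zero.mp h1).symm
        exact hxy (by rw [this, one_smul])
      refine ⟨z, by rw [hz]; exact one_ne_zero, ?_, ?_⟩
      · rw [map_smul, LinearMap.smul_apply, hz, smul_eq_mul, mul_one]; exact hμ0
      · rw [map_add, LinearMap.add_apply, map_smul, LinearMap.smul_apply, hz, smul_eq_mul, mul_one]; exact hμ1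
    · have h1 : ∃ z, ω x z = 0 ∧ ω y z ≠ 0 := by
        by_contra hc
        push Not at hc
        exact hyx (exists_smul_of_perp hs hx hc)
      have h2 : ∃ z, ω y z = 0 ∧ ω x z ≠ 0 := by
        by_contra hc
        push Not at hc
        obtain ⟨μ, hμ⟩ := exists_smul_of_perp hs hy hc
        have hμ0 : μ ≠ 0 := by rintro rfl; exact hx (by rw [hμ, zero_smul])
        exact hyx ⟨μ⁻¹, by rw [hμ, smul_smul, inv_mul_cancel₀ hμ0, one_smul]⟩
      obtain ⟨z2, hz2x, hz2y⟩ := h1
      obtain ⟨z1, hz1y, hz1x⟩ := h2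
      refine ⟨(ω x z1)⁻¹ • z1 + (c * (ω y z2)⁻¹) • z2, ?_, ?_, ?_⟩
      · simp only [map_add, map_smul, smul_eq_mul, hz2x, mul_zero, add_zero, inv_mul_cancel₀ hz1x]
        exact one_ne_zero
      · simp only [map_add, map_smul, smul_eq_mul, hz1y, mul_zero, zero_add, mul_assoc, inv_mul_cancel₀ hz2y,
          mul_one]
        exact hc0
      · simp only [map_add, LinearMap.add_apply, map_smul, smul_eq_mul, hz1y, hz2x, zero_add, add_zero,
          mul_assoc, inv_mul_cancel₀ hz2y, inv_mul_cancel₀ hz1x, mul_one]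
        exact hc1'
  obtain ⟨z, hxz, hyz, hxyz⟩ := key
  have e1 := h (x + y) z hxyz
  have e2 : s (y + z) = s y * s z := h y z hyz
  have e3 : s (x + (y + z)) = s x * s (y + z) := h _ _ (by rw [map_add, hp, zero_add]; exact hxz)
  rw [add_assoc] at e1
  rw [e3, e2, ← mul_assoc] at e1
  exact (mul_right_cancel e1).symm

/-! ### Transitivity and generation -/

/-- the group generated by the transvections with centre in `X` -/
def NX [CharP F 2] (hs : Sy ω) (X : Submodule F B) : Subgroup (B ≃ₗ[F] B) :=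
  Subgroup.closure {f | ∃ u ∈ X, ∃ d : F, f = tvE hs u d}

theorem tvE_mem_NX [CharP F 2] (hs : Sy ω) {X : Submodule F B} {u : B} (hu : u ∈ X) (d : F) :
    tvE hs u d ∈ NX hs X := Subgroup.subset_closure ⟨u, hu, d, rfl⟩

theorem NX_iso [CharP F 2] (hs : Sy ω) {X : Submodule F B} {n : B ≃ₗ[F] B} (hn : n ∈ NX hs X) :
    ∀ x y, ω (n x) (n y) = ω x y := by
  induction hn using Subgroup.closure_induction with
  | mem f hf =>
    obtain ⟨u, _, d, rfl⟩ := hf
    exact tvE_iso hs u d
  | one => intro x y; rfl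
  | mul a b _ _ ha hb =>
    intro x y
    rw [LinearEquiv.mul_apply, LinearEquiv.mul_apply, ha, hb]
  | inv a _ ha =>
    intro x y
    rw [← ha (a⁻¹ x) (a⁻¹ y)]
    change ω (a (a.symm x)) (a (a.symm y)) = _
    rw [a.apply_symm_apply, a.apply_symm_apply]

theorem NX_sub [CharP F 2] (hs : Sy ω) {X : Submodule F B} {n : B ≃ₗ[F] B} (hn : n ∈ NX hs X) :
    ∀ x, n x + x ∈ X := by
  induction hn using Subgroup.closure_induction with
  | mem f hf =>
    obtain ⟨u, hu, d, rfl⟩ := hf
    intro x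
    rw [tvE_apply, add_comm x, add_assoc, add_self_eq (F := F), add_zero]
    exact X.smul_mem _ hu
  | one => intro x; change x + x ∈ X; rw [add_self_eq (F := F)]; exact X.zero_mem
  | mul a b _ _ ha hb =>
    intro x
    rw [LinearEquiv.mul_apply]
    have := X.add_mem (ha (b x)) (hb x)
    rwa [add_assoc, ← add_assoc (b x), add_self_eq (F := F), zero_add] at this
  | inv a _ ha =>
    intro x
    have := ha (a⁻¹ x)
    change a (a.symm x) + a.symm x ∈ X at this
    rw [a.apply_symm_apply, add_comm] at this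
    exact this

theorem NX_mem [CharP F 2] (hs : Sy ω) {X : Submodule F B} {n : B ≃ₗ[F] B} (hn : n ∈ NX hs X) {x : B}
    (hx : x ∈ X) : n x ∈ X := by
  have := X.add_mem (NX_sub hs hn x) hx
  rwa [add_assoc, add_self_eq (F := F), add_zero] at this

/-- transitivity on vectors -/
theorem exists_one [CharP F 2] (hs : Sy ω) {X : Submodule F B}
    (hD : ∀ x ∈ X, x ≠ 0 → ∃ y ∈ X, ω x y ≠ 0) {e' e : B} (he' : e' ∈ X) (he : e ∈ X) (he'0 : e' ≠ 0)
    (he0 : e ≠ 0) : ∃ n ∈ NX hs X, n e' = e := by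
  have key : ∀ e' e : B, e' ∈ X → e ∈ X → ω e' e ≠ 0 → ∃ n ∈ NX hs X, n e' = e := by
    intro e' e he' he hne
    refine ⟨tvE hs (e' + e) (ω e' e)⁻¹, tvE_mem_NX hs (X.add_mem he' he) _, ?_⟩
    rw [tvE_apply, map_add, hs.alt, zero_add, inv_mul_cancel₀ hne, one_smul, ← add_assoc, add_self_eq (F := F),
      zero_add]
  by_cases hne : ω e' e = 0
  swap
  · exact key e' e he' he hne
  have : ∃ h ∈ X, ω e' h ≠ 0 ∧ ω e h ≠ 0 := by
    obtain ⟨h1, hX1, hh1⟩ := hD e' he' he'0
    obtain ⟨h2, hX2, hh2⟩ := hD e he he0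
    by_cases c1 : ω e h1 = 0
    · by_cases c2 : ω e' h2 = 0
      · refine ⟨h1 + h2, X.add_mem hX1 hX2, ?_, ?_⟩
        · rw [map_add, c2, add_zero]; exact hh1
        · rw [map_add, c1, zero_add]; exact hh2
      · exact ⟨h2, hX2, c2, hh2⟩
    · exact ⟨h1, hX1, hh1, c1⟩
  obtain ⟨h, hX, h1, h2⟩ := this
  obtain ⟨n1, hn1, e1⟩ := key e' h he' hX h1
  obtain ⟨n2, hn2, e2⟩ := key h e hX he (by rw [hs.symm]; exact h2)
  exact ⟨n2 * n1, mul_mem hn2 hn1, by rw [LinearEquiv.mul_apply, e1, e2]⟩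

theorem exists_two [CharP F 2] (hs : Sy ω) {X : Submodule F B} {e f' f : B} (he : e ∈ X) (hf' : f' ∈ X)
    (hf : f ∈ X) (h0 : ω e f ≠ 0) (h : ω e f' = ω e f) : ∃ n ∈ NX hs X, n e = e ∧ n f' = f := by
  have key : ∀ f' f : B, f' ∈ X → f ∈ X → ω f' f ≠ 0 → ω e f' = ω e f → ∃ n ∈ NX hs X, n e = e ∧ n f' = f := by
    intro f' f hf' hf hne heq
    refine ⟨tvE hs (f' + f) (ω f' f)⁻¹, tvE_mem_NX hs (X.add_mem hf' hf) _, ?_, ?_⟩
    · rw [tvE_apply, map_add, heq, add_self_F, mul_zero, zero_smul, add_zero]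
    · rw [tvE_apply, map_add, hs.alt, zero_add, inv_mul_cancel₀ hne, one_smul, ← add_assoc, add_self_eq (F := F),
        zero_add]
  by_cases hne : ω f' f = 0
  swap
  · exact key f' f hf' hf hne h
  obtain ⟨n1, hn1, a1, b1⟩ := key f' (f' + e) hf' (X.add_mem hf' he)
    (by rw [map_add, hs.alt, zero_add, hs.symm, h]; exact h0) (by rw [map_add, hs.alt, add_zero])
  obtain ⟨n2, hn2, a2, b2⟩ := key (f' + e) f (X.add_mem hf' he) hf
    (by rw [map_add, LinearMap.add_apply, hne, zero_add]; exact h0) (by rw [map_add, hs.alt, add_zero, h])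
  exact ⟨n2 * n1, mul_mem hn2 hn1, by rw [LinearEquiv.mul_apply, a1, a2], by rw [LinearEquiv.mul_apply, b1, b2]⟩

/-- **Transitivity on pairs** with the same nonzero value of the form. -/
theorem exists_pair [CharP F 2] (hs : Sy ω) {X : Submodule F B}
    (hD : ∀ x ∈ X, x ≠ 0 → ∃ y ∈ X, ω x y ≠ 0) {x y x' y' : B} (hx : x ∈ X) (hy : y ∈ X) (hx' : x' ∈ X)
    (hy' : y' ∈ X) (h : ω x y = ω x' y') (h0 : ω x y ≠ 0) : ∃ n ∈ NX hs X, n x = x' ∧ n y = y' := by
  have hx0 : x ≠ 0 := by rintro rfl; exact h0 (by rw [map_zero]; rfl)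
  have hx'0 : x' ≠ 0 := by rintro rfl; exact h0 (by rw [h, map_zero]; rfl)
  obtain ⟨n1, hn1, e1⟩ := exists_one hs hD hx hx' hx0 hx'0
  have h1 : ω x' (n1 y) = ω x' y' := by rw [← e1, NX_iso hs hn1, h, ← e1]
  obtain ⟨n2, hn2, a2, b2⟩ := exists_two hs (f' := n1 y) (f := y') hx' (NX_mem hs hn1 hy) hy'
    (by rw [← h]; exact h0) h1
  exact ⟨n2 * n1, mul_mem hn2 hn1, by rw [LinearEquiv.mul_apply, e1, a2], by rw [LinearEquiv.mul_apply, b2]⟩

/-- **Generation by transvections.** -/
theorem mem_NX [CharP F 2] [FiniteDimensional F B] (hs : Sy ω) :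
    ∀ (n : ℕ) (X : Submodule F B), Module.finrank F X ≤ n → (∀ x ∈ X, x ≠ 0 → ∃ y ∈ X, ω x y ≠ 0) →
      ∀ g : B ≃ₗ[F] B, (∀ x y, ω (g x) (g y) = ω x y) → (∀ x, g x + x ∈ X) → g ∈ NX hs X := by
  intro n
  induction n with
  | zero =>
    intro X hX _ g _ hsub
    have hb : X = ⊥ := Submodule.finrank_eq_zero.mp (Nat.le_zero.mp hX)
    have : g = 1 := by
      ext x
      have h1 := hsub x
      rw [hb, Submodule.mem_bot] at h1
      have h2 : g x + x + x = x := by rw [h1, zero_add]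
      rw [add_assoc, add_self_eq (F := F), add_zero] at h2
      exact h2
    rw [this]; exact one_mem _
  | succ n ih =>
    intro X hX hD g hg hsub
    by_cases hb : X = ⊥
    · have : g = 1 := by
        ext x
        have h1 := hsub x
        rw [hb, Submodule.mem_bot] at h1
        have h2 : g x + x + x = x := by rw [h1, zero_add]
        rw [add_assoc, add_self_eq (F := F), add_zero] at h2
        exact h2
      rw [this]; exact one_mem _
    obtain ⟨e, heX, he0⟩ := Submodule.exists_mem_ne_zero_of_ne_bot hb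
    obtain ⟨f, hfX, hef⟩ := hD e heX he0
    have hgX : ∀ x ∈ X, g x ∈ X := by
      intro x hx
      have := X.add_mem (hsub x) hx
      rwa [add_assoc, add_self_eq (F := F), add_zero] at this
    obtain ⟨m, hm, m1, m2⟩ := exists_pair hs hD (hgX e heX) (hgX f hfX) heX hfX (hg e f)
      (by rw [hg]; exact hef)
    let Y : Submodule F B :=
      { carrier := {x | x ∈ X ∧ ω x e = 0 ∧ ω x f = 0}
        add_mem' := by
          rintro x y ⟨h1, h2, h3⟩ ⟨k1, k2, k3⟩
          exact ⟨X.add_mem h1 k1, by rw [map_add, LinearMap.add_apply, h2, k2, add_zero],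
            by rw [map_add, LinearMap.add_apply, h3, k3, add_zero]⟩
        zero_mem' := ⟨X.zero_mem, by rw [map_zero]; rfl, by rw [map_zero]; rfl⟩
        smul_mem' := by
          rintro c x ⟨h1, h2, h3⟩
          exact ⟨X.smul_mem c h1, by rw [map_smul, LinearMap.smul_apply, h2, smul_zero],
            by rw [map_smul, LinearMap.smul_apply, h3, smul_zero]⟩ }
    have hYX : Y < X := by
      refine lt_of_le_of_ne (fun x hx => hx.1) ?_
      intro h1
      have : e ∈ Y := by rw [h1]; exact heX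
      exact hef this.2.2
    have hdim : Module.finrank F Y ≤ n := by
      have := Submodule.finrank_lt_finrank_of_lt hYX
      omega
    have hDY : ∀ x ∈ Y, x ≠ 0 → ∃ y ∈ Y, ω x y ≠ 0 := by
      rintro x ⟨hxX, hxe, hxf⟩ hx0
      obtain ⟨y, hyX, hxy⟩ := hD x hxX hx0
      refine ⟨y + (ω y f * (ω e f)⁻¹) • e + (ω y e * (ω e f)⁻¹) • f, ⟨?_, ?_, ?_⟩, ?_⟩
      · exact X.add_mem (X.add_mem hyX (X.smul_mem _ heX)) (X.smul_mem _ hfX)
      · simp only [map_add, LinearMap.add_apply, map_smul, LinearMap.smul_apply, smul_eq_mul, hs.alt e, mul_zero,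
          add_zero]
        rw [hs.symm f e, mul_assoc, inv_mul_cancel₀ hef, mul_one, add_self_F]
      · simp only [map_add, LinearMap.add_apply, map_smul, LinearMap.smul_apply, smul_eq_mul, hs.alt f, mul_zero,
          add_zero]
        rw [mul_assoc, inv_mul_cancel₀ hef, mul_one, add_self_F]
      · simp only [map_add, map_smul, smul_eq_mul, hxe, hxf, mul_zero, add_zero]
        exact hxy
    have hg' : ∀ x y, ω ((m * g) x) ((m * g) y) = ω x y := by
      intro x y
      rw [LinearEquiv.mul_apply, LinearEquiv.mul_apply, NX_iso hs hm, hg]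
    have hfix : ∀ w, (m * g) w = w → ∀ x, ω ((m * g) x + x) w = 0 := by
      intro w hw x
      rw [map_add, LinearMap.add_apply]
      conv_lhs => rw [← hw]
      rw [hg', hw, add_self_F]
    have hsub' : ∀ x, (m * g) x + x ∈ Y := by
      intro x
      refine ⟨?_, hfix e (by rw [LinearEquiv.mul_apply]; exact m1) x,
        hfix f (by rw [LinearEquiv.mul_apply]; exact m2) x⟩
      have := X.add_mem (NX_sub hs hm (g x)) (hsub x)
      rw [LinearEquiv.mul_apply]
      rwa [add_assoc, ← add_assoc (g x), add_self_eq (F := F), zero_add] at this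
    have h3 := ih Y hdim hDY (m * g) hg' hsub'
    have h4 : NX hs Y ≤ NX hs X := Subgroup.closure_mono (by
      rintro h ⟨u, hu, d, rfl⟩
      exact ⟨u, hu.1, d, rfl⟩)
    have h5 := mul_mem (inv_mem hm) (h4 h3)
    rwa [inv_mul_cancel_left] at h5

theorem mem_NX_top [CharP F 2] [FiniteDimensional F B] (hs : Sy ω) {g : B ≃ₗ[F] B}
    (hg : ∀ x y, ω (g x) (g y) = ω x y) : g ∈ NX hs ⊤ :=
  mem_NX hs _ ⊤ le_rfl (fun x _ hx => by
    obtain ⟨y, hy⟩ := hs.exists_ne hx
    exact ⟨y, trivial, hy⟩) g hg (fun _ => trivial)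

theorem exists_pair_top [CharP F 2] (hs : Sy ω) {x y x' y' : B} (h : ω x y = ω x' y') (h0 : ω x y ≠ 0) :
    ∃ g : B ≃ₗ[F] B, (∀ x y, ω (g x) (g y) = ω x y) ∧ g x = x' ∧ g y = y' := by
  obtain ⟨n, hn, h1, h2⟩ := exists_pair hs (X := ⊤) (fun x _ hx => by
    obtain ⟨y, hy⟩ := hs.exists_ne hx
    exact ⟨y, trivial, hy⟩) (x := x) (y := y) (x' := x') (y' := y') trivial trivial trivial trivial h h0
  exact ⟨n, NX_iso hs hn, h1, h2⟩

theorem exists_one_top [CharP F 2] (hs : Sy ω) {x x' : B} (h : x ≠ 0) (h' : x' ≠ 0) :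
    ∃ g : B ≃ₗ[F] B, (∀ x y, ω (g x) (g y) = ω x y) ∧ g x = x' := by
  obtain ⟨n, hn, h1⟩ := exists_one hs (X := ⊤) (fun x _ hx => by
    obtain ⟨y, hy⟩ := hs.exists_ne hx
    exact ⟨y, trivial, hy⟩) (e' := x) (e := x') trivial trivial h h'
  exact ⟨n, NX_iso hs hn, h1⟩

/-! ### Additive maps commuting with the transvections -/

theorem exists_scalar [CharP F 2] (hs : Sy ω) {f : B → B} (hadd : ∀ x y, f (x + y) = f x + f y)
    (hf : ∀ u d x, f (tv ω u d x) = tv ω u d (f x)) {v : B} (hv : v ≠ 0) :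
    ∃ μ : F, ∀ x, f x = μ • x := by
  have h1 : ∀ u d x, f ((d * ω x u) • u) = (d * ω (f x) u) • u := by
    intro u d x
    have := hf u d x
    rw [tv_apply, tv_apply, hadd] at this
    exact add_left_cancel this
  have h0 : f 0 = 0 := by
    have := hadd 0 0
    rw [add_zero] at this
    exact left_eq_add.mp this
  have h2 : ∀ u, u ≠ 0 → ∃ l : F, (∀ d : F, f (d • u) = (d * l) • u) ∧ ∀ x, ω (f x) u = l * ω x u := by
    intro u hu
    obtain ⟨y, hy⟩ := hs.exists_one hu
    rw [hs.symm] at hy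
    have a1 : ∀ d : F, f (d • u) = (d * ω (f y) u) • u := by
      intro d
      have := h1 u d y
      rw [hy, mul_one] at this
      exact this
    refine ⟨ω (f y) u, a1, ?_⟩
    intro x
    have a2 := h1 u 1 x
    rw [one_mul, one_mul, a1] at a2
    have a3 : (ω x u * ω (f y) u + ω (f x) u) • u = 0 := by
      rw [add_smul, a2, add_self_eq (F := F)]
    rcases smul_eq_zero.mp a3 with h | h
    · rw [mul_comm]; exact (CharTwo.add_eq_zero.mp h).symm
    · exact absurd h hu
  obtain ⟨l, hl1, hl2⟩ := h2 v hv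
  have key : ∀ u l' , u ≠ 0 → (∀ d : F, f (d • u) = (d * l') • u) → ∀ w l'', (∀ x, ω (f x) w = l'' * ω x w) →
      ω u w ≠ 0 → l' = l'' := by
    intro u l' _ hu1 w l'' hw huw
    have := hw u
    have e := hu1 1
    rw [one_smul, one_mul] at e
    rw [e, map_smul, LinearMap.smul_apply, smul_eq_mul] at this
    exact mul_right_cancel₀ huw this
  refine ⟨l, fun x => ?_⟩
  by_cases hx : x = 0
  · rw [hx, h0, smul_zero]
  obtain ⟨l', hl'1, hl'2⟩ := h2 x hx
  have e := hl'1 1
  rw [one_smul, one_mul] at e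
  rw [e]
  -- a vector not perpendicular to both
  have : ∃ h, ω x h ≠ 0 ∧ ω v h ≠ 0 := by
    obtain ⟨a, ha⟩ := hs.exists_ne hx
    obtain ⟨b, hb⟩ := hs.exists_ne hv
    by_cases c1 : ω v a = 0
    · by_cases c2 : ω x b = 0
      · refine ⟨a + b, ?_, ?_⟩
        · rw [map_add, c2, add_zero]; exact ha
        · rw [map_add, c1, zero_add]; exact hb
      · exact ⟨b, c2, hb⟩
    · exact ⟨a, ha, c1⟩
  obtain ⟨h, hxh, hvh⟩ := this
  have hh0 : h ≠ 0 := by rintro rfl; exact hxh (map_zero _)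
  obtain ⟨l'', _, hl''2⟩ := h2 h hh0
  rw [key x l' hx hl'1 h l'' hl''2 hxh, ← key v l hv hl1 h l'' hl''2 hvh]

end Cfsg.Agent.Omega.NO3S.FarQ.SpLin
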