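import Cfsg.Agent.Omega.NO3S.FarQ.Nat
import Cfsg.Agent.Omega.NO3S.FarQ.SpLin

/-!
# FarQ, K-facts for `Sp(B)` (`dim B ≥ 2`, so `SL₂` is included), part 1
-/

set_option autoImplicit false

namespace Cfsg.Agent.Omega.NO3S.FarQ.KSp

open Subgroup Cfsg.Agent.ZN Cfsg.Agent.Omega.NO3S.PT SpLin
open Cfsg.Agent.ClassTwoFusion.Quad (cv mem_cv cv_anti)
open scoped Pointwise

variable {H M : Type*} [Group H] [CommGroup M] [MulDistribMulAction H M]
variable {F B : Type*} [Field F] [AddCommGroup B] [Module F B] {ω : LinearMap.BilinForm F B}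

/-- `IsSp` without the dimension. -/
structure IsSymp (F B : Type*) [Field F] [AddCommGroup B] [Module F B] (ω : LinearMap.BilinForm F B)
    (J : Subgroup H) (π : M → B) : Prop extends Proj F B J π where
  sy : Sy ω
  lin : ∀ j ∈ J, ∃ f : B ≃ₗ[F] B, (∀ x y, ω (f x) (f y) = ω x y) ∧ ∀ m : M, π (j • m) = f (π m)
  full : ∀ f : B ≃ₗ[F] B, (∀ x y, ω (f x) (f y) = ω x y) → ∃ j ∈ J, ∀ m : M, π (j • m) = f (π m)

theorem IsSymp.of {J : Subgroup H} {π : M → B} (h : IsSp F B ω J π) : IsSymp F B ω J π :=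
  { h.toProj with
    sy := ⟨fun x => h.alt x, fun x hx => h.nondeg.1 x hx⟩
    lin := h.lin
    full := h.full }

/-! ### 2-groups acting on `X / Y` -/

theorem exists_fixed_mod [Finite M] {P : Subgroup H} (hP : IsPGroup 2 P) (two : ∀ m : M, m * m = 1)
    {X Y : Subgroup M} (hX : ∀ g ∈ P, ∀ m ∈ X, g • m ∈ X) (hY : ∀ g ∈ P, ∀ m ∈ Y, g • m ∈ Y)
    (hne : ∃ m ∈ X, m ∉ Y) : ∃ m ∈ X, m ∉ Y ∧ ∀ g ∈ P, (g • m) * m⁻¹ ∈ Y := by
  classical
  have : Fact (Nat.Prime 2) := ⟨Nat.prime_two⟩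
  let Q := X ⧸ Y.subgroupOf X
  let f : P → X →* X := fun g =>
    { toFun := fun m => ⟨(g : H) • (m : M), hX g g.2 m m.2⟩
      map_one' := Subtype.ext (smul_one _)
      map_mul' := fun a b => Subtype.ext (smul_mul' _ _ _) }
  let iA : MulAction P Q :=
    { smul := fun g => QuotientGroup.map (Y.subgroupOf X) (Y.subgroupOf X) (f g) (fun m hm => by
        rw [mem_comap, mem_subgroupOf]
        exact hY g g.2 _ (mem_subgroupOf.mp hm))
      one_smul := fun q => by
        induction q using QuotientGroup.induction_on with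
        | H z =>
          change QuotientGroup.mk (f 1 z) = QuotientGroup.mk z
          congr 1
          exact Subtype.ext (one_smul H (z : M))
      mul_smul := fun g g' q => by
        induction q using QuotientGroup.induction_on with
        | H z =>
          change QuotientGroup.mk (f (g * g') z) = QuotientGroup.mk (f g (f g' z))
          congr 1
          exact Subtype.ext (mul_smul (g : H) (g' : H) (z : M)) }
  have hsm : ∀ (g : P) (z : X), g • (QuotientGroup.mk z : Q) = QuotientGroup.mk (f g z) := fun _ _ => rfl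
  have hfix := hP.card_modEq_card_fixedPoints (α := Q)
  obtain ⟨m, hm, hmY⟩ := hne
  have hcard : 2 ∣ Nat.card Q := by
    have h2 : orderOf (QuotientGroup.mk (⟨m, hm⟩ : X) : Q) = 2 := by
      refine orderOf_eq_prime ?_ ?_
      · rw [pow_two, ← QuotientGroup.mk_mul]
        have : (⟨m, hm⟩ : X) * ⟨m, hm⟩ = 1 := Subtype.ext (two m)
        rw [this]; rfl
      · intro h
        rw [QuotientGroup.eq_one_iff, mem_subgroupOf] at h
        exact hmY h
    rw [← h2]
    exact orderOf_dvd_natCard _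
  have h1 : (1 : Q) ∈ MulAction.fixedPoints P Q := by
    intro g
    change g • (QuotientGroup.mk (1 : X) : Q) = QuotientGroup.mk (1 : X)
    rw [hsm, map_one]
  have h2 : 2 ∣ Nat.card (MulAction.fixedPoints P Q) := (Nat.ModEq.dvd_iff hfix dvd_rfl).mp hcard
  have h3 : 1 < Nat.card (MulAction.fixedPoints P Q) := by
    have : 0 < Nat.card (MulAction.fixedPoints P Q) := by
      have : Nonempty (MulAction.fixedPoints P Q) := ⟨⟨1, h1⟩⟩
      exact Nat.card_pos
    obtain ⟨k, hk⟩ := h2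
    omega
  have := Finite.one_lt_card_iff_nontrivial.mp h3
  obtain ⟨⟨q, hq⟩, hq1⟩ := exists_ne (⟨1, h1⟩ : MulAction.fixedPoints P Q)
  have hq1' : q ≠ 1 := fun h => hq1 (Subtype.ext h)
  induction q using QuotientGroup.induction_on with
  | H z =>
    refine ⟨z, z.2, ?_, ?_⟩
    · intro hz
      apply hq1'
      rw [QuotientGroup.eq_one_iff, mem_subgroupOf]
      exact hz
    · intro g hg
      have := hq ⟨g, hg⟩
      rw [hsm, QuotientGroup.eq, mem_subgroupOf] at this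
      have h4 : ((g • (z : M)))⁻¹ * (z : M) ∈ Y := this
      have h5 := Y.inv_mem h4
      rw [mul_inv_rev, inv_inv, mul_comm] at h5
      exact h5

/-! ### Basics -/

theorem exists_ne_one {M : Type*} [Group M] {lam : Subgroup M} (h4 : 4 ≤ Nat.card lam) : ∃ a ∈ lam, a ≠ 1 := by
  by_contra h
  push Not at h
  have : lam = ⊥ := (eq_bot_iff_forall _).mpr h
  rw [this, Subgroup.card_bot] at h4
  omega

section basics

variable {J : Subgroup H} {π : M → B} (hS : IsSymp F B ω J π)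
include hS

theorem IsSymp.one : π 1 = 0 := (hS.ker 1).mpr (one_mem _)

theorem IsSymp.mul_inv (a b : M) : π (a * b⁻¹) = π a - π b := by
  have h := hS.add (a * b⁻¹) b
  rw [inv_mul_cancel_right] at h
  rw [h, add_sub_cancel_right]

theorem IsSymp.eq_iff (a b : M) : a * b⁻¹ ∈ zm M J ↔ π a = π b := by
  rw [← hS.ker, hS.mul_inv, sub_eq_zero]

omit hS in
theorem zfix {z : M} (hz : z ∈ zm M J) {j : H} (hj : j ∈ J) : j • z = z := hz j hj

theorem IsSymp.iso {j : H} (hj : j ∈ J) (m n : M) : ω (π (j • m)) (π (j • n)) = ω (π m) (π n) := by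
  obtain ⟨f, hf, hfm⟩ := hS.lin j hj
  rw [hfm, hfm, hf]

theorem IsSymp.smul_eq {j : H} (hj : j ∈ J) {m n : M} {μ : F} (h : π n = μ • π m) :
    π (j • n) = μ • π (j • m) := by
  obtain ⟨f, hf, hfm⟩ := hS.lin j hj
  rw [hfm, hfm, h, map_smul]

theorem IsSymp.add_eq {j : H} (hj : j ∈ J) {m n k : M} (h : π n = π m + π k) :
    π (j • n) = π (j • m) + π (j • k) := by
  obtain ⟨f, hf, hfm⟩ := hS.lin j hj
  rw [hfm, hfm, hfm, h, map_add]

theorem IsSymp.congr {j : H} (hj : j ∈ J) {m n : M} (h : π n = π m) : π (j • n) = π (j • m) := by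
  obtain ⟨f, hf, hfm⟩ := hS.lin j hj
  rw [hfm, hfm, h]

end basics

section blk

variable {T : Subgroup H} {lam : Subgroup M} {J : Subgroup H} {π : M → B} (hb : Blk T lam J)
  (hS : IsSymp F B ω J π)
include hb hS

theorem blk_charTwo : CharP F 2 := by
  have := hb.finM
  have h4 := hb.four
  obtain ⟨a, ha, ha1⟩ : ∃ a ∈ lam, a ≠ 1 := by
    by_contra h
    push Not at h
    have : lam = ⊥ := (eq_bot_iff_forall _).mpr h
    rw [this, Subgroup.card_bot] at h4
    omega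
  have hπ : π a ≠ 0 := fun h => ha1 (hb.inf a ha ((hS.ker a).mp h))
  have h2 : (2 : F) • π a = 0 := by
    rw [two_smul, ← hS.add, hb.sq, hS.one]
  have : (2 : F) = 0 := (smul_eq_zero.mp h2).resolve_right hπ
  exact CharTwo.of_one_ne_zero_of_two_eq_zero one_ne_zero this

theorem π_ne {a : M} (ha : a ∈ lam) (ha1 : a ≠ 1) : π a ≠ 0 := fun h => ha1 (hb.inf a ha ((hS.ker a).mp h))

theorem π_inj {a b : M} (ha : a ∈ lam) (hb' : b ∈ lam) (h : π a = π b) : a = b := by
  have := hb.inf (a * b⁻¹) (mul_mem ha (inv_mem hb')) ((hS.eq_iff a b).mpr h)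
  exact mul_inv_eq_one.mp this

theorem faith' {j k : H} (hj : j ∈ J) (hk : k ∈ J) (h : ∀ m : M, π (j • m) = π (k • m)) : j = k := by
  have h1 : k⁻¹ * j = 1 := by
    refine hb.faith _ (mul_mem (inv_mem hk) hj) fun m => ?_
    rw [hS.eq_iff, mul_smul]
    have := hS.congr (inv_mem hk) (h m)
    rw [this, inv_smul_smul]
  exact (inv_mul_eq_one.mp h1).symm

/-- (ST) -/
theorem stab {a : M} (ha : a ∈ lam) (ha1 : a ≠ 1) {j : H} (hj : j ∈ J) (h : π (j • a) = π a) :
    j ∈ fixer lam := by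
  classical
  have := hb.finH
  have := hb.finM
  refine hb.lin a ha ha1 j ?_
  let K : Subgroup H :=
    { carrier := {j | j ∈ J ∧ π (j • a) = π a}
      one_mem' := ⟨one_mem _, by rw [one_smul]⟩
      mul_mem' := by
        rintro x y ⟨hx, hx'⟩ ⟨hy, hy'⟩
        exact ⟨mul_mem hx hy, by rw [mul_smul, hS.congr hx hy', hx']⟩
      inv_mem' := by
        rintro x ⟨hx, hx'⟩
        refine ⟨inv_mem hx, ?_⟩
        have := hS.congr (inv_mem hx) hx'
        rw [inv_smul_smul] at this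
        exact this.symm }
  have hz : ∀ x ∈ K, (x • a) * a⁻¹ ∈ zm M J := fun x hx => (hS.eq_iff _ _).mpr hx.2
  let φ : K →* M :=
    { toFun := fun x => ((x : H) • a) * a⁻¹
      map_one' := by rw [OneMemClass.coe_one, one_smul, mul_inv_cancel]
      map_mul' := fun x y => by
        have h1 := zfix (hz y y.2) x.2.1
        rw [smul_mul', smul_inv'] at h1
        rw [Subgroup.coe_mul, mul_smul]
        have h2 : (x : H) • (y : H) • a = ((y : H) • a) * a⁻¹ * ((x : H) • a) := by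
          rw [← h1, inv_mul_cancel_right]
        rw [h2, mul_assoc (((y : H) • a) * a⁻¹) ((x : H) • a) a⁻¹, mul_comm] }
  have hTK : T ⊓ J ≤ K := fun t ht => ⟨ht.2, by rw [hb.fix t ht.1 a ha]⟩
  have hKJ : K ≤ J := fun x hx => hx.1
  have h1 : (T ⊓ J).relIndex K ∣ (T ⊓ J).relIndex J := Dvd.intro _ (relIndex_mul_relIndex _ _ _ hTK hKJ)
  have h2 : φ.ker.index ∣ (T ⊓ J).relIndex K := by
    refine index_dvd_of_le ?_
    intro t ht
    rw [MonoidHom.mem_ker]
    have ht' : (t : H) ∈ T ⊓ J := mem_subgroupOf.mp ht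
    change ((t : H) • a) * a⁻¹ = 1
    rw [hb.fix _ ht'.1 a ha, mul_inv_cancel]
  have h3 : ¬ 2 ∣ φ.ker.index := fun h => hb.syl (h.trans (h2.trans h1))
  rw [index_ker] at h3
  have hjK : j ∈ K := ⟨hj, h⟩
  have h4 : φ ⟨j, hjK⟩ = 1 := by
    by_contra hne
    apply h3
    have h5 : orderOf (φ.rangeRestrict ⟨j, hjK⟩) = 2 := by
      refine orderOf_eq_prime ?_ ?_
      · rw [pow_two]; exact Subtype.ext (hb.sq _)
      · intro h; exact hne (congrArg Subtype.val h)
    rw [← h5]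
    exact orderOf_dvd_natCard _
  exact mul_inv_eq_one.mp h4

omit hb in
/-- transvections of `J` -/
theorem exists_tv [CharP F 2] (u : B) (d : F) : ∃ j ∈ J, ∀ m : M, π (j • m) = π m + (d * ω (π m) u) • u := by
  obtain ⟨j, hj, h⟩ := hS.full (tvE hS.sy u d) (tvE_iso hS.sy u d)
  exact ⟨j, hj, fun m => by rw [h, tvE_apply]⟩

theorem exists_smul {a b : M} (ha : a ∈ lam) (ha1 : a ≠ 1) (hb' : b ∈ lam) : ∃ μ : F, π b = μ • π a := by
  have := blk_charTwo hb hS
  refine exists_smul_of_perp hS.sy (π_ne hb hS ha ha1) fun u hu => ?_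
  by_cases hu0 : u = 0
  · rw [hu0, map_zero]
  obtain ⟨j, hj, h⟩ := exists_tv hS u 1
  have h1 : j ∈ fixer lam := stab hb hS ha ha1 hj (by rw [h, hu, mul_zero, zero_smul, add_zero])
  have h2 := h b
  rw [h1 b hb', one_mul, left_eq_add] at h2
  exact (smul_eq_zero.mp h2).resolve_right hu0

/-- `Q_v ≤ T` -/
theorem mem_T {a : M} (ha : a ∈ lam) {j : H} (hj : j ∈ J) (h : π (j • a) = π a)
    (h' : ∀ m : M, ω (π m) (π a) = 0 → ∃ μ : F, π (j • m) = π m + μ • π a) : j ∈ T := by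
  classical
  have := blk_charTwo hb hS
  have := hb.finH
  have : Fact (Nat.Prime 2) := ⟨Nat.prime_two⟩
  let Q : Subgroup H :=
    { carrier := {j | j ∈ J ∧ π (j • a) = π a ∧
        ∀ m : M, ω (π m) (π a) = 0 → ∃ μ : F, π (j • m) = π m + μ • π a}
      one_mem' := ⟨one_mem _, by rw [one_smul], fun m _ => ⟨0, by rw [one_smul, zero_smul, add_zero]⟩⟩
      mul_mem' := by
        rintro x y ⟨hx, hx1, hx2⟩ ⟨hy, hy1, hy2⟩
        refine ⟨mul_mem hx hy, by rw [mul_smul, hS.congr hx hy1, hx1], fun m hm => ?_⟩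
        obtain ⟨μ, hμ⟩ := hy2 m hm
        have h1 : ω (π (y • m)) (π a) = 0 := by
          rw [hμ, map_add, LinearMap.add_apply, hm, map_smul, LinearMap.smul_apply, hS.sy.alt, smul_zero,
            add_zero]
        obtain ⟨ν, hν⟩ := hx2 _ h1
        exact ⟨μ + ν, by rw [mul_smul, hν, hμ, add_smul, add_assoc]⟩
      inv_mem' := by
        rintro x ⟨hx, hx1, hx2⟩
        have e1 : π (x⁻¹ • a) = π a := by
          have := hS.congr (inv_mem hx) hx1
          rw [inv_smul_smul] at this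
          exact this.symm
        refine ⟨inv_mem hx, e1, fun m hm => ?_⟩
        have h1 : ω (π (x⁻¹ • m)) (π a) = 0 := by
          rw [← e1, hS.iso (inv_mem hx)]; exact hm
        obtain ⟨μ, hμ⟩ := hx2 _ h1
        rw [smul_inv_smul] at hμ
        exact ⟨μ, by rw [hμ, add_assoc, add_self_eq (F := F), add_zero]⟩ }
  have hjQ : j ∈ Q := ⟨hj, h, h'⟩
  have hQ2 : IsPGroup 2 Q := by
    rintro ⟨x, hx, hx1, hx2⟩
    refine ⟨2, Subtype.ext ?_⟩
    change x ^ (2 ^ 2) = 1
    have hsq : ∀ m : M, ∃ μ : F, π ((x * x) • m) = π m + μ • π a := by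
      intro m
      have h1 : ω (π ((x • m) * m⁻¹)) (π a) = 0 := by
        rw [hS.mul_inv, map_sub, LinearMap.sub_apply]
        have := hS.iso hx m a
        rw [hx1] at this
        rw [this, sub_self]
      obtain ⟨μ, hμ⟩ := hx2 _ h1
      rw [smul_mul', smul_inv', hS.mul_inv, hS.mul_inv, ← mul_smul] at hμ
      refine ⟨μ, ?_⟩
      have e : π ((x * x) • m) = π (x • m) + (π (x • m) - π m + μ • π a) := by rw [← hμ]; abel
      rw [e]
      calc π (x • m) + (π (x • m) - π m + μ • π a) = (π (x • m) + π (x • m)) - π m + μ • π a := by abel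
        _ = π m + μ • π a := by
          rw [add_self_eq (F := F), zero_sub]
          congr 1
          rw [neg_eq_iff_add_eq_zero, add_self_eq (F := F)]
    have hxa : π ((x * x) • a) = π a := by rw [mul_smul, hS.congr hx hx1, hx1]
    refine faith' hb hS (pow_mem hx _) (one_mem _) fun m => ?_
    rw [one_smul]
    obtain ⟨μ, hμ⟩ := hsq m
    have h3 : x ^ (2 ^ 2) = (x * x) * (x * x) := by
      rw [show (2 : ℕ) ^ 2 = 2 + 2 from rfl, pow_add, pow_two]
    rw [h3, mul_smul]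
    obtain ⟨f, hf, hfm⟩ := hS.lin (x * x) (mul_mem hx hx)
    rw [hfm, hμ, map_add, map_smul, ← hfm, ← hfm, hμ, hxa, add_assoc, add_self_eq (F := F), add_zero]
  have hTn : ∀ t ∈ T ⊓ J, ∀ x ∈ Q, t * x * t⁻¹ ∈ Q := by
    rintro t ⟨ht, htJ⟩ x ⟨hx, hx1, hx2⟩
    have e1 : t • a = a := hb.fix t ht a ha
    have e2 : t⁻¹ • a = a := hb.fix _ (inv_mem ht) a ha
    refine ⟨mul_mem (mul_mem htJ hx) (inv_mem htJ), ?_, fun m hm => ?_⟩
    · rw [mul_smul, mul_smul, e2, hS.congr htJ hx1, e1]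
    · have h1 : ω (π (t⁻¹ • m)) (π a) = 0 := by
        have := hS.iso (inv_mem htJ) m a
        rw [e2] at this
        rw [this]; exact hm
      obtain ⟨μ, hμ⟩ := hx2 _ h1
      refine ⟨μ, ?_⟩
      obtain ⟨f, hf, hfm⟩ := hS.lin t htJ
      rw [mul_smul, mul_smul, hfm, hμ, map_add, map_smul, ← hfm, ← hfm, smul_inv_smul, e1]
  have hn : T ⊓ J ≤ normalizer (Q : Set H) := by
    intro t ht
    rw [mem_normalizer_iff]
    intro x
    refine ⟨fun hx => hTn t ht x hx, fun hx => ?_⟩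
    have := hTn t⁻¹ (inv_mem ht) _ hx
    rwa [inv_inv, ← mul_assoc, ← mul_assoc, inv_mul_cancel, one_mul, mul_assoc, inv_mul_cancel, mul_one] at this
  have hT2 : IsPGroup 2 (T ⊓ J : Subgroup H) := hb.two.to_le inf_le_left
  have hsup := hT2.to_sup_of_normal_right' hQ2 hn
  have hle : (T ⊓ J) ⊔ Q ≤ J := sup_le inf_le_right fun x hx => hx.1
  have h1 : (T ⊓ J).relIndex ((T ⊓ J) ⊔ Q) ∣ (T ⊓ J).relIndex J :=
    Dvd.intro _ (relIndex_mul_relIndex _ _ _ le_sup_left hle)
  have h2 : (T ⊓ J).relIndex ((T ⊓ J) ⊔ Q) = 1 := by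
    obtain ⟨n, hn⟩ := IsPGroup.iff_card.mp hsup
    have h3 : (T ⊓ J).relIndex ((T ⊓ J) ⊔ Q) ∣ 2 ^ n := by
      rw [← hn]; exact relIndex_dvd_card _ _
    obtain ⟨k, _, hk⟩ := (Nat.dvd_prime_pow Nat.prime_two).mp h3
    rcases k with _ | k
    · rw [hk, pow_zero]
    · exfalso
      apply hb.syl
      refine dvd_trans ?_ h1
      rw [hk, pow_succ]
      exact dvd_mul_left _ _
  have h3 := relIndex_eq_one.mp h2
  exact (h3 (mem_sup_right hjQ)).1

/-- an element of `J` fixing `v`, acting on `v^⊥` modulo `F v` trivially and fixing a vector outside `v^⊥` is `1` -/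
theorem fix_perp {a : M} {y : H} (hy : y ∈ J) (hy1 : y ≠ 1)
    (h' : ∀ m : M, ω (π m) (π a) = 0 → ∃ μ : F, π (y • m) = π m + μ • π a) {x : M}
    (hx : π (y • x) = π x) : ω (π x) (π a) = 0 := by
  have := blk_charTwo hb hS
  by_contra hne
  apply hy1
  have h1 : ∀ m : M, ω (π m) (π a) = 0 → π (y • m) = π m := by
    intro m hm
    obtain ⟨μ, hμ⟩ := h' m hm
    have h2 := hS.iso hy x m
    rw [hx, hμ, map_add, map_smul, smul_eq_mul, add_eq_left] at h2
    rw [hμ, (mul_eq_zero.mp h2).resolve_right hne, zero_smul, add_zero]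
  refine faith' hb hS hy (one_mem _) fun m => ?_
  rw [one_smul]
  obtain ⟨n, hn⟩ := hS.surj (π m - (ω (π m) (π a) * (ω (π x) (π a))⁻¹) • π x)
  have hn0 : ω (π n) (π a) = 0 := by
    rw [hn, map_sub, LinearMap.sub_apply, map_smul, LinearMap.smul_apply, smul_eq_mul, mul_assoc,
      inv_mul_cancel₀ hne, mul_one, sub_self]
  obtain ⟨f, hf, hfm⟩ := hS.lin y hy
  have e : π m = π n + (ω (π m) (π a) * (ω (π x) (π a))⁻¹) • π x := by rw [hn]; abel
  have e2 := h1 n hn0
  rw [hfm] at e2 hx ⊢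
  rw [e, map_add, e2, map_smul, hx]

/-- `O_J` acts on `v^⊥` modulo `F v` trivially -/
theorem oj_perp {A : Subgroup H} (hA : ExJ lam A J) {a : M} (ha : a ∈ lam) (ha1 : a ≠ 1) {g : H}
    (hg : g ∈ oj lam A J) : g ∈ J ∧ g ∈ fixer lam ∧
      ∀ m : M, ω (π m) (π a) = 0 → ∃ μ : F, π (g • m) = π m + μ • π a := by
  classical
  have := blk_charTwo hb hS
  have := hb.finM
  have hle : oj lam A J ≤ J ⊓ fixer lam := by
    rw [oj, closure_le]
    rintro _ ⟨c, hc, y, hy, rfl⟩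
    exact mul_mem (mul_mem hc ⟨hy.2, hA.fix y hy⟩) (inv_mem hc)
  have hnorm : ∀ s ∈ J ⊓ fixer lam, ∀ o ∈ oj lam A J, s * o * s⁻¹ ∈ oj lam A J := by
    intro s hs o ho
    rw [oj] at ho ⊢
    induction ho using closure_induction with
    | mem x hx =>
      obtain ⟨c, hc, y, hy, rfl⟩ := hx
      exact subset_closure ⟨s * c, mul_mem hs hc, y, hy, by group⟩
    | one => rw [mul_one, mul_inv_cancel]; exact one_mem _
    | mul x y _ _ hx hy =>
      have : s * (x * y) * s⁻¹ = (s * x * s⁻¹) * (s * y * s⁻¹) := by group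
      rw [this]; exact mul_mem hx hy
    | inv x _ hx =>
      have : s * x⁻¹ * s⁻¹ = (s * x * s⁻¹)⁻¹ := by group
      rw [this]; exact inv_mem hx
  refine ⟨(hle hg).1, (hle hg).2, ?_⟩
  have hfa : ∀ o ∈ oj lam A J, o • a = a := fun o ho => (hle ho).2 a ha
  let X : Subgroup M :=
    { carrier := {m | ω (π m) (π a) = 0}
      one_mem' := by change ω (π 1) (π a) = 0; rw [hS.one, map_zero]; rfl
      mul_mem' := by
        intro x y hx hy
        change ω (π (x * y)) (π a) = 0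
        rw [hS.add, map_add, LinearMap.add_apply, hx, hy, add_zero]
      inv_mem' := by
        intro x hx
        have h1 := hS.mul_inv 1 x
        change ω (π x⁻¹) (π a) = 0
        rw [one_mul] at h1
        rw [h1, hS.one, zero_sub, map_neg, LinearMap.neg_apply, hx, neg_zero] }
  let Y : Subgroup M :=
    { carrier := {m | ∃ μ : F, π m = μ • π a}
      one_mem' := ⟨0, by rw [hS.one, zero_smul]⟩
      mul_mem' := by
        rintro x y ⟨μ, hx⟩ ⟨ν, hy⟩
        exact ⟨μ + ν, by rw [hS.add, hx, hy, add_smul]⟩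
      inv_mem' := by
        rintro x ⟨μ, hx⟩
        have h1 := hS.mul_inv 1 x
        rw [one_mul] at h1
        exact ⟨-μ, by rw [h1, hS.one, hx, zero_sub, neg_smul]⟩ }
  have hXinv : ∀ o ∈ J ⊓ fixer lam, ∀ m ∈ X, o • m ∈ X := by
    intro o ho m hm
    have h1 := hS.iso ho.1 m a
    rw [ho.2 a ha] at h1
    exact h1.trans hm
  have hYinv : ∀ o ∈ J ⊓ fixer lam, ∀ m ∈ Y, o • m ∈ Y := by
    rintro o ho m ⟨μ, hm⟩
    have h1 := hS.smul_eq ho.1 hm
    rw [ho.2 a ha] at h1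
    exact ⟨μ, h1⟩
  have hfin : ∀ m, (∀ o ∈ oj lam A J, (o • m) * m⁻¹ ∈ Y) →
      ∀ o ∈ oj lam A J, ∃ μ : F, π (o • m) = π m + μ • π a := by
    intro m hm o ho
    obtain ⟨μ, hμ⟩ := hm o ho
    rw [hS.mul_inv, sub_eq_iff_eq_add] at hμ
    exact ⟨μ, by rw [hμ, add_comm]⟩
  suffices h : ∀ m ∈ X, ∀ o ∈ oj lam A J, (o • m) * m⁻¹ ∈ Y from fun m hm => hfin m (h m hm) g hg
  by_cases hne : ∃ m ∈ X, m ∉ Y
  swap
  · push Not at hne
    intro m hm o ho
    exact mul_mem (hYinv o (hle ho) m (hne m hm)) (inv_mem (hne m hm))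
  obtain ⟨m0, hm0X, hm0Y, hm0⟩ := exists_fixed_mod hA.o2 hb.sq (fun o ho => hXinv o (hle ho))
    (fun o ho => hYinv o (hle ho)) hne
  have hmul : ∀ m n, (∀ o ∈ oj lam A J, (o • m) * m⁻¹ ∈ Y) → (∀ o ∈ oj lam A J, (o • n) * n⁻¹ ∈ Y) →
      ∀ o ∈ oj lam A J, (o • (m * n⁻¹)) * (m * n⁻¹)⁻¹ ∈ Y := by
    intro m n hm hn o ho
    have h1 := Y.mul_mem (hm o ho) (Y.inv_mem (hn o ho))
    have h2 : (o • (m * n⁻¹)) * (m * n⁻¹)⁻¹ = (o • m) * m⁻¹ * ((o • n) * n⁻¹)⁻¹ := by
      rw [smul_mul', smul_inv', mul_inv_rev, inv_inv, mul_inv_rev, inv_inv]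
      rw [mul_comm n m⁻¹, mul_mul_mul_comm, mul_comm (o • n)⁻¹ n]
    rw [h2]; exact h1
  have hz : ∀ m n, π m = π n → (∀ o ∈ oj lam A J, (o • n) * n⁻¹ ∈ Y) →
      ∀ o ∈ oj lam A J, (o • m) * m⁻¹ ∈ Y := by
    intro m n hmn hn o ho
    obtain ⟨μ, hμ⟩ := hn o ho
    refine ⟨μ, ?_⟩
    rw [hS.mul_inv, hS.congr (hle ho).1 hmn, hmn, ← hS.mul_inv, hμ]
  have key : ∀ m ∈ X, ω (π m0) (π m) ≠ 0 → ∀ o ∈ oj lam A J, (o • m) * m⁻¹ ∈ Y := by
    intro m hm hmne
    obtain ⟨j, hj, hjm⟩ := exists_tv hS (π m) (ω (π m0) (π m))⁻¹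
    have hjf : j ∈ fixer lam := by
      refine stab hb hS ha ha1 hj ?_
      have hm' : ω (π m) (π a) = 0 := hm
      rw [hjm, hS.sy.symm (π a), hm', mul_zero, zero_smul, add_zero]
    have e1 : π (j • m0) = π m0 + π m := by rw [hjm, inv_mul_cancel₀ hmne, one_smul]
    have h1 : ∀ o ∈ oj lam A J, (o • j • m0) * (j • m0)⁻¹ ∈ Y := by
      intro o ho
      have h2 := hm0 _ (hnorm j⁻¹ (inv_mem ⟨hj, hjf⟩) o ho)
      have h3 := hYinv j ⟨hj, hjf⟩ _ h2
      rw [inv_inv, smul_mul', ← mul_smul, smul_inv', ← mul_assoc, ← mul_assoc, mul_inv_cancel, one_mul,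
        mul_smul] at h3
      exact h3
    refine hz m (j • m0 * m0⁻¹) ?_ (hmul _ _ h1 hm0)
    rw [hS.mul_inv, e1]; abel
  intro m hm
  by_cases hmne : ω (π m0) (π m) = 0
  swap
  · exact key m hm hmne
  have : ∃ u, ω (π a) u = 0 ∧ ω (π m0) u ≠ 0 := by
    by_contra h
    push Not at h
    exact hm0Y (exists_smul_of_perp hS.sy (π_ne hb hS ha ha1) h)
  obtain ⟨u, hu1, hu2⟩ := this
  obtain ⟨n, rfl⟩ := hS.surj u
  have hnX : n ∈ X := by
    change ω (π n) (π a) = 0
    rw [hS.sy.symm]; exact hu1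
  have h1 := key n hnX hu2
  have h2 := key (m * n) (mul_mem hm hnX) (by rw [hS.add, map_add, hmne, zero_add]; exact hu2)
  have h3 := hmul _ _ h2 h1
  rwa [mul_inv_cancel_right] at h3

omit hb in
theorem conj_tv {a : M} {c : H} (hc : c ∈ J) {y : H} {d : F}
    (h : ∀ m : M, π (y • m) = π m + (d * ω (π m) (π a)) • π a) (m : M) :
    π ((c * y * c⁻¹) • m) = π m + (d * ω (π m) (π (c • a))) • π (c • a) := by
  obtain ⟨f, hf, hfm⟩ := hS.lin c hc
  have h1 : ω (π (c⁻¹ • m)) (π a) = ω (π m) (π (c • a)) := by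
    have := hS.iso hc (c⁻¹ • m) a
    rw [smul_inv_smul] at this
    exact this.symm
  rw [mul_smul, mul_smul, hfm, h, map_add, map_smul, ← hfm, ← hfm, smul_inv_smul, h1]

/-- **The transvections with centre `v` lie in `A`.** -/
theorem tv_mem {A : Subgroup H} (hA : ExJ lam A J) {a : M} (ha : a ∈ lam) (ha1 : a ≠ 1) {j : H}
    (hj : j ∈ J) {d : F} (h : ∀ m : M, π (j • m) = π m + (d * ω (π m) (π a)) • π a) : j ∈ A ⊓ J := by
  classical
  have := blk_charTwo hb hS
  have := hb.finM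
  have := hb.finH
  have : Finite B := Finite.of_surjective π hS.surj
  have : FiniteDimensional F B := Module.Finite.of_finite
  have hAoj : A ⊓ J ≤ oj lam A J := fun y hy => subset_closure ⟨1, one_mem _, y, hy, by group⟩
  have hQ : ∀ y ∈ A ⊓ J, ∀ m : M, ω (π m) (π a) = 0 → ∃ μ : F, π (y • m) = π m + μ • π a :=
    fun y hy => (oj_perp hb hS hA ha ha1 (hAoj hy)).2.2
  obtain ⟨x, hx⟩ : ∃ x : M, ω (π x) (π a) ≠ 0 := by
    obtain ⟨u, hu⟩ := hS.sy.exists_ne (π_ne hb hS ha ha1)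
    obtain ⟨x, rfl⟩ := hS.surj u
    exact ⟨x, by rw [hS.sy.symm]; exact hu⟩
  -- fixed vectors
  let W : Submodule F B :=
    { carrier := {w | ∀ y ∈ A ⊓ J, ∀ m : M, π m = w → π (y • m) = w}
      add_mem' := by
        intro w w' hw hw' y hy m hm
        obtain ⟨n, rfl⟩ := hS.surj w
        obtain ⟨n', rfl⟩ := hS.surj w'
        rw [hS.add_eq hy.2 hm, hw y hy n rfl, hw' y hy n' rfl]
      zero_mem' := by
        intro y hy m hm
        have := hS.congr hy.2 (hm.trans hS.one.symm)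
        rw [this, smul_one, hS.one]
      smul_mem' := by
        intro c w hw y hy m hm
        obtain ⟨n, rfl⟩ := hS.surj w
        rw [hS.smul_eq hy.2 hm, hw y hy n rfl] }
  let δ : (A ⊓ J : Subgroup H) → (ω.orthogonal W) := fun y => ⟨π ((y : H) • x) - π x, by
    intro w hw
    obtain ⟨n, rfl⟩ := hS.surj w
    have h1 := hS.iso y.2.2 n x
    rw [hw y y.2 n rfl] at h1
    change ω (π n) (π ((y : H) • x) - π x) = 0
    rw [map_sub, h1, sub_self]⟩
  have hinj : Function.Injective δ := by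
    intro y y' hyy
    have h1 : π ((y : H) • x) - π x = π ((y' : H) • x) - π x := congrArg Subtype.val hyy
    have h2 : π ((y : H) • x) = π ((y' : H) • x) := sub_left_injective h1
    by_contra hne
    apply hx
    have h3 : (y' : H)⁻¹ * y ∈ A ⊓ J := mul_mem (inv_mem y'.2) y.2
    refine fix_perp hb hS h3.2 ?_ (hQ _ h3) (x := x) ?_
    · intro h4
      exact hne (Subtype.ext (inv_mul_eq_one.mp h4).symm)
    · rw [mul_smul, hS.congr (inv_mem y'.2.2) h2, inv_smul_smul]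
  have hcard : Nat.card (ω.orthogonal W) ≤ Nat.card (A ⊓ J : Subgroup H) := by
    rw [hA.card]
    let ψ : M →* Multiplicative (B ⧸ W) :=
      { toFun := fun m => Multiplicative.ofAdd (Submodule.Quotient.mk (π m))
        map_one' := by rw [hS.one]; rfl
        map_mul' := fun m n => by rw [hS.add]; rfl }
    have h1 : (zm M (A ⊓ J)) ≤ ψ.ker := by
      intro m hm
      rw [MonoidHom.mem_ker]
      change Multiplicative.ofAdd (Submodule.Quotient.mk (π m)) = 1
      rw [ofAdd_eq_one, Submodule.Quotient.mk_eq_zero]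
      intro y hy n hn
      rw [hS.congr hy.2 hn, hm y hy]
    have h2 : ψ.ker.index ≤ (zm M (A ⊓ J)).index :=
      Nat.le_of_dvd (Nat.pos_of_ne_zero index_ne_zero_of_finite) (index_dvd_of_le h1)
    have h3 : ψ.ker.index = Nat.card (B ⧸ W) := by
      rw [index_ker, MonoidHom.range_eq_top.mpr, Subgroup.card_top]
      · rfl
      · intro q
        obtain ⟨w, hw⟩ := Submodule.Quotient.mk_surjective W (Multiplicative.toAdd q)
        obtain ⟨m, rfl⟩ := hS.surj w
        exact ⟨m, by rw [← ofAdd_toAdd q, ← hw]; rfl⟩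
    have h4 : Nat.card (B ⧸ W) = Nat.card (ω.orthogonal W) := by
      have hnd : ω.Nondegenerate := by
        refine ⟨hS.sy.nd, fun y hy => hS.sy.nd y fun z => ?_⟩
        rw [hS.sy.symm]; exact hy z
      rw [Module.natCard_eq_pow_finrank (K := F) (V := B ⧸ W),
        Module.natCard_eq_pow_finrank (K := F) (V := ω.orthogonal W),
        LinearMap.BilinForm.finrank_orthogonal hnd, Submodule.finrank_quotient]
    rw [← h4, ← h3]
    exact h2
  have hbij : Function.Bijective δ := by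
    rw [Nat.bijective_iff_injective_and_card]
    exact ⟨hinj, le_antisymm (Nat.card_le_card_of_injective δ hinj) hcard⟩
  have hv : ∀ c : F, c • π a ∈ ω.orthogonal W := by
    intro c
    refine (ω.orthogonal W).smul_mem c ?_
    intro w hw
    obtain ⟨n, rfl⟩ := hS.surj w
    obtain ⟨⟨y, hy⟩, hy1⟩ := Subgroup.ne_bot_iff_exists_ne_one.mp hA.ne
    exact fix_perp hb hS hy.2 (fun h => hy1 (Subtype.ext h)) (hQ _ hy) (hw _ hy n rfl)
  obtain ⟨⟨y, hy⟩, hδ⟩ := hbij.2 ⟨(d * ω (π x) (π a)) • π a, hv _⟩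
  have hyx : π (y • x) = π x + (d * ω (π x) (π a)) • π a := by
    have := congrArg Subtype.val hδ
    change π (y • x) - π x = _ at this
    rw [sub_eq_iff_eq_add] at this
    rw [this, add_comm]
  have hyw : ∀ m : M, ω (π m) (π a) = 0 → π (y • m) = π m := by
    intro m hm
    obtain ⟨μ, hμ⟩ := hQ y hy m hm
    have h2 := hS.iso hy.2 x m
    have hm' : ω (π a) (π m) = 0 := by rw [hS.sy.symm]; exact hm
    rw [hyx, hμ] at h2
    simp only [map_add, LinearMap.add_apply, map_smul, LinearMap.smul_apply, hm', hS.sy.alt,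
      add_zero, smul_eq_mul, mul_zero] at h2
    rw [add_eq_left] at h2
    rw [hμ, (mul_eq_zero.mp h2).resolve_right hx, zero_smul, add_zero]
  have : j = y := by
    refine faith' hb hS hj hy.2 fun m => ?_
    rw [h]
    obtain ⟨n, hn⟩ := hS.surj (π m - (ω (π m) (π a) * (ω (π x) (π a))⁻¹) • π x)
    have hn0 : ω (π n) (π a) = 0 := by
      rw [hn, map_sub, LinearMap.sub_apply, map_smul, LinearMap.smul_apply, smul_eq_mul, mul_assoc,
        inv_mul_cancel₀ hx, mul_one, sub_self]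
    obtain ⟨f, hf, hfm⟩ := hS.lin y hy.2
    have e : π m = π n + (ω (π m) (π a) * (ω (π x) (π a))⁻¹) • π x := by rw [hn]; abel
    have e2 := hyw n hn0
    rw [hfm] at e2 hyx ⊢
    have e3 : f (π m) = π n + (ω (π m) (π a) * (ω (π x) (π a))⁻¹) • (π x + (d * ω (π x) (π a)) • π a) := by
      conv_lhs => rw [e]
      rw [map_add, e2, map_smul, hyx]
    rw [e3, smul_add, ← add_assoc, ← e, smul_smul]
    congr 2
    field_simp
  rw [this]
  exact hy

omit hb in
/-- transitivity on pairs -/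
theorem exists_pair' [CharP F 2] {x y x' y' : M} (h : ω (π x) (π y) = ω (π x') (π y')) (h0 : ω (π x) (π y) ≠ 0) :
    ∃ j ∈ J, π (j • x) = π x' ∧ π (j • y) = π y' := by
  obtain ⟨g, hg, h1, h2⟩ := exists_pair_top hS.sy h h0
  obtain ⟨j, hj, hjm⟩ := hS.full g hg
  exact ⟨j, hj, by rw [hjm, h1], by rw [hjm, h2]⟩

omit hb in
theorem exists_one' [CharP F 2] {x : M} {u : B} (h : π x ≠ 0) (h0 : u ≠ 0) :
    ∃ j ∈ J, π (j • x) = u := by
  obtain ⟨g, hg, h1⟩ := exists_one_top hS.sy h h0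
  obtain ⟨j, hj, hjm⟩ := hS.full g hg
  exact ⟨j, hj, by rw [hjm, h1]⟩

/-- **gens** -/
theorem kgens {A : Subgroup H} (hA : ExJ lam A J) : KGens A J := by
  classical
  have := blk_charTwo hb hS
  have := hb.finM
  have : Finite B := Finite.of_surjective π hS.surj
  have : FiniteDimensional F B := Module.Finite.of_finite
  obtain ⟨a, ha, ha1⟩ := exists_ne_one hb.four
  set N := closure {x | ∃ c ∈ J, ∃ y ∈ A ⊓ J, x = c * y * c⁻¹} with hN
  have hNJ : N ≤ J := by
    rw [hN, closure_le]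
    rintro _ ⟨c, hc, y, hy, rfl⟩
    exact mul_mem (mul_mem hc hy.2) (inv_mem hc)
  have key : ∀ n ∈ NX hS.sy (⊤ : Submodule F B), ∃ j ∈ N, ∀ m : M, π (j • m) = n (π m) := by
    intro n hn
    induction hn using Subgroup.closure_induction with
    | mem f hf =>
      obtain ⟨u, _, d, rfl⟩ := hf
      by_cases hu : u = 0
      · exact ⟨1, one_mem _, fun m => by rw [one_smul, tvE_apply, hu, smul_zero, add_zero]⟩
      obtain ⟨c, hc, hcu⟩ := exists_one' hS (π_ne hb hS ha ha1) hu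
      obtain ⟨y, hy, hym⟩ := exists_tv hS (π a) d
      have hyA := tv_mem hb hS hA ha ha1 hy hym
      refine ⟨c * y * c⁻¹, subset_closure ⟨c, hc, y, hyA, rfl⟩, fun m => ?_⟩
      rw [conj_tv hS hc hym, hcu, tvE_apply]
    | one => exact ⟨1, one_mem _, fun m => by rw [one_smul]; rfl⟩
    | mul x y _ _ hx hy =>
      obtain ⟨j, hj, hjm⟩ := hx
      obtain ⟨k, hk, hkm⟩ := hy
      exact ⟨j * k, mul_mem hj hk, fun m => by rw [mul_smul, hjm, hkm, LinearEquiv.mul_apply]⟩
    | inv x _ hx =>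
      obtain ⟨j, hj, hjm⟩ := hx
      refine ⟨j⁻¹, inv_mem hj, fun m => ?_⟩
      have h1 := hjm (j⁻¹ • m)
      rw [smul_inv_smul] at h1
      change π (j⁻¹ • m) = x.symm (π m)
      rw [h1, x.symm_apply_apply]
  intro j hj
  obtain ⟨f, hf, hfm⟩ := hS.lin j hj
  obtain ⟨k, hk, hkm⟩ := key f (mem_NX_top hS.sy hf)
  have : j = k := faith' hb hS hj (hNJ hk) fun m => by rw [hfm, hkm]
  rw [this]; exact hk

/-- **trans** -/
theorem ktrans : KTrans M J := by
  have := blk_charTwo hb hS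
  intro ht x hx y hy hx1 hy1
  have h1 : ∀ z ∈ em M J, π z = 0 → z = 1 := by
    intro z hz hz0
    have : z ∈ tm M J := ⟨hz, (hS.ker z).mp hz0⟩
    rw [ht] at this
    exact mem_bot.mp this
  obtain ⟨j, hj, hjm⟩ := exists_one' hS (u := π y) (fun h => hx1 (h1 x hx h)) (fun h => hy1 (h1 y hy h))
  refine ⟨j, hj, ?_⟩
  have hjx : j • x ∈ em M J := by
    have h2 : (j • x) * x⁻¹ ∈ em M J := subset_closure ⟨j, hj, x, mem_top _, rfl⟩
    have h3 := mul_mem h2 hx
    rwa [inv_mul_cancel_right] at h3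
  have h4 := h1 ((j • x) * y⁻¹) (mul_mem hjx (inv_mem hy)) (by rw [hS.mul_inv, hjm, sub_self])
  exact mul_inv_eq_one.mp h4

/-- a `J`-equivariant additive section shows `tm M J = ⊥` -/
theorem split_of_section (s : B → M) (hs0 : s 0 = 1) (hπ : ∀ x, π (s x) = x)
    (hadd : ∀ x y, s (x + y) = s x * s y) (heq : ∀ j ∈ J, ∀ m : M, j • s (π m) = s (π (j • m))) :
    tm M J = ⊥ := by
  let S : Subgroup M :=
    { carrier := Set.range s
      one_mem' := ⟨0, hs0⟩
      mul_mem' := by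
        rintro _ _ ⟨x, rfl⟩ ⟨y, rfl⟩
        exact ⟨x + y, hadd x y⟩
      inv_mem' := by
        rintro _ ⟨x, rfl⟩
        refine ⟨x, ?_⟩
        exact (inv_eq_of_mul_eq_one_right (hb.sq _)).symm }
  have hES : em M J ≤ S := by
    rw [← hb.perf, cm, closure_le]
    rintro _ ⟨j, hj, m, hm, rfl⟩
    have h1 : m * (s (π m))⁻¹ ∈ zm M J := by rw [hS.eq_iff, hπ]
    have h2 := zfix h1 hj
    rw [smul_mul', smul_inv', heq j hj m] at h2
    have h3 : (j • m) * m⁻¹ = s (π (j • m)) * (s (π m))⁻¹ := by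
      have e1 : j • m = m * (s (π m))⁻¹ * s (π (j • m)) := by
        rw [← h2, inv_mul_cancel_right]
      have e2 : (j • m) * m⁻¹ = m * (s (π m))⁻¹ * s (π (j • m)) * m⁻¹ := congrArg (· * m⁻¹) e1
      rw [e2, mul_comm, ← mul_assoc, ← mul_assoc, inv_mul_cancel, one_mul, mul_comm]
    rw [h3]
    exact S.mul_mem ⟨_, rfl⟩ (S.inv_mem ⟨_, rfl⟩)
  rw [eq_bot_iff]
  rintro m ⟨hm1, hm2⟩
  obtain ⟨x, rfl⟩ := hES hm1
  have h0 : x = 0 := by rw [← hπ x]; exact (hS.ker _).mpr hm2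
  rw [h0, hs0]
  exact one_mem _

/-- **meets** -/
theorem kmeets {A : Subgroup H} (hA : ExJ lam A J) (hfour : ∃ μ : F, μ ≠ 0 ∧ μ ≠ 1) : KMeets M A J := by
  classical
  have := blk_charTwo hb hS
  obtain ⟨a, ha, ha1⟩ := exists_ne_one hb.four
  intro htm hbot
  apply htm
  -- `L u` = [E, Z_u]
  let L : B → Subgroup M := fun u => closure {x | ∃ z ∈ J, (∃ d : F, ∀ m : M, π (z • m) = π m + (d * ω (π m) u) • u) ∧
    ∃ e ∈ em M J, x = (z • e) * e⁻¹}
  have hEinv : ∀ j ∈ J, ∀ e ∈ em M J, j • e ∈ em M J := by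
    intro j hj e he
    have h2 : (j • e) * e⁻¹ ∈ em M J := subset_closure ⟨j, hj, e, mem_top _, rfl⟩
    have h3 := mul_mem h2 he
    rwa [inv_mul_cancel_right] at h3
  have hLE : ∀ u, L u ≤ em M J := by
    intro u
    rw [closure_le]
    rintro _ ⟨z, hz, _, e, he, rfl⟩
    exact mul_mem (hEinv z hz e he) (inv_mem he)
  have hLinf : ∀ u, u ≠ 0 → ∀ x ∈ L u, π x = 0 → x = 1 := by
    intro u hu
    obtain ⟨c, hc, hcu⟩ := exists_one' hS (π_ne hb hS ha ha1) hu
    have h1 : ∀ x ∈ L u, c⁻¹ • x ∈ cm (em M J) (A ⊓ J) := by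
      intro x hx
      induction hx using closure_induction with
      | mem x hx =>
        obtain ⟨z, hz, ⟨d, hd⟩, e, he, rfl⟩ := hx
        have h2 : c⁻¹ * z * c ∈ A ⊓ J := by
          refine tv_mem hb hS hA ha ha1 (mul_mem (mul_mem (inv_mem hc) hz) hc) (d := d) fun m => ?_
          have h3 := conj_tv hS (a := c • a) (inv_mem hc) (y := z) (d := d) (fun m => by rw [hcu]; exact hd m) m
          rw [inv_inv, inv_smul_smul] at h3
          exact h3
        refine subset_closure ⟨_, h2, c⁻¹ • e, hEinv _ (inv_mem hc) e he, ?_⟩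
        rw [smul_mul', smul_inv', mul_smul, mul_smul, smul_inv_smul]
      | one => rw [smul_one]; exact one_mem _
      | mul x y _ _ hx hy => rw [smul_mul']; exact mul_mem hx hy
      | inv x _ hx => rw [smul_inv']; exact inv_mem hx
    intro x hx hx0
    have h2 : c⁻¹ • x ∈ cm (em M J) (A ⊓ J) ⊓ zm M J := by
      refine ⟨h1 x hx, (hS.ker _).mp ?_⟩
      have h3 := hS.congr (inv_mem hc) (hx0.trans hS.one.symm)
      rw [h3, smul_one, hS.one]
    rw [hbot, mem_bot, smul_eq_iff_eq_inv_smul, smul_one] at h2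
    exact h2
  have hLequiv : ∀ u, ∀ j ∈ J, ∀ n : M, π n = u → ∀ x ∈ L u, j • x ∈ L (π (j • n)) := by
    intro u j hj n hn x hx
    induction hx using closure_induction with
    | mem x hx =>
      obtain ⟨z, hz, ⟨d, hd⟩, e, he, rfl⟩ := hx
      refine subset_closure ⟨j * z * j⁻¹, mul_mem (mul_mem hj hz) (inv_mem hj), ⟨d, fun m => ?_⟩, j • e,
        hEinv j hj e he, ?_⟩
      · exact conj_tv hS (a := n) hj (y := z) (d := d) (fun m => by rw [hn]; exact hd m) m
      · rw [smul_mul', smul_inv', mul_smul, mul_smul, inv_smul_smul]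
    | one => rw [smul_one]; exact one_mem _
    | mul x y _ _ hx hy => rw [smul_mul']; exact mul_mem hx hy
    | inv x _ hx => rw [smul_inv']; exact inv_mem hx
  have hex : ∀ u, u ≠ 0 → ∃ x ∈ L u, π x = u := by
    intro u hu
    obtain ⟨w, hw⟩ := hS.sy.exists_one hu
    -- a vector of `em M J` over `w`
    obtain ⟨m, hm⟩ := hS.surj w
    have hm' : m ∈ em M J ⊔ zm M J := by rw [hb.cover]; exact mem_top _
    obtain ⟨e, he, z, hz, rfl⟩ := mem_sup.mp hm'
    have hew : π e = w := by rw [← hm, hS.add, (hS.ker z).mpr hz, add_zero]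
    obtain ⟨j, hj, hjm⟩ := exists_tv hS u 1
    refine ⟨(j • e) * e⁻¹, subset_closure ⟨j, hj, ⟨1, hjm⟩, e, he, rfl⟩, ?_⟩
    rw [hS.mul_inv, hjm, hew, hS.sy.symm w u, hw, one_mul, one_smul, add_sub_cancel_left]
  choose! s hsL hsπ using hex
  let s' : B → M := fun u => if u = 0 then 1 else s u
  have hs'0 : s' 0 = 1 := if_pos rfl
  have hs' : ∀ u, u ≠ 0 → s' u = s u := fun u hu => if_neg hu
  have hπ' : ∀ x, π (s' x) = x := by
    intro x
    by_cases hx : x = 0
    · rw [hx, hs'0, hS.one]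
    · rw [hs' x hx, hsπ x hx]
  have heq : ∀ j ∈ J, ∀ m : M, j • s' (π m) = s' (π (j • m)) := by
    intro j hj m
    by_cases hm : π m = 0
    · have h1 := hS.congr hj (hm.trans hS.one.symm)
      rw [smul_one, hS.one] at h1
      rw [hm, h1, hs'0, smul_one]
    have hm' : π (j • m) ≠ 0 := by
      intro h
      apply hm
      have h1 := hS.congr (inv_mem hj) (h.trans hS.one.symm)
      rw [smul_one, hS.one, inv_smul_smul] at h1
      exact h1
    rw [hs' _ hm, hs' _ hm']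
    have h1 := hLequiv (π m) j hj m rfl _ (hsL _ hm)
    have h2 := hLinf _ hm' ((j • s (π m)) * (s (π (j • m)))⁻¹) (mul_mem h1 (inv_mem (hsL _ hm'))) (by
      rw [hS.mul_inv, hS.congr hj (hsπ _ hm), hsπ _ hm', sub_self])
    exact mul_inv_eq_one.mp h2
  have hsE : ∀ x, s' x ∈ em M J := by
    intro x
    by_cases hx : x = 0
    · rw [hx, hs'0]; exact one_mem _
    · rw [hs' x hx]; exact hLE x (hsL x hx)
  refine split_of_section hb hS s' hs'0 hπ' ?_ heq
  refine additive_of_nonperp hS.sy hfour s' hs'0 (fun x => hb.sq _) ?_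
  intro x y hxy
  have hy0 : y ≠ 0 := by rintro rfl; exact hxy (map_zero _)
  obtain ⟨j, hj, hjm⟩ := exists_tv hS y (ω x y)⁻¹
  have h1 := heq j hj (s' x)
  rw [hπ', hjm, hπ', inv_mul_cancel₀ hxy, one_smul] at h1
  have h2 : (j • s' x) * (s' x)⁻¹ ∈ L y := subset_closure ⟨j, hj, ⟨_, hjm⟩, s' x, hsE x, rfl⟩
  have h3 := hLinf y hy0 ((j • s' x) * (s' x)⁻¹ * (s y)⁻¹) (mul_mem h2 (inv_mem (hsL y hy0))) (by
    rw [hS.mul_inv, hS.mul_inv, h1, hπ', hπ', hsπ y hy0, add_sub_cancel_left, sub_self])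
  rw [mul_inv_eq_one, mul_inv_eq_iff_eq_mul] at h3
  rw [← h1, h3, hs' y hy0, mul_comm]

end blk

end Cfsg.Agent.Omega.NO3S.FarQ.KSp
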