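import Cfsg.Agent.Omega.NO3S.FarQ.KSpBase

/-!
# FarQ, K-facts for `Sp(B)`, part 2: the torus

`torus` : for `c ∈ F` with `c π(a) ∈ π(lam)` there is `θ ∈ J` with `π(θ a) = c π(a)` and `[t, θ] ∈ T ∩ J` for all
`t ∈ N_T(J)`.
-/

set_option autoImplicit false

namespace Cfsg.Agent.Omega.NO3S.FarQ.KSp

open Subgroup Cfsg.Agent.ZN Cfsg.Agent.Omega.NO3S.PT SpLin
open Cfsg.Agent.ClassTwoFusion.Quad (cv mem_cv cv_anti)
open scoped Pointwise

variable {H M : Type*} [Group H] [CommGroup M] [MulDistribMulAction H M]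
variable {F B : Type*} [Field F] [AddCommGroup B] [Module F B] {ω : LinearMap.BilinForm F B}
variable {T : Subgroup H} {lam : Subgroup M} {J : Subgroup H} {π : M → B}

theorem cj_inv_mem {t : H} (ht : cj t J = J) {j : H} (hj : j ∈ J) : t⁻¹ * j * t ∈ J := by
  rw [← ht] at hj
  exact PT.mem_cj.mp hj

theorem cj_inv {t : H} (ht : cj t J = J) : cj t⁻¹ J = J := by
  conv_lhs => rw [← ht]
  rw [PT.cj_cj, inv_mul_cancel, PT.cj_one]

theorem zm_inv {t : H} (ht : cj t J = J) {z : M} (hz : z ∈ zm M J) : t • z ∈ zm M J := by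
  intro j hj
  have h1 : (t⁻¹ * j * t) • z = z := hz _ (cj_inv_mem ht hj)
  calc j • t • z = t • (t⁻¹ * j * t) • z := by rw [← mul_smul, ← mul_smul]; congr 1; group
    _ = t • z := by rw [h1]

variable (hb : Blk T lam J) (hS : IsSymp F B ω J π)
include hS

theorem IsSymp.tcongr {t : H} (ht : cj t J = J) {m n : M} (h : π m = π n) : π (t • m) = π (t • n) := by
  rw [← hS.eq_iff, ← smul_inv', ← smul_mul']
  exact zm_inv ht ((hS.eq_iff _ _).mpr h)

/-- `t ∈ N_H(J)` acts semilinearly on `B`. -/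
theorem semi [CharP F 2] {v : M} (hv : π v ≠ 0) {t : H} (ht : cj t J = J) (c : F) :
    ∃ μ : F, ∀ m n : M, π n = c • π m → π (t • n) = μ • π (t • m) := by
  have ht' := cj_inv ht
  let s : B → M := Function.surjInv hS.surj
  have hs : ∀ x, π (s x) = x := Function.surjInv_eq hS.surj
  let f : B → B := fun x => π (t • s (c • π (t⁻¹ • s x)))
  have hadd : ∀ x y, f (x + y) = f x + f y := by
    intro x y
    have h1 : π (t⁻¹ • s (x + y)) = π (t⁻¹ • s x) + π (t⁻¹ • s y) := by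
      rw [← hS.add, ← smul_mul']
      exact hS.tcongr ht' (by rw [hs, hS.add, hs, hs])
    change π (t • s (c • π (t⁻¹ • s (x + y)))) = _
    rw [h1]
    change _ = π (t • s (c • π (t⁻¹ • s x))) + π (t • s (c • π (t⁻¹ • s y)))
    rw [← hS.add (t • s (c • π (t⁻¹ • s x))) (t • s (c • π (t⁻¹ • s y))), ← smul_mul' t]
    refine hS.tcongr ht ?_
    rw [hs, hS.add, hs, hs, smul_add]
  have hf : ∀ u d x, f (tv ω u d x) = tv ω u d (f x) := by
    intro u d x
    obtain ⟨j, hj, hjm⟩ := exists_tv hS u d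
    have hg := cj_inv_mem ht hj
    have h1 : π (t⁻¹ • s (tv ω u d x)) = π ((t⁻¹ * j * t) • t⁻¹ • s x) := by
      rw [← mul_smul, mul_assoc, mul_assoc, mul_inv_cancel, mul_one, mul_smul]
      exact hS.tcongr ht' (by rw [hs, hjm, hs]; rfl)
    change π (t • s (c • π (t⁻¹ • s (tv ω u d x)))) = _
    rw [h1]
    have h2 : π (t • s (c • π ((t⁻¹ * j * t) • t⁻¹ • s x))) =
        π (j • t • s (c • π (t⁻¹ • s x))) := by
      have e : j • t • s (c • π (t⁻¹ • s x)) = t • (t⁻¹ * j * t) • s (c • π (t⁻¹ • s x)) := by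
        rw [← mul_smul, ← mul_smul]; congr 1; group
      rw [e]
      refine hS.tcongr ht ?_
      rw [hs]
      exact (hS.smul_eq hg (hs _)).symm
    rw [h2, hjm]
    rfl
  obtain ⟨μ, hμ⟩ := exists_scalar hS.sy hadd hf hv
  refine ⟨μ, fun m n h => ?_⟩
  have h1 := hμ (π (t • m))
  have h2 : f (π (t • m)) = π (t • n) := by
    refine hS.tcongr ht ?_
    rw [hs, h]
    congr 1
    have := hS.tcongr ht' (hs (π (t • m)))
    rw [this, inv_smul_smul]
  rw [← h2, h1]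

/-- `t` maps `v^⊥` to `(t v)^⊥` -/
theorem tperp [CharP F 2] {a : M} (ha0 : π a ≠ 0) {t : H} (ht : cj t J = J) (hta : t • a = a) {m : M}
    (hm : ω (π m) (π a) = 0) : ω (π (t • m)) (π a) = 0 := by
  -- the element `t⁻¹ z t`, `z` a transvection with centre `v`
  obtain ⟨z, hz, hzm⟩ := exists_tv hS (π a) 1
  have ht' := cj_inv ht
  have hta' : t⁻¹ • a = a := by rw [inv_smul_eq_iff, hta]
  have hg := cj_inv_mem ht hz
  have h1 : ∀ n : M, ∃ κ : F, π ((t⁻¹ * z * t) • n) = π n + κ • π a := by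
    intro n
    obtain ⟨k, hk⟩ := hS.surj ((1 * ω (π (t • n)) (π a)) • π a)
    obtain ⟨μ, hμ⟩ := semi hS ha0 ht' (1 * ω (π (t • n)) (π a))
    refine ⟨μ, ?_⟩
    have e : π ((t⁻¹ * z * t) • n) = π (t⁻¹ • ((t • n) * k)) := by
      rw [mul_smul, mul_smul]
      exact hS.tcongr ht' (by rw [hzm, hS.add, hk])
    rw [e, smul_mul', inv_smul_smul, hS.add, hμ a k hk, hta']
  have h2 : π ((t⁻¹ * z * t) • m) = π m := by
    obtain ⟨κ, hκ⟩ := h1 m
    obtain ⟨u, hu⟩ := hS.sy.exists_ne ha0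
    obtain ⟨x, rfl⟩ := hS.surj u
    obtain ⟨κ', hκ'⟩ := h1 x
    have h3 := hS.iso hg m x
    rw [hκ, hκ'] at h3
    simp only [map_add, LinearMap.add_apply, map_smul, LinearMap.smul_apply, hm, hS.sy.alt, smul_eq_mul, mul_zero,
      add_zero] at h3
    rw [add_eq_left] at h3
    rw [hκ, (mul_eq_zero.mp h3).resolve_right hu, zero_smul, add_zero]
  have h3 : π (z • t • m) = π (t • m) := by
    have e : z • t • m = t • (t⁻¹ * z * t) • m := by rw [← mul_smul, ← mul_smul]; congr 1; group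
    rw [e]
    exact hS.tcongr ht h2
  rw [hzm, one_mul, add_eq_left] at h3
  exact (smul_eq_zero.mp h3).resolve_right ha0

include hb

/-- **The torus.** -/
theorem torus {a a' : M} (ha : a ∈ lam) (ha1 : a ≠ 1) (ha' : a' ∈ lam) {c : F} (hc : c ≠ 0)
    (haa : π a' = c • π a) : ∃ θ ∈ J, (∀ t ∈ T, cj t J = J → t * θ * t⁻¹ * θ⁻¹ ∈ T ⊓ J) ∧
      π (θ • a) = c • π a := by
  have := blk_charTwo hb hS
  have ha0 := π_ne hb hS ha ha1
  obtain ⟨f, hf⟩ := hS.sy.exists_one ha0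
  obtain ⟨θ, hθ, hθm⟩ := hS.full (hyE hS.sy hf hc) (hy_iso hS.sy hf hc)
  have hθa : π (θ • a) = c • π a := by
    rw [hθm, hyE_apply, hy_apply, hf, hS.sy.alt, mul_zero, zero_smul, add_zero, mul_one, add_smul, one_smul,
      add_comm (c • π a), ← add_assoc, add_self_eq (F := F), zero_add]
  have hθp : ∀ m : M, ω (π m) (π a) = 0 → ∃ μ : F, π (θ • m) = π m + μ • π a := by
    intro m hm
    exact ⟨_, by rw [hθm, hyE_apply, hy_apply, hm, mul_zero, zero_smul, add_zero]⟩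
  refine ⟨θ, hθ, ?_, hθa⟩
  intro t ht htJ
  have ht' := cj_inv htJ
  have hta : t • a = a := hb.fix t ht a ha
  have hta' : t⁻¹ • a = a := hb.fix _ (inv_mem ht) a ha
  have htθ : t * θ * t⁻¹ ∈ J := by
    have h1 := cj_inv_mem ht' hθ
    rwa [inv_inv] at h1
  have hgJ : t * θ * t⁻¹ * θ⁻¹ ∈ J := mul_mem htθ (inv_mem hθ)
  -- linearity of `t` for the scalar `c`
  have hlin : ∀ s ∈ T, cj s J = J → ∀ m n : M, π n = c • π m → π (s • n) = c • π (s • m) := by
    intro s hs hsJ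
    obtain ⟨μ, hμ⟩ := semi hS ha0 hsJ c
    have h1 := hμ a a' haa
    rw [hb.fix s hs a ha, hb.fix s hs a' ha', haa] at h1
    have h2 : μ = c := smul_left_injective F ha0 h1.symm
    rw [h2] at hμ; exact hμ
  -- `F v` is invariant
  have hline : ∀ s ∈ T, cj s J = J → ∀ k : M, (∃ μ : F, π k = μ • π a) → ∃ μ : F, π (s • k) = μ • π a := by
    rintro s hs hsJ k ⟨μ, hμ⟩
    obtain ⟨ν, hν⟩ := semi hS ha0 hsJ μ
    exact ⟨ν, by rw [hν a k hμ, hb.fix s hs a ha]⟩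
  refine ⟨mem_T hb hS ha hgJ ?_ ?_, hgJ⟩
  · -- the vector `v`
    have e1 : π a = c • π (θ⁻¹ • a) := by
      have h1 := hS.smul_eq (inv_mem hθ) (m := a) (n := θ • a) hθa
      rw [inv_smul_smul] at h1
      exact h1
    have e2 := hlin t⁻¹ (inv_mem ht) ht' _ _ e1
    rw [hta'] at e2
    -- e2 : π a = c • π (t⁻¹ θ⁻¹ a)
    have e3 := hS.smul_eq hθ e2
    rw [hθa] at e3
    have e4 : π a = π (θ • t⁻¹ • θ⁻¹ • a) := smul_right_injective B hc e3
    have e5 := hS.tcongr htJ e4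
    rw [hta] at e5
    rw [mul_smul, mul_smul, mul_smul]
    exact e5.symm
  · intro m hm
    have hn0 : ω (π (θ⁻¹ • m)) (π a) = 0 := by
      have h1 := hS.iso hθ (θ⁻¹ • m) a
      rw [smul_inv_smul, hθa, map_smul, hm, smul_zero] at h1
      exact h1.symm
    obtain ⟨μ1, hμ1⟩ := hθp _ hn0
    rw [smul_inv_smul] at hμ1
    -- m = n k
    obtain ⟨k, hk⟩ := hS.surj (μ1 • π a)
    have e1 : π m = π ((θ⁻¹ • m) * k) := by rw [hS.add, hk, hμ1]
    have e2 := hS.tcongr ht' e1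
    rw [smul_mul', hS.add] at e2
    obtain ⟨μ2, hμ2⟩ := hline t⁻¹ (inv_mem ht) ht' k ⟨μ1, hk⟩
    rw [hμ2] at e2
    have hn1 : ω (π (t⁻¹ • θ⁻¹ • m)) (π a) = 0 := tperp hS ha0 ht' hta' hn0
    obtain ⟨μ3, hμ3⟩ := hθp _ hn1
    obtain ⟨k', hk'⟩ := hS.surj ((μ3 + μ2) • π a)
    have e3 : π (θ • t⁻¹ • θ⁻¹ • m) = π ((t⁻¹ • m) * k') := by
      rw [hμ3, hS.add, hk', e2, add_smul]
      have h1 := add_self_eq (F := F) (μ2 • π a)
      calc π (t⁻¹ • θ⁻¹ • m) + μ3 • π a = π (t⁻¹ • θ⁻¹ • m) + (μ2 • π a + μ2 • π a) + μ3 • π a := by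
            rw [h1, add_zero]
        _ = π (t⁻¹ • θ⁻¹ • m) + μ2 • π a + (μ3 • π a + μ2 • π a) := by abel
    have e4 := hS.tcongr htJ e3
    rw [smul_mul', smul_inv_smul, hS.add] at e4
    obtain ⟨μ4, hμ4⟩ := hline t ht htJ k' ⟨_, hk'⟩
    refine ⟨μ4, ?_⟩
    rw [mul_smul, mul_smul, mul_smul, e4, hμ4]

/-- **tor** -/
theorem ktor : KTor T lam J := by
  have hfin := hb.finM
  obtain ⟨a, ha, ha1⟩ := exists_ne_one hb.four
  have hex : ∃ a' ∈ lam, a' ≠ 1 ∧ a' ≠ a := by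
    by_contra h
    push Not at h
    have h4 := hb.four
    have h1 : (lam : Set M) ⊆ {1, a} := by
      intro x hx
      by_cases hx1 : x = 1
      · exact Or.inl hx1
      · exact Or.inr (h x hx hx1)
    have h2 : Nat.card lam ≤ 2 := by
      have h3 : Set.ncard (lam : Set M) ≤ Set.ncard ({1, a} : Set M) := Set.ncard_le_ncard h1 (Set.toFinite _)
      have h5 : Set.ncard ({1, a} : Set M) ≤ 2 := by
        refine (Set.ncard_insert_le _ _).trans ?_
        rw [Set.ncard_singleton]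
      have h6 : Nat.card lam = Set.ncard (lam : Set M) := rfl
      omega
    omega
  obtain ⟨a', ha', ha'1, ha'a⟩ := hex
  obtain ⟨c, hc⟩ := exists_smul hb hS ha ha1 ha'
  have hc0 : c ≠ 0 := by
    rintro rfl
    rw [zero_smul] at hc
    exact π_ne hb hS ha' ha'1 hc
  have hc1 : c ≠ 1 := by
    rintro rfl
    rw [one_smul] at hc
    exact ha'a (π_inj hb hS ha' ha hc)
  obtain ⟨θ, hθ, hθT, hθa⟩ := torus hb hS ha ha1 ha' hc0 hc
  refine ⟨θ, hθ, hθT, fun b hb' hbz => ?_⟩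
  obtain ⟨μ, hμ⟩ := exists_smul hb hS ha ha1 hb'
  rw [hS.eq_iff, hS.smul_eq hθ hμ, hθa, hμ, smul_smul] at hbz
  have h1 : μ * c = μ := smul_left_injective F (π_ne hb hS ha ha1) hbz
  by_contra hb1
  have hμ0 : μ ≠ 0 := by
    rintro rfl
    rw [zero_smul] at hμ
    exact π_ne hb hS hb' hb1 hμ
  exact hc1 (mul_left_cancel₀ hμ0 (by rw [h1, mul_one]))

theorem exists_four : ∃ μ : F, μ ≠ 0 ∧ μ ≠ 1 := by
  have hfin := hb.finM
  obtain ⟨a, ha, ha1⟩ := exists_ne_one hb.four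
  by_contra hF
  push Not at hF
  have h4 := hb.four
  have h1 : (lam : Set M) ⊆ {1, a} := by
    intro x hx
    by_cases hx1 : x = 1
    · exact Or.inl hx1
    refine Or.inr ?_
    obtain ⟨μ, hμ⟩ := exists_smul hb hS ha ha1 hx
    by_cases hμ0 : μ = 0
    · rw [hμ0, zero_smul] at hμ
      exact absurd hμ (π_ne hb hS hx hx1)
    · rw [hF μ hμ0, one_smul] at hμ
      exact π_inj hb hS hx ha hμ
  have h2 : Nat.card lam ≤ 2 := by
    have h3 : Set.ncard (lam : Set M) ≤ Set.ncard ({1, a} : Set M) := Set.ncard_le_ncard h1 (Set.toFinite _)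
    have h5 : Set.ncard ({1, a} : Set M) ≤ 2 := by
      refine (Set.ncard_insert_le _ _).trans ?_
      rw [Set.ncard_singleton]
    have h6 : Nat.card lam = Set.ncard (lam : Set M) := rfl
    omega
  omega

end Cfsg.Agent.Omega.NO3S.FarQ.KSp
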