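import Cfsg.Agent.Omega.NO3S.FarQ.KSp

/-!
# FarQ, K-facts for `SL₂(F) = Sp₂(F)`

`isSymp_of_sl_two` : a block of type `SL(B)`, `dim B = 2`, is a symplectic block; `kfacts_sl_two`.
-/

set_option autoImplicit false

namespace Cfsg.Agent.Omega.NO3S.FarQ.KSp

open Subgroup Cfsg.Agent.ZN Cfsg.Agent.Omega.NO3S.PT SpLin
open scoped Pointwise

variable {H M : Type*} [Group H] [CommGroup M] [MulDistribMulAction H M]
variable {F B : Type*} [Field F] [AddCommGroup B] [Module F B]
variable {T : Subgroup H} {lam : Subgroup M} {J : Subgroup H} {π : M → B}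

theorem isSymp_of_sl_two (hB : IsSL F B J π) (h2 : Module.finrank F B = 2) :
    ∃ ω : LinearMap.BilinForm F B, IsSymp F B ω J π := by
  classical
  have : FiniteDimensional F B := Module.finite_of_finrank_pos (by omega)
  let b : Module.Basis (Fin 2) F B := Module.finBasisOfFinrankEq F B h2
  let ω : LinearMap.BilinForm F B := LinearMap.mk₂ F
    (fun x y => b.repr x 0 * b.repr y 1 - b.repr y 0 * b.repr x 1)
    (fun x x' y => by simp only [map_add, Finsupp.add_apply]; ring)
    (fun c x y => by simp only [map_smul, Finsupp.smul_apply, smul_eq_mul]; ring)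
    (fun x y y' => by simp only [map_add, Finsupp.add_apply]; ring)
    (fun c x y => by simp only [map_smul, Finsupp.smul_apply, smul_eq_mul]; ring)
  have hω : ∀ x y, ω x y = b.det ![x, y] := by
    intro x y
    rw [Module.Basis.det_apply, Matrix.det_fin_two]
    simp only [Module.Basis.toMatrix_apply, Matrix.cons_val_zero, Matrix.cons_val_one]
    rfl
  have hf : ∀ f : B ≃ₗ[F] B, ∀ x y, ω (f x) (f y) = (LinearEquiv.det f : F) * ω x y := by
    intro f x y
    rw [hω, hω, LinearEquiv.coe_det, ← Module.Basis.det_comp]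
    congr 1
    funext i
    fin_cases i <;> rfl
  have hsy : Sy ω := by
    refine ⟨fun x => ?_, fun x hx => ?_⟩
    · change b.repr x 0 * b.repr x 1 - b.repr x 0 * b.repr x 1 = 0
      ring
    · apply b.repr.injective
      rw [map_zero]
      ext i
      fin_cases i
      · have h1 := hx (b 1)
        change b.repr x 0 * b.repr (b 1) 1 - b.repr (b 1) 0 * b.repr x 1 = 0 at h1
        rw [Module.Basis.repr_self, Finsupp.single_eq_same, Finsupp.single_eq_of_ne (by decide), mul_one, zero_mul,
          sub_zero] at h1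
        exact h1
      · have h1 := hx (b 0)
        change b.repr x 0 * b.repr (b 0) 1 - b.repr (b 0) 0 * b.repr x 1 = 0 at h1
        rw [Module.Basis.repr_self, Finsupp.single_eq_same, Finsupp.single_eq_of_ne (by decide), mul_zero, one_mul,
          zero_sub, neg_eq_zero] at h1
        exact h1
  refine ⟨ω, { hB.toProj with sy := hsy, lin := ?_, full := ?_ }⟩
  · intro j hj
    obtain ⟨f, hf1, hfm⟩ := hB.lin j hj
    exact ⟨f, fun x y => by rw [hf, hf1, Units.val_one, one_mul], hfm⟩
  · intro f hf'
    refine hB.full f ?_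
    apply Units.ext
    rw [Units.val_one]
    have h1 := hf f (b 0) (b 1)
    rw [hf'] at h1
    have h01 : ω (b 0) (b 1) = 1 := by
      rw [hω]
      have : ![b 0, b 1] = b := by
        funext i
        fin_cases i <;> rfl
      rw [this, Module.Basis.det_self]
    rw [h01, mul_one] at h1
    exact h1.symm

/-- **K-facts for `SL₂(F)`.** -/
theorem kfacts_sl_two {R : Type*} [CommGroup R] (hR : ∀ r : R, r * r = 1) (hcard : Nat.card R = Nat.card lam)
    (hB : IsSL F B J π) (h2 : Module.finrank F B = 2) : KFacts R T lam J := by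
  obtain ⟨ω, hS⟩ := isSymp_of_sl_two hB h2
  exact kfacts_symp hS hR hcard

end Cfsg.Agent.Omega.NO3S.FarQ.KSp
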