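import Cfsg.Agent.Omega.NO3S.FarQ.Plug
import Cfsg.Agent.Omega.NO3S.FarQ.Real

/-!
# FarQ: `NS` and `SP` from the realised flag `RD` and the K-input `PSq`

* `ext_of_rd` : `RD` gives `Plug.Ext`;
* `ns_rd`, `sp_rd` : `NS`, `SP` over `Geom`;
* `inv_pt` : an involution fixing a point centralises it (over `PL`);
* `ns_pl`, `sp_pl` : `NS`, `SP` over `PL`; `far_pl` : no critical pair at distance `n ≥ 3`;
  `mid_pl` : at distance 2 `Single`.
-/

set_option autoImplicit false
set_option linter.unusedSectionVars false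

namespace Cfsg.Agent.Omega.NO3S.FarQ

open Subgroup Cfsg Cfsg.Agent.ZN Cfsg.Agent.MinSimple.VModule Cfsg.Agent.Omega.NOThree.Pts
open Cfsg.Agent.Omega.NOThree.LemmaM (NoOver)
open Cfsg.Agent.Omega.NO3S.FarQ.Glue Cfsg.Agent.Omega.NO3S.FarQ.Asm

section geom

variable {G X L : Type*} [Group G] [MulAction G X] [MulAction G L]
variable {inc : X → L → Prop} {R W : X → Subgroup G} {V : L → Subgroup G} {s t n : ℕ}
variable {H M K : Type*} [Group H] [CommGroup M] [MulDistribMulAction H M] [CommGroup K]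
variable {p : X} {l : L} {Sy : Subgroup G} {ρ : G → H} {π : G → M} {ζ : K →* G} {T : Subgroup H}
  {lam U : Subgroup M} {Kh : Subgroup (M →* K)}

/-- `RD` gives `Plug.Ext`. -/
theorem ext_of_rd (F : RD inc R W V p l Sy ρ π ζ T lam U Kh) : ∃ κ : G → K, Plug.Ext inc R W V p l ρ π T Kh Sy κ := by
  classical
  have hex : ∀ g : G, ∃ r : K, g ∈ R p → ζ r = g := fun g => by
    by_cases hg : g ∈ R p
    · obtain ⟨r, hr⟩ := (F.ran g).1 hg
      exact ⟨r, fun _ => hr⟩
    · exact ⟨1, fun h => absurd h hg⟩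
  choose κ hκ using hex
  have hζ : ∀ r : K, κ (ζ r) = r := fun r => F.inj (hκ _ ((F.ran _).2 ⟨r, rfl⟩))
  refine ⟨κ, F.line, fun y z hy hyp hz hzp => F.tr z y hz hzp hy hyp, F.sy, fun g hg => (F.mT _).2 ⟨g, hg, rfl⟩,
    F.cen, ?_, ?_, ?_⟩
  · intro a ha b hb
    apply F.inj
    rw [hκ _ (mul_mem ha hb), map_mul, hκ a ha, hκ b hb]
  · intro a ha h
    rw [← hκ a ha, h, map_one]
  · intro φ hφ
    obtain ⟨k, hk, hk1⟩ := F.kh φ hφ
    refine ⟨k, hk, fun w hw => ⟨?_, ?_⟩⟩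
    · rw [hk1 w hw]
      exact (F.ran _).2 ⟨_, rfl⟩
    · rw [hk1 w hw, hζ]

variable [Finite G] {Pi : Set (Subgroup H)} (D : Geom inc R W V s t) (F : RD inc R W V p l Sy ρ π ζ T lam U Kh)
  (hflag : ∀ p' l', inc p' l' → ∃ g : G, p' = g • p ∧ l' = g • l) (hP : PSq K T lam Pi)
include D F hflag hP

theorem ns_rd (hinv : ∀ (p x : X) (m : L), inc p m → inc x m → x ≠ p → ∀ g ∈ centralizer (R p : Set G), g * g = 1 → g • x = x →
      ∀ u ∈ R x, g * u = u * g) (hn : 2 ≤ n)
    (hns : ¬ Single Pi lam) : NS inc R W V n := by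
  obtain ⟨κ, E⟩ := ext_of_rd F
  exact Plug.ns D F.toRF hflag F.flag hP E hinv hn hns

theorem sp_rd (hs : Single Pi lam) : SP inc R W V :=
  Plug.sp D F.toRF hflag F.flag hP hs

end geom

section pl

open Cfsg.Agent.Omega.NO3S.PT Cfsg.Agent.Omega.NO3S.PtGeom
open scoped Pointwise

universe u

variable {G : Type u} [Group G] [Finite G] {S : Sylow 2 G} {P V Z : Subgroup G} (h : PL S P V Z)
include h

/-- an involution fixing a point centralises it -/
theorem inv_pt (x : Pt Z) (g : G) (hg : g * g = 1) (hx : g • x = x) (u : G) (hu : u ∈ x.sg) : g * u = u * g := by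
  obtain ⟨c, rfl⟩ := x.exists_smul
  have h1 : g ∈ normalizer ((cj c Z : Subgroup G) : Set G) := cj_eq_iff.1 (congrArg Pt.sg hx)
  exact (h.conj c).two_cent ⟨1, by rw [pow_one, pow_two, hg]⟩ h1 u hu

/-- the weaker form used in `Plug` -/
theorem inv_pt' (p x : Pt Z) (m : Pt V) (_ : inc p m) (_ : inc x m) (_ : x ≠ p) (g : G)
    (_ : g ∈ centralizer (p.sg : Set G)) (hg : g * g = 1) (hx : g • x = x) (u : G) (hu : u ∈ x.sg) :
    g * u = u * g := inv_pt h x g hg hx u hu

variable {H M K : Type*} [Group H] [CommGroup M] [MulDistribMulAction H M] [CommGroup K]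
variable {ρ : G → H} {π : G → M} {ζ : K →* G} {T : Subgroup H} {lam U : Subgroup M} {Kh : Subgroup (M →* K)}
  {Pi : Set (Subgroup H)}
variable (hf : ¬ kx V Z ≤ centralizer (V : Set G)) (hO : OmQ S V)
  (F : RD (inc (Z := Z) (V := V)) (fun x => x.sg) (fun x => ws V x.sg) (fun l => l.sg) (Pt.base Z) (Pt.base V)
    (S : Subgroup G) ρ π ζ T lam U Kh) (hP : PSq K T lam Pi)
include hf hO F hP

theorem ns_pl {n : ℕ} (hn : 2 ≤ n) (hns : ¬ Single Pi lam) :
    NS (inc (Z := Z) (V := V)) (fun x => x.sg) (fun x => ws V x.sg) (fun l => l.sg) n :=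
  ns_rd (geom h hf hO) F (fun _ _ hxl => exists_smul_flag h hxl) hP (inv_pt' h) hn hns

theorem sp_pl (hs : Single Pi lam) :
    SP (inc (Z := Z) (V := V)) (fun x => x.sg) (fun x => ws V x.sg) (fun l => l.sg) :=
  sp_rd (geom h hf hO) F (fun _ _ hxl => exists_smul_flag h hxl) hP hs

/-- **FarQ**: no critical pair at distance `n ≥ 3`. -/
theorem far_pl {n : ℕ} (hn : 3 ≤ n)
    (hNO : NoOver (inc (Z := Z) (V := V)) (fun x => x.sg) (fun x => ws V x.sg) (fun l => l.sg)) {p q : Pt Z}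
    (hcr : Crit (inc (Z := Z) (V := V)) (fun x => ws V x.sg) n p q) : False := by
  refine far (geom h hf hO) hn hNO ?_ hcr
  by_cases hs : Single Pi lam
  · exact Or.inr (sp_pl h hf hO F hP hs)
  · exact Or.inl (ns_pl h hf hO F hP (by omega) hs)

/-- **MidQ**: a critical pair at distance 2 only if `Single Pi lam`. -/
theorem mid_pl (hNO : NoOver (inc (Z := Z) (V := V)) (fun x => x.sg) (fun x => ws V x.sg) (fun l => l.sg))
    {p q : Pt Z} (hcr : Crit (inc (Z := Z) (V := V)) (fun x => ws V x.sg) 2 p q) : Single Pi lam := by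
  by_contra hs
  exact mid (geom h hf hO) hNO (ns_pl h hf hO F hP le_rfl hs) hcr

end pl

end Cfsg.Agent.Omega.NO3S.FarQ
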