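import Cfsg.Agent.Omega.NO3S.FarQ.Abs

/-!
# FarQ: the K-facts, interface (TEXT 263-Q, K-input (PSq))

* `Blk T lam J` : what is known about one block `J` moving `lam` (everything K-free);
* `ExJ lam A J` : what is known about `A ∩ J` for an exact `A`;
* `Proj F B J π` : `π : M → B` is the projection onto `B = M / C_M(J)`, `F` a field acting on `B`;
  `IsSL`, `IsSp` : `B` is the natural module of `J = SL(B)`, `J = Sp(B)`;
* `KTor`, `KGens`, `KMeets`, `KTrans`, `KGood` : the statements to be proved for each type (fields of `PSq`).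
-/

set_option autoImplicit false

namespace Cfsg.Agent.Omega.NO3S.FarQ

open Subgroup Cfsg.Agent.ZN Cfsg.Agent.Omega.NO3S.PT
open Cfsg.Agent.ClassTwoFusion.Quad (cv mem_cv cv_anti)
open scoped Pointwise

variable {H M : Type*} [Group H] [CommGroup M] [MulDistribMulAction H M]

/-- One block `J` moving `lam`. -/
structure Blk (T : Subgroup H) (lam : Subgroup M) (J : Subgroup H) : Prop where
  finH : Finite H
  finM : Finite M
  sq : ∀ m : M, m * m = 1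
  cover : em M J ⊔ zm M J = ⊤
  perf : cm (em M J) J = em M J
  faith : ∀ j ∈ J, (∀ m : M, (j • m) * m⁻¹ ∈ zm M J) → j = 1
  two : IsPGroup 2 T
  /-- `T ∩ J` is a Sylow 2-subgroup of `J` -/
  syl : ¬ 2 ∣ (T ⊓ J).relIndex J
  four : 4 ≤ Nat.card lam
  fix : ∀ t ∈ T, ∀ a ∈ lam, t • a = a
  norm : ∀ h ∈ normalizer (T : Set H), ∀ a ∈ lam, h • a ∈ lam
  lin : ∀ a ∈ lam, a ≠ 1 → ∀ h : H, h • a = a → ∀ b ∈ lam, h • b = b
  inf : ∀ a ∈ lam, a ∈ zm M J → a = 1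

/-- `A ∩ J` for an exact offender `A`. -/
structure ExJ (lam : Subgroup M) (A J : Subgroup H) : Prop where
  ne : A ⊓ J ≠ ⊥
  comm : ∀ a ∈ A ⊓ J, ∀ b ∈ A ⊓ J, a * b = b * a
  sq : ∀ a ∈ A ⊓ J, a * a = 1
  quad : ∀ a ∈ A ⊓ J, ∀ b ∈ A ⊓ J, ∀ m : M, b • ((a • m) * m⁻¹) = (a • m) * m⁻¹
  /-- `A ∩ J ≤ O₂(C_J(lam))` -/
  o2 : IsPGroup 2 (oj lam A J)
  fix : ∀ a ∈ A ⊓ J, ∀ x ∈ lam, a • x = x
  card : Nat.card (A ⊓ J : Subgroup H) = (zm M (A ⊓ J)).index

/-- `π : M → B` is the projection onto `B = M / C_M(J)`. -/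
structure Proj (F B : Type*) [Field F] [AddCommGroup B] [Module F B] (J : Subgroup H) (π : M → B) : Prop where
  add : ∀ m n : M, π (m * n) = π m + π n
  surj : Function.Surjective π
  ker : ∀ m : M, π m = 0 ↔ m ∈ zm M J

/-- `B = M / C_M(J)` is the natural module of `J = SL(B)`. -/
structure IsSL (F B : Type*) [Field F] [AddCommGroup B] [Module F B] (J : Subgroup H) (π : M → B) : Prop
    extends Proj F B J π where
  dim : 2 ≤ Module.finrank F B
  lin : ∀ j ∈ J, ∃ f : B ≃ₗ[F] B, LinearEquiv.det f = 1 ∧ ∀ m : M, π (j • m) = f (π m)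
  full : ∀ f : B ≃ₗ[F] B, LinearEquiv.det f = 1 → ∃ j ∈ J, ∀ m : M, π (j • m) = f (π m)

/-- `B = M / C_M(J)` is the natural module of `J = Sp(B, ω)`, `dim B ≥ 4`. -/
structure IsSp (F B : Type*) [Field F] [AddCommGroup B] [Module F B] (ω : LinearMap.BilinForm F B)
    (J : Subgroup H) (π : M → B) : Prop extends Proj F B J π where
  dim : 4 ≤ Module.finrank F B
  alt : ω.IsAlt
  nondeg : ω.Nondegenerate
  lin : ∀ j ∈ J, ∃ f : B ≃ₗ[F] B, (∀ x y, ω (f x) (f y) = ω x y) ∧ ∀ m : M, π (j • m) = f (π m)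
  full : ∀ f : B ≃ₗ[F] B, (∀ x y, ω (f x) (f y) = ω x y) → ∃ j ∈ J, ∀ m : M, π (j • m) = f (π m)

/-! ### The statements to be proved for every type -/

/-- field `tor` -/
def KTor (T : Subgroup H) (lam : Subgroup M) (J : Subgroup H) : Prop :=
  ∃ θ ∈ J, (∀ t ∈ T, cj t J = J → t * θ * t⁻¹ * θ⁻¹ ∈ T ⊓ J) ∧ ∀ a ∈ lam, (θ • a) * a⁻¹ ∈ zm M J → a = 1

/-- field `gens` -/
def KGens (A J : Subgroup H) : Prop := J ≤ closure {x | ∃ c ∈ J, ∃ y ∈ A ⊓ J, x = c * y * c⁻¹}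

variable (M) in
/-- field `meets` -/
def KMeets (A J : Subgroup H) : Prop := tm M J ≠ ⊥ → cm (em M J) (A ⊓ J) ⊓ zm M J ≠ ⊥

variable (M) in
/-- field `trans` -/
def KTrans (J : Subgroup H) : Prop :=
  tm M J = ⊥ → ∀ x ∈ em M J, ∀ y ∈ em M J, x ≠ 1 → y ≠ 1 → ∃ j ∈ J, j • x = y

/-- field `good` -/
def KGood (R : Type*) [CommGroup R] (T : Subgroup H) (lam : Subgroup M) (A J : Subgroup H) : Prop :=
  ∃ g ∈ J, (∀ a ∈ lam, a ≠ 1 → ∃ α ∈ A ⊓ J, (α • g • a) * (g • a)⁻¹ ∉ zm M J) ∧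
    A ⊓ J ≤ closure {α | α ∈ A ⊓ J ∧ ((∀ a ∈ lam, (α • g • a) * (g • a)⁻¹ ∈ zm M J) ∨
      (GoodA R lam A J g α ∧ (A ≤ J → lam ≤ em M J → tm M J ≠ ⊥ → (∀ t ∈ T, cj t J = J) →
        GoodB R T lam A J g α)))}

/-- **The K-facts for the block `J`**: all the fields of `PSq` which depend on the type of `J`. -/
structure KFacts (R : Type*) [CommGroup R] (T : Subgroup H) (lam : Subgroup M) (J : Subgroup H) : Prop where
  tor : Blk T lam J → KTor T lam J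
  gens : ∀ A : Subgroup H, Blk T lam J → ExJ lam A J → KGens A J
  meets : ∀ A : Subgroup H, Blk T lam J → ExJ lam A J → KMeets M A J
  trans : ∀ A : Subgroup H, Blk T lam J → ExJ lam A J → KTrans M J
  good : ∀ A : Subgroup H, Blk T lam J → ExJ lam A J → KGood R T lam A J

end Cfsg.Agent.Omega.NO3S.FarQ
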