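import Cfsg.Agent.Omega.NO3S.FarQ.Glue

/-!
# NO-3S, `q ≥ 4`: the realised flag with its Sylow subgroup and `K_p` (helper263 #15995)

* `RD inc R W V p l Sy ρ π ζ T lam U Kh` : `Glue.RF`, `Abs.Flag`, `T = ρ(Sy)`, `ζ : K ≃ R_p`, `Kh` = the maps
  `m ↦ [k, w]`, `k ∈ K_p`, and the transitivity of `K_p` on the points `≠ p` of `l`;
* `RD.smul` : transport; `RD.four` : helper712's `Four.Flag`.
-/

set_option autoImplicit false
set_option linter.unusedSectionVars false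

namespace Cfsg.Agent.Omega.NO3S.FarQ

open Subgroup Cfsg Cfsg.Agent.ZN Cfsg.Agent.MinSimple.VModule Cfsg.Agent.Omega.NOThree.Pts
open Cfsg.Agent.Omega.NO3S.FarQ.Glue

variable {G X L : Type*} [Group G] [MulAction G X] [MulAction G L]
variable {inc : X → L → Prop} {R W : X → Subgroup G} {V : L → Subgroup G} {s t n : ℕ}
variable {H M K : Type*} [Group H] [CommGroup M] [MulDistribMulAction H M] [CommGroup K]

/-- **A realised flag with all its data.** -/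
structure RD (inc : X → L → Prop) (R W : X → Subgroup G) (V : L → Subgroup G) (p : X) (l : L) (Sy : Subgroup G)
    (ρ : G → H) (π : G → M) (ζ : K →* G) (T : Subgroup H) (lam U : Subgroup M) (Kh : Subgroup (M →* K)) : Prop
    extends RF inc R W V p l ρ π lam U where
  flag : Flag T lam U Kh
  sy : Sy ≤ centralizer (R p : Set G)
  mT : ∀ t, t ∈ T ↔ ∃ s ∈ Sy, ρ s = t
  cen : ∀ w ∈ W p, (∀ s ∈ Sy, s * w = w * s) → w ∈ R p
  inj : Function.Injective ζ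
  ran : ∀ g, g ∈ R p ↔ ∃ r, ζ r = g
  kh : ∀ φ ∈ Kh, ∃ k ∈ centralizer (R p : Set G), ∀ w ∈ W p, k * w * k⁻¹ * w⁻¹ = ζ (φ (π w))
  kh' : ∀ k ∈ centralizer (R p : Set G), (∀ w ∈ W p, k * w * k⁻¹ * w⁻¹ ∈ R p) →
    ∃ φ ∈ Kh, ∀ w ∈ W p, k * w * k⁻¹ * w⁻¹ = ζ (φ (π w))
  line : ∀ x, inc x l → x ≠ p → ∀ v ∈ V l, ∃ r ∈ R p, ∃ r' ∈ R x, v = r * r'
  tr : ∀ x y, inc x l → x ≠ p → inc y l → y ≠ p →
    ∃ k ∈ centralizer (R p : Set G), (∀ w ∈ W p, k * w * k⁻¹ * w⁻¹ ∈ R p) ∧ k • y = x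

namespace RD

variable {p : X} {l : L} {Sy : Subgroup G} {ρ : G → H} {π : G → M} {ζ : K →* G} {T : Subgroup H}
  {lam U : Subgroup M} {Kh : Subgroup (M →* K)}

/-- helper712's flag -/
theorem four (F : RD inc R W V p l Sy ρ π ζ T lam U Kh) {x₁ q : X} (h1 : inc x₁ l) (h2 : x₁ ≠ p)
    (h3 : ∀ f ∈ W q, f ∈ centralizer (R p : Set G)) (h4 : ∀ f ∈ W q, ∀ w ∈ W x₁, f * w = w * f) :
    Four.Flag inc R W V p x₁ q l where
  pl := F.pl
  xl := h1
  ne := h2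
  cen := h3
  com := h4
  line := F.line x₁ h1 h2
  tr y hy hyp := F.tr x₁ y h1 h2 hy hyp

/-- `lam` is helper712's `Lam` -/
theorem mem_Lam (F : RD inc R W V p l Sy ρ π ζ T lam U Kh) {m : M} : m ∈ Four.Lam π V l ↔ m ∈ lam := by
  rw [F.mlam]
  constructor
  · rintro ⟨v, hv, rfl⟩
    exact ⟨v, hv, rfl⟩
  · rintro ⟨v, hv, rfl⟩
    exact ⟨v, hv, rfl⟩

/-- Transport. -/
theorem smul (D : Geom inc R W V s t) (F : RD inc R W V p l Sy ρ π ζ T lam U Kh) (g : G) :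
    RD inc R W V (g • p) (g • l) (Sy.map (MulAut.conj g).toMonoidHom) (fun a => ρ (g⁻¹ * a * g))
      (fun w => π (g⁻¹ * w * g)) ((MulAut.conj g).toMonoidHom.comp ζ) T lam U Kh := by
  have mR : ∀ {x : X} {a : G}, a ∈ R (g • x) ↔ g⁻¹ * a * g ∈ R x := D.R_smul_iff g
  have mW : ∀ {x : X} {a : G}, a ∈ W (g • x) ↔ g⁻¹ * a * g ∈ W x := D.W_smul_iff g
  have mV : ∀ {x : L} {a : G}, a ∈ V (g • x) ↔ g⁻¹ * a * g ∈ V x := by
    intro x a
    constructor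
    · intro h
      have := D.V_smul g⁻¹ _ a h
      rwa [inv_smul_smul, inv_inv] at this
    · intro h
      have := D.V_smul g _ _ h
      have e : g * (g⁻¹ * a * g) * g⁻¹ = a := by group
      rwa [e] at this
  have hc : ∀ {a}, a ∈ centralizer (R (g • p) : Set G) → g⁻¹ * a * g ∈ centralizer (R p : Set G) := by
    intro a ha
    rw [mem_centralizer_iff] at ha ⊢
    intro r hr
    have h1 := ha (g * r * g⁻¹) (D.R_smul g p r hr)
    calc r * (g⁻¹ * a * g) = g⁻¹ * ((g * r * g⁻¹) * a) * g := by group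
      _ = g⁻¹ * (a * (g * r * g⁻¹)) * g := by rw [h1]
      _ = g⁻¹ * a * g * r := by group
  have hc' : ∀ {a}, a ∈ centralizer (R p : Set G) → g * a * g⁻¹ ∈ centralizer (R (g • p) : Set G) := by
    intro a ha
    rw [mem_centralizer_iff] at ha ⊢
    intro r hr
    have h1 := ha _ (mR.1 hr)
    calc r * (g * a * g⁻¹) = g * ((g⁻¹ * r * g) * a) * g⁻¹ := by group
      _ = g * (a * (g⁻¹ * r * g)) * g⁻¹ := by rw [h1]
      _ = g * a * g⁻¹ * r := by group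
  have hi : ∀ {x : X} {m : L}, inc x (g • m) ↔ inc (g⁻¹ • x) m := by
    intro x m
    constructor
    · intro h
      have := D.inc_smul g⁻¹ _ _ h
      rwa [inv_smul_smul] at this
    · intro h
      have := D.inc_smul g _ _ h
      rwa [smul_inv_smul] at this
  have hne : ∀ {x : X}, x ≠ g • p → g⁻¹ • x ≠ p := by
    rintro x h rfl
    exact h (smul_inv_smul g x).symm
  refine { toRF := F.toRF.smul D g, flag := F.flag, sy := ?_, mT := ?_, cen := ?_, inj := ?_, ran := ?_,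
           kh := ?_, kh' := ?_, line := ?_, tr := ?_ }
  · rintro _ ⟨s, hs, rfl⟩
    exact hc' (F.sy hs)
  · intro t
    rw [F.mT]
    constructor
    · rintro ⟨s, hs, rfl⟩
      refine ⟨_, ⟨s, hs, rfl⟩, ?_⟩
      show ρ (g⁻¹ * (g * s * g⁻¹) * g) = ρ s
      congr 1; group
    · rintro ⟨_, ⟨s, hs, rfl⟩, rfl⟩
      refine ⟨s, hs, ?_⟩
      show ρ s = ρ (g⁻¹ * (g * s * g⁻¹) * g)
      congr 1; group
  · intro w hw h
    rw [mR]
    refine F.cen _ (mW.1 hw) fun s hs => ?_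
    have h1 := h _ ⟨s, hs, rfl⟩
    have h1' : g * s * g⁻¹ * w = w * (g * s * g⁻¹) := h1
    calc s * (g⁻¹ * w * g) = g⁻¹ * (g * s * g⁻¹ * w) * g := by group
      _ = g⁻¹ * (w * (g * s * g⁻¹)) * g := by rw [h1']
      _ = g⁻¹ * w * g * s := by group
  · intro a b hab
    apply F.inj
    have h1 : g * ζ a * g⁻¹ = g * ζ b * g⁻¹ := hab
    simpa using h1
  · intro a
    rw [mR, F.ran]
    constructor
    · rintro ⟨r, hr⟩
      refine ⟨r, ?_⟩
      show g * ζ r * g⁻¹ = a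
      rw [hr]; group
    · rintro ⟨r, rfl⟩
      refine ⟨r, ?_⟩
      show ζ r = g⁻¹ * (g * ζ r * g⁻¹) * g
      group
  · intro φ hφ
    obtain ⟨k, hk, hk'⟩ := F.kh φ hφ
    refine ⟨g * k * g⁻¹, hc' hk, fun w hw => ?_⟩
    show g * k * g⁻¹ * w * (g * k * g⁻¹)⁻¹ * w⁻¹ = g * ζ (φ (π (g⁻¹ * w * g))) * g⁻¹
    rw [← hk' _ (mW.1 hw)]
    group
  · intro k hk hk'
    obtain ⟨φ, hφ, h1⟩ := F.kh' _ (hc hk) fun w hw => by
      have h2 := hk' (g * w * g⁻¹) (D.W_smul g p w hw)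
      rw [mR] at h2
      have e : g⁻¹ * (k * (g * w * g⁻¹) * k⁻¹ * (g * w * g⁻¹)⁻¹) * g =
          g⁻¹ * k * g * w * (g⁻¹ * k * g)⁻¹ * w⁻¹ := by group
      rwa [e] at h2
    refine ⟨φ, hφ, fun w hw => ?_⟩
    show k * w * k⁻¹ * w⁻¹ = g * ζ (φ (π (g⁻¹ * w * g))) * g⁻¹
    rw [← h1 _ (mW.1 hw)]
    group
  · intro x hx hxp v hv
    obtain ⟨r, hr, r', hr', h1⟩ := F.line _ (hi.1 hx) (hne hxp) _ (mV.1 hv)
    refine ⟨g * r * g⁻¹, D.R_smul g p r hr, g * r' * g⁻¹, ?_, ?_⟩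
    · have := D.R_smul g _ r' hr'
      rwa [smul_inv_smul] at this
    · calc v = g * (g⁻¹ * v * g) * g⁻¹ := by group
        _ = g * (r * r') * g⁻¹ := by rw [h1]
        _ = _ := by group
  · intro x y hx hxp hy hyp
    obtain ⟨k, hk, hk', h1⟩ := F.tr _ _ (hi.1 hx) (hne hxp) (hi.1 hy) (hne hyp)
    refine ⟨g * k * g⁻¹, hc' hk, fun w hw => ?_, ?_⟩
    · rw [mR]
      have h2 := hk' _ (mW.1 hw)
      have e : g⁻¹ * (g * k * g⁻¹ * w * (g * k * g⁻¹)⁻¹ * w⁻¹) * g =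
          k * (g⁻¹ * w * g) * k⁻¹ * (g⁻¹ * w * g)⁻¹ := by group
      rwa [e]
    · rw [mul_smul, mul_smul, h1, smul_inv_smul]

end RD

end Cfsg.Agent.Omega.NO3S.FarQ
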