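import Cfsg.Agent.Omega.NO3S.FarQ.Ends
import Cfsg.Agent.Omega.NO3S.FarQ.Syl

/-!
# FarQ, abstract part: (4.0) (TEXT 263-Q)

* `PhiOK T lam Φ J` : the properties of a group `Φ` of maps on `[M, J]` (in the application the maps `e ↦ [e, g']`,
  `g' ∈ C_p` trivial on `[M, J]`);
* `Sep Kh Φ Pi lam A g α` : `(g, α)` separates;
* `PSq.sep` : not `Single`: for some `g : H` the group `A` moves some `g • a`, and is generated by elements which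
  centralise `g • lam` or separate.
-/

set_option autoImplicit false

namespace Cfsg.Agent.Omega.NO3S.FarQ

open Subgroup Cfsg.Agent.ZN Cfsg.Agent.Omega.NO3S.PT
open Cfsg.Agent.ClassTwoFusion.Quad (cv mem_cv cv_anti)
open scoped Pointwise

variable {H M R : Type*} [Group H] [CommGroup M] [MulDistribMulAction H M] [CommGroup R]

/-- The hypotheses of `GoodB` on `Φ`. -/
structure PhiOK (T : Subgroup H) (lam : Subgroup M) (Φ : Subgroup (M → R)) (J : Subgroup H) : Prop where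
  mul : ∀ φ ∈ Φ, ∀ x ∈ em M J, ∀ y ∈ em M J, φ (x * y) = φ x * φ y
  inv : ∀ φ ∈ Φ, ∀ j ∈ J, ∃ ψ ∈ Φ, ∀ x ∈ em M J, ψ x = φ (j • x)
  f1 : ∀ a ∈ lam, a ≠ 1 → ∃ φ ∈ Φ, φ a ≠ 1
  ti : ∀ φ ∈ Φ, ∀ j ∈ J, ∀ a ∈ lam, a ≠ 1 → φ (j • a) = 1 → ∀ b ∈ lam, φ (j • b) = 1
  alt : (∃ φ ∈ Φ, ∃ e ∈ tm M J, φ e ≠ 1) ∨ ¬ ∀ t ∈ T, ∃ j ∈ J, ∀ e ∈ em M J, t • e = j • e

/-- `(g, α)` separates: `w = g • a`, `c = (α • w) w⁻¹`: some functional kills `w`, `c`, but not `[c, h]`. -/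
def Sep (Kh : Subgroup (M →* R)) (Φ : Subgroup H → Subgroup (M → R)) (Pi : Set (Subgroup H)) (lam : Subgroup M)
    (A : Subgroup H) (g α : H) : Prop :=
  ∀ a ∈ lam, a ≠ 1 → ∃ h : H, g⁻¹ * h * g ∈ closure {x | ∃ y ∈ A, ∃ c ∈ fixer lam, x = c * y * c⁻¹} ∧
    ((∃ φ ∈ Kh, φ (g • a) = 1 ∧ φ ((α • g • a) * (g • a)⁻¹) = 1 ∧
      φ ((h • ((α • g • a) * (g • a)⁻¹)) * ((α • g • a) * (g • a)⁻¹)⁻¹) ≠ 1) ∨
    ∃ J ∈ Pi, g • a ∈ em M J ∧ (α • g • a) * (g • a)⁻¹ ∈ em M J ∧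
      (h • ((α • g • a) * (g • a)⁻¹)) * ((α • g • a) * (g • a)⁻¹)⁻¹ ∈ em M J ∧ ∃ φ ∈ Φ J, φ (g • a) = 1 ∧
      φ ((α • g • a) * (g • a)⁻¹) = 1 ∧
      φ ((h • ((α • g • a) * (g • a)⁻¹)) * ((α • g • a) * (g • a)⁻¹)⁻¹) ≠ 1)

variable {T : Subgroup H} {lam U : Subgroup M} {Kh : Subgroup (M →* R)} {Pi : Set (Subgroup H)}

theorem Exact.fix {A : Subgroup H} (hA : Exact lam A) {α : H} (hα : α ∈ A) {a : M} (ha : a ∈ lam) : α • a = a :=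
  MinSimple.VModule.o2_le _ (hA.le hα) a ha

theorem oj_le {A J : Subgroup H} : oj lam A J ≤ J := by
  refine (closure_le _).2 ?_
  rintro x ⟨c, hc, y, hy, rfl⟩
  exact mul_mem (mul_mem hc.1 hy.2) (inv_mem hc.1)

theorem oj_le' {A J : Subgroup H} : oj lam A J ≤ closure {x | ∃ y ∈ A, ∃ c ∈ fixer lam, x = c * y * c⁻¹} := by
  refine (closure_le _).2 ?_
  rintro x ⟨c, hc, y, hy, rfl⟩
  exact subset_closure ⟨y, hy.1, c, hc.2, rfl⟩

/-- **(4.0)** -/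
theorem PSq.sep (F : Flag T lam U Kh) (hP : PSq R T lam Pi) {A : Subgroup H} (hA : Exact lam A)
    (hns : ¬ Single Pi lam) (Φ : Subgroup H → Subgroup (M → R))
    (hΦ : ∀ J ∈ Pi, A ≤ J → lam ≤ em M J → tm M J ≠ ⊥ → (∀ t ∈ T, cj t J = J) → PhiOK T lam (Φ J) J) :
    ∃ g : H, (∀ a ∈ lam, a ≠ 1 → ∃ α ∈ A, α • g • a ≠ g • a) ∧
      A ≤ closure {α | α ∈ A ∧ ((∀ a ∈ lam, α • g • a = g • a) ∨ Sep Kh Φ Pi lam A g α)} := by
  obtain ⟨J, hJ, hAJ⟩ := hP.exists_block hA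
  have hJl := hP.hit A hA J hJ hAJ
  obtain ⟨g, hg, hmv, hgen⟩ := hP.good A hA J hJ hAJ
  refine ⟨g, fun a ha ha1 => ?_, ?_⟩
  · obtain ⟨α, hα, h1⟩ := hmv a ha ha1
    refine ⟨α, hα.1, fun h2 => h1 ?_⟩
    rw [h2, mul_inv_cancel]
    exact one_mem _
  -- the elements of `A ∩ J`
  have key : A ⊓ J ≤ closure {α | α ∈ A ∧ ((∀ a ∈ lam, α • g • a = g • a) ∨ Sep Kh Φ Pi lam A g α)} := by
    refine hgen.trans ((closure_le _).2 ?_)
    rintro α ⟨hα, h1 | ⟨h1, h2⟩⟩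
    · refine subset_closure ⟨hα.1, Or.inl fun a ha => ?_⟩
      have h3 : (g⁻¹ * α * g) • a = a := by
        refine hP.st F hJ ha (mul_mem (mul_mem (inv_mem hg) hα.2) hg) ?_
        have h4 := h1 a ha
        have h5 : ((g⁻¹ * α * g) • a) * a⁻¹ = g⁻¹ • ((α • g • a) * (g • a)⁻¹) := by
          rw [smul_mul', smul_inv', inv_smul_smul, mul_smul, mul_smul]
        rw [h5, h4 _ (inv_mem hg)]
        exact h4
      calc α • g • a = g • (g⁻¹ * α * g) • a := by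
            rw [smul_smul, smul_smul]; congr 1; group
        _ = g • a := by rw [h3]
    · refine subset_closure ⟨hα.1, Or.inr fun a ha ha1 => ?_⟩
      rcases hP.dich F hJ hJl hns with ⟨J', hJ', hne, hJl'⟩ | ⟨huniq, ht⟩
      · obtain ⟨φ, hφ, h, hh, p1, p2, p3⟩ := hP.sepA F hJ hJl hJ' hne hJl' hg hα.2 h1 ha ha1
        refine ⟨g * h * g⁻¹, ?_, Or.inl ⟨φ, hφ, p1, p2, p3⟩⟩
        have e : g⁻¹ * (g * h * g⁻¹) * g = h := by group
        rw [e]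
        exact oj_le' hh
      · obtain ⟨q1, q2, q3⟩ := hP.uniq_case F hA hJ hJl huniq
        have hok := hΦ J hJ q1 q2 ht q3
        obtain ⟨φ, hφ, h, hh, p1, p2, p3⟩ := h2 q1 q2 ht q3 (Φ J) hok.mul hok.inv hok.f1 hok.ti hok.alt a ha ha1
        refine ⟨g * h * g⁻¹, ?_, Or.inr ⟨J, hJ, ?_, ?_, ?_, φ, hφ, p1, p2, p3⟩⟩
        · have e : g⁻¹ * (g * h * g⁻¹) * g = h := by group
          rw [e]
          exact oj_le' hh
        · exact smul_em hg (q2 ha)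
        · exact comm_mem_em hα.2 _
        · exact comm_mem_em (mul_mem (mul_mem hg (oj_le hh)) (inv_mem hg)) _
  refine (hP.prod A hA).trans ((closure_le _).2 ?_)
  rintro α ⟨K, hK, hα⟩
  by_cases hKJ : K = J
  · rw [hKJ] at hα
    exact key hα
  · refine subset_closure ⟨hα.1, Or.inl fun a ha => ?_⟩
    have h1 := hP.comm K hK J hJ hKJ α hα.2 g hg
    calc α • g • a = g • α • a := by rw [smul_smul, smul_smul, h1]
      _ = g • a := by rw [hA.fix hα.1 ha]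

end Cfsg.Agent.Omega.NO3S.FarQ
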